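import Groth.Agent.ArtfunDeform.Formal
import Mathlib.RingTheory.MvPowerSeries.Equiv
import Mathlib.RingTheory.AdicCompletion.Completeness
import Mathlib.RingTheory.AdicCompletion.LocalRing
import Mathlib.RingTheory.AdicCompletion.Functoriality
import Mathlib.RingTheory.Polynomial.Basic
import Mathlib.Algebra.MvPolynomial.PDeriv
import Mathlib.RingTheory.FiniteType
import Mathlib.LinearAlgebra.FiniteDimensional.Basic

/-!
Completions as coefficient rings; a smooth coefficient ring with prescribed tangent space.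
-/

set_option linter.style.haveILetI false
set_option linter.style.longLine false

universe u v

open CategoryTheory

namespace Groth.ArtfunDeform

open ArtFun ArtFun.Art

section Noetherian

/-- Adic completions of Noetherian rings are Noetherian. -/
theorem isNoetherianRing_completion {R : Type u} [CommRing R] [IsNoetherianRing R] (I : Ideal R) :
    IsNoetherianRing (AdicCompletion I R) := by
  obtain ⟨n, a, ha⟩ := Submodule.fg_iff_exists_fin_generating_family.1 I.fg_of_isNoetherianRing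
  let C := AdicCompletion I R
  let J : Ideal C := I.map (algebraMap R C)
  haveI : IsAdicComplete J C := AdicCompletion.isAdicComplete_self I I.fg_of_isNoetherianRing
  let M := MvPolynomial (Fin n) R
  let K := MvPolynomial.idealOfVars (Fin n) R
  let ψ : M →+* C := MvPolynomial.eval₂Hom (algebraMap R C) (fun i => algebraMap R C (a i))
  have hψ : K.map ψ = J := by
    have hI : I = Ideal.span (Set.range a) := ha.symm
    simp only [J, hI, K, MvPolynomial.idealOfVars, Ideal.map_span, ← Set.range_comp]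
    congr 2
    funext i
    exact MvPolynomial.eval₂Hom_X' _ _ i
  let f : (m : ℕ) → MvPowerSeries (Fin n) R →+* C ⧸ J ^ m := fun m =>
    ((Ideal.quotientMap (J ^ m) ψ (by
        rw [← Ideal.map_le_iff_le_comap, Ideal.map_pow, hψ])).comp
      (AdicCompletion.evalₐ K m).toRingHom).comp (MvPowerSeries.toAdicCompletion (Fin n) R).toRingHom
  have hf : ∀ {l m : ℕ} (h : l ≤ m), (Ideal.Quotient.factorPow J h).comp (f m) = f l := by
    intro l m h
    refine RingHom.ext fun x => ?_
    simp only [f, RingHom.coe_comp, Function.comp_apply]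
    generalize (MvPowerSeries.toAdicCompletion (Fin n) R).toRingHom x = z
    obtain ⟨y, hy⟩ := Ideal.Quotient.mk_surjective ((AdicCompletion.evalₐ K m).toRingHom z)
    have hl : (AdicCompletion.evalₐ K l).toRingHom z = Ideal.Quotient.mk (K ^ l) y := by
      obtain ⟨c, rfl⟩ := AdicCompletion.mk_surjective K M z
      change AdicCompletion.evalₐ K l _ = _
      have hy' : Ideal.Quotient.mk (K ^ m) y = AdicCompletion.evalₐ K m (AdicCompletion.mk K M c) := hy
      rw [AdicCompletion.evalₐ_mk, Ideal.Quotient.eq] at hy' ⊢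
      have hc : c.1 l - c.1 m ∈ K ^ l := by
        have := c.2 h
        rw [SModEq.sub_mem, smul_eq_mul, Ideal.mul_top] at this
        exact this
      have := Ideal.sub_mem _ hc (Ideal.pow_le_pow_right h hy')
      rwa [show c.1 l - c.1 m - (y - c.1 m) = c.1 l - y by ring] at this
    rw [← hy, hl]
    rfl
  let φ := IsAdicComplete.liftRingHom J f hf
  have hφ : ∀ p : M, φ (p : MvPowerSeries (Fin n) R) = ψ p := by
    intro p
    refine IsHausdorff.eq_iff_smodEq (I := J).2 fun m => ?_
    rw [SModEq.sub_mem, smul_eq_mul, Ideal.mul_top, ← Ideal.Quotient.eq]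
    rw [IsAdicComplete.mk_liftRingHom]
    simp only [f, RingHom.coe_comp, Function.comp_apply, AlgHom.toRingHom_eq_coe, RingHom.coe_coe]
    rw [MvPowerSeries.toAdicCompletion_coe, AdicCompletion.evalₐ_of]
    rfl
  let I₀ : Ideal (MvPowerSeries (Fin n) R) := Ideal.span (Set.range MvPowerSeries.X)
  have hI₀ : I₀.map φ = J := by
    rw [← hψ]
    simp only [I₀, K, MvPolynomial.idealOfVars, Ideal.map_span, ← Set.range_comp]
    congr 2
    funext i
    simp only [Function.comp_apply, ← hφ, MvPolynomial.coe_X]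
  have hsurj : Function.Surjective φ := by
    haveI : IsPrecomplete I₀ (MvPowerSeries (Fin n) R) :=
      (inferInstance : IsAdicComplete I₀ (MvPowerSeries (Fin n) R)).toIsPrecomplete
    haveI : IsHausdorff (I₀.map φ) C := by rw [hI₀]; exact IsAdicComplete.toIsHausdorff
    refine surjective_of_mk_map_comp_surjective (I := I₀) φ ?_
    intro z
    obtain ⟨x, rfl⟩ := Ideal.Quotient.mk_surjective z
    obtain ⟨r, hr⟩ := Ideal.Quotient.mk_surjective (AdicCompletion.evalOneₐ I x)
    refine ⟨((MvPolynomial.C r : M) : MvPowerSeries (Fin n) R), Ideal.Quotient.eq.2 ?_⟩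
    rw [hφ, hI₀]
    have h1 : x - algebraMap R C r ∈ RingHom.ker (AdicCompletion.evalOneₐ I).toRingHom := by
      change (AdicCompletion.evalOneₐ I) (x - algebraMap R C r) = 0
      rw [map_sub, AlgHom.commutes, ← hr]
      exact sub_self _
    rw [AdicCompletion.ker_evalOneₐ_eq_map I I.fg_of_isNoetherianRing] at h1
    have := Ideal.neg_mem_iff J |>.2 h1
    rw [neg_sub] at this
    rw [show ψ (MvPolynomial.C r) = algebraMap R C r from MvPolynomial.eval₂Hom_C _ _ r]
    exact this
  exact isNoetherianRing_of_surjective (MvPowerSeries (Fin n) R) C φ hsurj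

end Noetherian

variable {Λ : Type u} {k : Type u} [CommRing Λ] [Field k] [Algebra Λ k]

local notation "𝔪" => IsLocalRing.maximalIdeal

section Compl

/-- The completion at an augmentation is a coefficient ring with the expected universal property. -/
theorem exists_cring_completion {S : Type u} [CommRing S] [Algebra Λ S] [IsNoetherianRing S]
    (π : S →ₐ[Λ] k) (hπ : Function.Surjective π) :
    ∃ (C : CRing Λ k) (ι : S →ₐ[Λ] C.carrier) (_ : C.res.comp ι = π), ∀ A : Art Λ k,
      ∀ ψ : HomSet S π A, ∃! φ : HomSet C.carrier C.res A, φ.1.comp ι = ψ.1 := by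
  let P : Ideal S := RingHom.ker π
  haveI hmax : P.IsMaximal := RingHom.ker_isMaximal_of_surjective π.toRingHom hπ
  have hfg : P.FG := P.fg_of_isNoetherianRing
  let T := AdicCompletion P S
  let J : Ideal T := P.map (algebraMap S T)
  haveI : J.IsMaximal := AdicCompletion.isMaximal_map_of_le P P le_rfl hfg
  haveI : IsAdicComplete J T := AdicCompletion.isAdicComplete_self P hfg
  haveI : IsLocalRing T := isLocalRing_of_isAdicComplete_maximal J
  haveI : IsNoetherianRing T := isNoetherianRing_completion P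
  have hJm : 𝔪 T = J := (IsLocalRing.eq_maximalIdeal ‹J.IsMaximal›).symm
  let e₁ : T →ₐ[Λ] S ⧸ P := (AdicCompletion.evalOneₐ P).restrictScalars Λ
  let r : T →ₐ[Λ] k := (Ideal.kerLiftAlg π).comp e₁
  have hι : ∀ s : S, r (algebraMap S T s) = π s := fun s => by
    change Ideal.kerLiftAlg π (AdicCompletion.evalOneₐ P (algebraMap S T s)) = π s
    rw [AlgHom.commutes]
    rfl
  let C : CRing Λ k :=
    { carrier := T
      res := r
      res_surjective := fun c => by
        obtain ⟨s, hs⟩ := hπ c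
        exact ⟨algebraMap S T s, (hι s).trans hs⟩
      isAdicComplete := by rw [hJm]; infer_instance }
  let ι : S →ₐ[Λ] C.carrier := IsScalarTower.toAlgHom Λ S T
  refine ⟨C, ι, AlgHom.ext hι, fun A ψ => ?_⟩
  obtain ⟨N, hN⟩ := exists_pow_maximalIdeal_eq_bot A
  have hker : ∀ s ∈ P ^ (N + 1), ψ.1 s = 0 := fun s hs => by
    have h1 : P.map ψ.1 ≤ 𝔪 A := Ideal.map_le_iff_le_comap.2 fun x hx => by
      rw [Ideal.mem_comap, A.mem_maximalIdeal_iff, homSet_res]
      exact hx
    have : ψ.1 s ∈ (𝔪 A) ^ (N + 1) :=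
      Ideal.pow_right_mono h1 (N + 1) (by rw [← Ideal.map_pow]; exact Ideal.mem_map_of_mem _ hs)
    rwa [hN, Ideal.mem_bot] at this
  let φ₀ : T →ₐ[Λ] A :=
    (Ideal.Quotient.liftₐ (P ^ (N + 1)) ψ.1 hker).comp ((AdicCompletion.evalₐ P (N + 1)).restrictScalars Λ)
  have hφ₀ : φ₀.comp ι = ψ.1 := AlgHom.ext fun s => by
    change Ideal.Quotient.liftₐ _ ψ.1 hker (AdicCompletion.evalₐ P (N + 1) (algebraMap S T s)) = _
    rw [AlgHom.commutes]
    rfl
  have dense : ∀ x : T, ∃ s : S, x - algebraMap S T s ∈ 𝔪 T ^ (N + 1) := by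
    intro x
    obtain ⟨s, hs⟩ := Ideal.Quotient.mk_surjective (AdicCompletion.evalₐ P (N + 1) x)
    refine ⟨s, ?_⟩
    have h1 : AdicCompletion.evalₐ P (N + 1) (x - algebraMap S T s) = 0 := by
      rw [map_sub, AlgHom.commutes, ← hs]
      exact sub_self _
    have h3 : x - algebraMap S T s ∈ (AdicCompletion.eval P S (N + 1)).ker := by
      rw [LinearMap.mem_ker, ← AdicCompletion.factor_evalₐ_eq_eval P (x - algebraMap S T s)
        (by rw [smul_eq_mul, Ideal.mul_top]), h1, map_zero]
    rw [← AdicCompletion.pow_smul_top_eq_ker_eval hfg, Ideal.smul_top_eq_map,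
      Submodule.restrictScalars_mem, Ideal.map_pow] at h3
    rwa [hJm]
  have agree : ∀ (φ φ' : T →ₐ[Λ] A), (∀ x ∈ 𝔪 T, φ x ∈ 𝔪 A) → (∀ x ∈ 𝔪 T, φ' x ∈ 𝔪 A) →
      (∀ s, φ (algebraMap S T s) = φ' (algebraMap S T s)) → φ = φ' := by
    intro φ φ' h h' hs
    refine AlgHom.ext fun x => ?_
    obtain ⟨s, hx⟩ := dense x
    have z : ∀ (g : T →ₐ[Λ] A), (∀ x ∈ 𝔪 T, g x ∈ 𝔪 A) → g x = g (algebraMap S T s) := fun g hg => by
      have h1 : (𝔪 T).map g ≤ 𝔪 A := Ideal.map_le_iff_le_comap.2 hg
      have : g (x - algebraMap S T s) ∈ (𝔪 A) ^ (N + 1) :=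
        Ideal.pow_right_mono h1 (N + 1) (by rw [← Ideal.map_pow]; exact Ideal.mem_map_of_mem _ hx)
      rwa [hN, Ideal.mem_bot, map_sub, sub_eq_zero] at this
    rw [z φ h, z φ' h', hs]
  have hlocal : ∀ (φ : HomSet C.carrier C.res A), ∀ x ∈ 𝔪 T, φ.1 x ∈ 𝔪 A := fun φ x hx => by
    rw [A.mem_maximalIdeal_iff, homSet_res, ← CRing.mem_maximalIdeal_iff]
    exact hx
  have hφ₀loc : ∀ x ∈ 𝔪 T, φ₀ x ∈ 𝔪 A := by
    rw [hJm]
    change J ≤ (𝔪 A).comap φ₀
    rw [show J = P.map (algebraMap S T) from rfl, Ideal.map_le_iff_le_comap]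
    intro s hs
    rw [Ideal.mem_comap, Ideal.mem_comap, A.mem_maximalIdeal_iff,
      show φ₀ (algebraMap S T s) = ψ.1 s from congrArg (fun f : S →ₐ[Λ] A => f s) hφ₀, homSet_res]
    exact hs
  have hφres : A.res.comp φ₀ = C.res := by
    refine AlgHom.ext fun x => ?_
    obtain ⟨s, hx⟩ := dense x
    have hxm : x - algebraMap S T s ∈ 𝔪 T := Ideal.pow_le_self (Nat.succ_ne_zero N) hx
    have e1 : A.res (φ₀ (x - algebraMap S T s)) = 0 :=
      (A.mem_maximalIdeal_iff _).1 (hφ₀loc _ hxm)
    have e2 : C.res (x - algebraMap S T s) = 0 :=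
      (CRing.mem_maximalIdeal_iff C _).1 hxm
    rw [map_sub, map_sub, sub_eq_zero] at e1
    rw [map_sub, sub_eq_zero] at e2
    change A.res (φ₀ x) = C.res x
    rw [e1, e2, show φ₀ (algebraMap S T s) = ψ.1 s from congrArg (fun f : S →ₐ[Λ] A => f s) hφ₀,
      homSet_res]
    exact (hι s).symm
  refine ⟨⟨φ₀, hφres⟩, hφ₀, fun φ hφ => Subtype.ext ?_⟩
  exact agree φ.1 φ₀ (hlocal φ) hφ₀loc fun s =>
    congrArg (fun f : S →ₐ[Λ] A => f s) (hφ.trans hφ₀.symm)

end Compl

section FirstOrder

variable {ι : Type} [Fintype ι] {A : Type u} [CommRing A] [Algebra Λ A]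

lemma aeval_add_mul_of_sq_zero (a d : ι → A) (t : A) (ht : t * t = 0) (f : MvPolynomial ι Λ) :
    MvPolynomial.aeval (fun i => a i + d i * t) f =
      MvPolynomial.aeval a f + (∑ i, MvPolynomial.aeval a (MvPolynomial.pderiv i f) * d i) * t := by
  classical
  induction f using MvPolynomial.induction_on with
  | C c => simp
  | add p q hp hq =>
    simp only [map_add, add_mul, Finset.sum_add_distrib, hp, hq]
    ring
  | mul_X p j hp =>
    rw [map_mul, map_mul, hp, MvPolynomial.aeval_X, MvPolynomial.aeval_X]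
    have hs : ∑ i, MvPolynomial.aeval a (MvPolynomial.pderiv i (p * MvPolynomial.X j)) * d i =
        a j * (∑ i, MvPolynomial.aeval a (MvPolynomial.pderiv i p) * d i) +
          MvPolynomial.aeval a p * d j := by
      simp only [MvPolynomial.pderiv_mul, map_add, map_mul, MvPolynomial.aeval_X, add_mul,
        Finset.sum_add_distrib, Finset.mul_sum]
      congr 1
      · exact Finset.sum_congr rfl fun i _ => by ring
      · rw [Finset.sum_eq_single j]
        · simp
        · intro i _ hi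
          simp [MvPolynomial.pderiv_X, Pi.single_apply, Ne.symm hi]
        · simp
    rw [hs]
    linear_combination (∑ i, MvPolynomial.aeval a (MvPolynomial.pderiv i p) * d i) * d j * ht

end FirstOrder

section SmoothBase

variable [IsNoetherianRing Λ] [Module.Finite Λ k]

/-- A finite type algebra over `Λ` whose completion at `k` is smooth with tangent space `Der_Λ(k, k)`. -/
theorem exists_smooth_base :
    ∃ (S : Type u) (_ : CommRing S) (_ : Algebra Λ S) (_ : IsNoetherianRing S) (π : S →ₐ[Λ] k),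
      Function.Surjective π ∧
      (∀ ⦃B A : Art Λ k⦄ (μ : B ⟶ A), IsSmallExt μ → ∀ φ : HomSet S π A,
        ∃ ψ : HomSet S π B, HomSet.map μ ψ = φ) ∧
      (∀ φ : HomSet S π (dual Λ k), ∃ σ : base Λ k ⟶ dual Λ k, ∀ s, φ.1 s = σ (π s)) := by
  classical
  obtain ⟨r, q, hq⟩ := Algebra.FiniteType.iff_quotient_mvPolynomial''.1 (inferInstance : Algebra.FiniteType Λ k)
  let M := MvPolynomial (Fin r) Λ
  let α : Fin r → k := fun i => q (MvPolynomial.X i)
  have hqα : q = MvPolynomial.aeval α := MvPolynomial.algHom_ext fun i => by simp [α]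
  let grad : M → Fin r → k := fun f i => q (MvPolynomial.pderiv i f)
  have grad_mul : ∀ (g f : M), q f = 0 → grad (g * f) = q g • grad f := fun g f hf => by
    funext i
    simp [grad, MvPolynomial.pderiv_mul, hf]
  let U : Submodule k (Fin r → k) :=
    { carrier := grad '' {f | q f = 0}
      zero_mem' := ⟨0, map_zero q, by funext i; simp [grad]⟩
      add_mem' := by
        rintro _ _ ⟨f, hf, rfl⟩ ⟨g, hg, rfl⟩
        have hf : q f = 0 := hf
        have hg : q g = 0 := hg
        exact ⟨f + g, by change q (f + g) = 0; rw [map_add, hf, hg, add_zero], by funext i; simp [grad]⟩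
      smul_mem' := by
        rintro c _ ⟨f, hf, rfl⟩
        have hf : q f = 0 := hf
        obtain ⟨g, rfl⟩ := hq c
        exact ⟨g * f, by change q (g * f) = 0; rw [map_mul, hf, mul_zero], grad_mul g f hf⟩ }
  let bU := Module.finBasis k U
  have hlift : ∀ j, ∃ f : M, q f = 0 ∧ grad f = (bU j : Fin r → k) := fun j => by
    obtain ⟨f, hf, e⟩ := (bU j).2
    exact ⟨f, hf, e⟩
  choose F hF0 hFg using hlift
  let I : Ideal M := Ideal.span (Set.range F)
  have hI : ∀ f ∈ I, q f = 0 := fun f hf => by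
    have : I ≤ RingHom.ker q := Ideal.span_le.2 (by rintro _ ⟨j, rfl⟩; exact hF0 j)
    exact this hf
  have hFI : ∀ j, Ideal.Quotient.mk I (F j) = 0 := fun j =>
    Ideal.Quotient.eq_zero_iff_mem.2 (Ideal.subset_span ⟨j, rfl⟩)
  let π : (M ⧸ I) →ₐ[Λ] k := Ideal.Quotient.liftₐ I q hI
  have hπ : Function.Surjective π := fun c => (hq c).elim fun f hf => ⟨Ideal.Quotient.mk I f, hf⟩
  refine ⟨M ⧸ I, inferInstance, inferInstance, inferInstance, π, hπ, ?_, ?_⟩
  · intro B A μ hμ φ
    obtain ⟨t, hker⟩ := hμ.2.2.1.principal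
    change RingHom.ker μ.toAlgHom = Ideal.span {t} at hker
    have htm : t ∈ 𝔪 B := ker_le_maximalIdeal μ (map_gen hker)
    have htt : t * t = 0 := socle_mul hμ (map_gen hker) htm
    choose a ha using fun i => hμ.1 (φ.1 (Ideal.Quotient.mk I (MvPolynomial.X i)))
    have hcomp : ∀ f : M, μ (MvPolynomial.aeval a f) = φ.1 (Ideal.Quotient.mk I f) := fun f => by
      have : μ.toAlgHom.comp (MvPolynomial.aeval a) = φ.1.comp (Ideal.Quotient.mkₐ Λ I) :=
        MvPolynomial.algHom_ext fun i => by simp [ha]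
      exact congrArg (fun g : M →ₐ[Λ] A => g f) this
    have hres : ∀ f : M, B.res (MvPolynomial.aeval a f) = q f := fun f => by
      rw [← res_app μ, hcomp, homSet_res]
      rfl
    have hc : ∀ j, ∃ c : B, c * t = MvPolynomial.aeval a (F j) := fun j => by
      refine Ideal.mem_span_singleton'.1 (hker.le ?_)
      change μ (MvPolynomial.aeval a (F j)) = 0
      rw [hcomp, hFI, map_zero]
    choose c hc using hc
    obtain ⟨ℓ, hℓ⟩ := (bU.constr k fun j => -B.res (c j)).exists_extend
    choose d hd using fun i => B.res_surjective (ℓ (Pi.single i 1))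
    have hzero : ∀ j, MvPolynomial.aeval (fun i => a i + d i * t) (F j) = 0 := fun j => by
      rw [aeval_add_mul_of_sq_zero a d t htt, ← hc j, ← add_mul]
      refine socle_mul hμ (map_gen hker) ((B.mem_maximalIdeal_iff _).2 ?_)
      rw [map_add, map_sum]
      simp only [map_mul, hres, hd]
      have h1 : ℓ (grad (F j)) = -B.res (c j) := by
        rw [hFg]
        have := LinearMap.congr_fun hℓ (bU j)
        simpa using this
      have h2 : ℓ (grad (F j)) = ∑ i, q (MvPolynomial.pderiv i (F j)) * ℓ (Pi.single i 1) := by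
        conv_lhs => rw [pi_eq_sum_univ' (grad (F j))]
        rw [map_sum]
        exact Finset.sum_congr rfl fun i _ => by rw [map_smul, smul_eq_mul]
      rw [← h2, h1, add_neg_cancel]
    let ψ₀ : (M ⧸ I) →ₐ[Λ] B := Ideal.Quotient.liftₐ I (MvPolynomial.aeval fun i => a i + d i * t) fun f hf => by
      have : I ≤ RingHom.ker (MvPolynomial.aeval (R := Λ) fun i => a i + d i * t) :=
        Ideal.span_le.2 (by rintro _ ⟨j, rfl⟩; exact hzero j)
      exact this hf
    have hψμ : μ.toAlgHom.comp ψ₀ = φ.1 := by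
      refine Ideal.Quotient.algHom_ext Λ (MvPolynomial.algHom_ext fun i => ?_)
      change μ.toAlgHom (MvPolynomial.aeval _ (MvPolynomial.X i)) = _
      rw [MvPolynomial.aeval_X, map_add, map_mul, map_gen hker, mul_zero, add_zero, ha]
      rfl
    refine ⟨⟨ψ₀, ?_⟩, Subtype.ext hψμ⟩
    rw [← μ.res_comp, AlgHom.comp_assoc, hψμ, φ.2]
  · intro φ
    let δ : Fin r → k := fun i => TrivSqZeroExt.snd (φ.1 (Ideal.Quotient.mk I (MvPolynomial.X i)))
    let inl' : k →ₐ[Λ] DualNumber k := (Algebra.ofId k (DualNumber k)).restrictScalars Λ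
    have hi : ∀ c : k, inl' c = TrivSqZeroExt.inl c := fun c => rfl
    have he : ∀ a b : k, TrivSqZeroExt.fst (inl' a + inl' b * DualNumber.eps) = a ∧
        TrivSqZeroExt.snd (inl' a + inl' b * DualNumber.eps) = b := fun a b => by
      simp [hi, TrivSqZeroExt.fst_add, TrivSqZeroExt.snd_add, DualNumber.fst_eps, DualNumber.snd_eps]
    let Φ : M →ₐ[Λ] DualNumber k :=
      MvPolynomial.aeval fun i => inl' (α i) + inl' (δ i) * DualNumber.eps
    have hΦ : ∀ f : M, φ.1 (Ideal.Quotient.mk I f) = Φ f := fun f => by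
      refine congrArg (fun g : M →ₐ[Λ] DualNumber k => g f)
        (show (φ.1.comp (Ideal.Quotient.mkₐ Λ I) : M →ₐ[Λ] DualNumber k) = Φ from
          MvPolynomial.algHom_ext fun i => ?_)
      have h1 : (dual Λ k).res (φ.1 (Ideal.Quotient.mk I (MvPolynomial.X i))) = α i :=
        (homSet_res φ _).trans rfl
      exact Eq.trans (α := DualNumber k)
        (TrivSqZeroExt.ext (h1.trans (he (α i) (δ i)).1.symm) (he (α i) (δ i)).2.symm)
        (MvPolynomial.aeval_X (fun i => inl' (α i) + inl' (δ i) * DualNumber.eps) i).symm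
    have hval : ∀ f : M, Φ f = inl' (q f) + inl' (∑ i, grad f i * δ i) * DualNumber.eps := fun f => by
      have e0 : ∀ g : M, MvPolynomial.aeval (fun i => inl' (α i)) g = inl' (q g) := fun g => by
        rw [hqα]
        exact MvPolynomial.comp_aeval_apply α inl' g |>.symm
      simp only [Φ]
      rw [aeval_add_mul_of_sq_zero _ _ _ DualNumber.eps_mul_eps, e0]
      simp [e0, grad, map_sum]
    have hzero : ∀ f : M, q f = 0 → Φ f = 0 := by
      intro f hf
      have hU : grad f ∈ U := ⟨f, hf, rfl⟩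
      let L : (Fin r → k) →ₗ[k] k := ∑ i, (δ i) • LinearMap.proj i
      have hL : ∀ v, L v = ∑ i, v i * δ i := fun v => by simp [L, mul_comm]
      have hLU : L.comp U.subtype = 0 := bU.ext fun j => by
        have h2 := hΦ (F j)
        rw [hFI, map_zero, hval, hF0] at h2
        have h3 := congrArg TrivSqZeroExt.snd h2
        simp only [LinearMap.comp_apply, Submodule.subtype_apply, LinearMap.zero_apply, hL, ← hFg]
        rw [(he _ _).2] at h3
        exact h3.symm.trans TrivSqZeroExt.snd_zero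
      have h4 : ∑ i, grad f i * δ i = 0 := by
        rw [← hL]
        exact LinearMap.congr_fun hLU ⟨grad f, hU⟩
      rw [hval, hf, h4]
      simp
    let σ₀ : k →ₐ[Λ] DualNumber k :=
      (Ideal.Quotient.liftₐ (RingHom.ker q) Φ hzero).comp
        (Ideal.quotientKerAlgEquivOfSurjective hq).symm.toAlgHom
    have hσ₀ : ∀ f : M, σ₀ (q f) = Φ f := fun f => by
      have : (Ideal.quotientKerAlgEquivOfSurjective hq).symm (q f) = Ideal.Quotient.mk (RingHom.ker q) f :=
        (AlgEquiv.symm_apply_eq _).2 rfl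
      simp only [σ₀, AlgHom.comp_apply, AlgEquiv.toAlgHom_eq_coe, AlgEquiv.coe_toAlgHom, this]
      rfl
    refine ⟨⟨σ₀, AlgHom.ext fun c => ?_⟩, fun s => ?_⟩
    · obtain ⟨f, rfl⟩ := hq c
      change (dual Λ k).res (σ₀ (q f)) = q f
      rw [hσ₀, ← hΦ, homSet_res]
      rfl
    · obtain ⟨f, rfl⟩ := Ideal.Quotient.mk_surjective s
      exact (hΦ f).trans (hσ₀ f).symm

end SmoothBase

section Free

variable [IsNoetherianRing Λ] [Module.Finite Λ k]

/-- The unit vector `ε_i` of `k ⊕ k^n`. -/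
def tszeGen {n : ℕ} (i : Fin n) : tszeArt Λ k (Fin n → k) :=
  (TrivSqZeroExt.inr (Pi.single i (1 : k)) : TrivSqZeroExt k (Fin n → k))

/-- A smooth coefficient ring surjecting onto `k ⊕ k^n` and with the same tangent space. -/
theorem exists_free_cring (n : ℕ) :
    ∃ (P : CRing Λ k) (e : HomSet P.carrier P.res (tszeArt Λ k (Fin n → k))),
      IsSmoothFunctor (hR P.carrier P.res) ∧ Function.Surjective e.1 ∧
      ∀ φ : HomSet P.carrier P.res (dual Λ k),
        ∃ u : tszeArt Λ k (Fin n → k) ⟶ dual Λ k, HomSet.map u e = φ := by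
  classical
  obtain ⟨S, _, _, _, π, hπ, hsm, htg⟩ := exists_smooth_base (Λ := Λ) (k := k)
  let T := MvPolynomial (Fin n) S
  let πT : T →ₐ[Λ] k := MvPolynomial.aevalTower π (fun _ => (0 : k))
  have hπT : Function.Surjective πT := fun c => (hπ c).elim fun s hs =>
    ⟨MvPolynomial.C s, (MvPolynomial.aevalTower_C _ _ s).trans hs⟩
  obtain ⟨P, ι, hι, huniv⟩ := exists_cring_completion πT hπT
  have mkHom : ∀ (A : Art Λ k) (ψ : HomSet S π A) (y : Fin n → A), (∀ i, A.res (y i) = 0) →
      ∃ φ : HomSet P.carrier P.res A, (∀ s, φ.1 (ι (MvPolynomial.C s)) = ψ.1 s) ∧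
        ∀ i, φ.1 (ι (MvPolynomial.X i)) = y i := by
    intro A ψ y hy
    have h : A.res.comp (MvPolynomial.aevalTower ψ.1 y) = πT := by
      refine MvPolynomial.algHom_ext' ?_ fun i => ?_
      · refine AlgHom.ext fun s => ?_
        simp [πT, homSet_res]
      · simp [πT, hy]
    obtain ⟨φ, hφ, -⟩ := huniv A ⟨_, h⟩
    refine ⟨φ, fun s => ?_, fun i => ?_⟩
    · exact (congrArg (fun g : T →ₐ[Λ] A => g (MvPolynomial.C s)) hφ).trans
        (MvPolynomial.aevalTower_C _ _ _)
    · exact (congrArg (fun g : T →ₐ[Λ] A => g (MvPolynomial.X i)) hφ).trans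
        (MvPolynomial.aevalTower_X _ _ _)
  have ext' : ∀ (A : Art Λ k) (φ φ' : HomSet P.carrier P.res A),
      (∀ s, φ.1 (ι (MvPolynomial.C s)) = φ'.1 (ι (MvPolynomial.C s))) →
      (∀ i, φ.1 (ι (MvPolynomial.X i)) = φ'.1 (ι (MvPolynomial.X i))) → φ = φ' := by
    intro A φ φ' h1 h2
    have h : A.res.comp (φ.1.comp ι) = πT := by rw [← AlgHom.comp_assoc, φ.2, hι]
    refine (huniv A ⟨_, h⟩).unique rfl ?_
    refine MvPolynomial.algHom_ext' (AlgHom.ext fun s => (h1 s).symm) fun i => (h2 i).symm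
  have restr : ∀ (A : Art Λ k) (φ : HomSet P.carrier P.res A),
      ∃ ψ : HomSet S π A, (∀ s, ψ.1 s = φ.1 (ι (MvPolynomial.C s))) ∧
        ∀ i, A.res (φ.1 (ι (MvPolynomial.X i))) = 0 := by
    intro A φ
    have h : A.res.comp (φ.1.comp ι) = πT := by rw [← AlgHom.comp_assoc, φ.2, hι]
    refine ⟨⟨(φ.1.comp ι).comp (IsScalarTower.toAlgHom Λ S T), AlgHom.ext fun s => ?_⟩, fun s => rfl,
      fun i => ?_⟩
    · exact (congrArg (fun g : T →ₐ[Λ] k => g (MvPolynomial.C s)) h).trans
        (MvPolynomial.aevalTower_C _ _ _)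
    · exact (congrArg (fun g : T →ₐ[Λ] k => g (MvPolynomial.X i)) h).trans
        (MvPolynomial.aevalTower_X _ _ _)
  let E := tszeArt Λ k (Fin n → k)
  let bE : base Λ k ⟶ E :=
    ⟨(Algebra.ofId k (TrivSqZeroExt k (Fin n → k))).restrictScalars Λ, AlgHom.ext fun _ => rfl⟩
  have hb : E.res.comp (bE.toAlgHom.comp π) = π := AlgHom.ext fun s => res_app bE (π s)
  obtain ⟨e, he1, he2⟩ := mkHom E ⟨bE.toAlgHom.comp π, hb⟩ tszeGen (fun i => rfl)
  refine ⟨P, e, ?_, ?_, ?_⟩
  · intro B A μ hμ
    refine surj_induction (P := fun A B μ => Function.Surjective ((hR P.carrier P.res).map μ)) ?_ ?_ ?_ μ hμ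
    · intro A B e' he'
      exact (bijective_map_of_isIso (hR P.carrier P.res) e').2
    · intro A B p hp φ
      obtain ⟨ψ, hψ, hy⟩ := restr A φ
      obtain ⟨ψ', hψ'⟩ := hsm p hp ψ
      choose y hyl using fun i => hp.1 (φ.1 (ι (MvPolynomial.X i)))
      obtain ⟨χ, hχ1, hχ2⟩ := mkHom B ψ' y (fun i => by rw [← res_app p, hyl, hy])
      refine ⟨χ, ext' A _ _ (fun s => ?_) fun i => ?_⟩
      · change p (χ.1 (ι (MvPolynomial.C s))) = _
        rw [hχ1, ← hψ s, ← hψ']
        rfl
      · change p (χ.1 (ι (MvPolynomial.X i))) = _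
        rw [hχ2, hyl]
    · intro A B C p q hp hq
      rw [show ⇑(ConcreteCategory.hom ((hR P.carrier P.res).map (p ≫ q))) =
        (hR P.carrier P.res).map q ∘ (hR P.carrier P.res).map p from funext fun x =>
          (map_map (hR P.carrier P.res) p q x).symm]
      exact hq.comp hp
  · intro z
    obtain ⟨c, hc⟩ := hπ (TrivSqZeroExt.fst (show TrivSqZeroExt k (Fin n → k) from z))
    choose d hd using fun i => hπ (TrivSqZeroExt.snd (show TrivSqZeroExt k (Fin n → k) from z) i)
    refine ⟨ι (MvPolynomial.C c + ∑ i, MvPolynomial.C (d i) * MvPolynomial.X i), ?_⟩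
    simp only [map_add, map_sum, map_mul, he1, he2]
    change ((algebraMap k (TrivSqZeroExt k (Fin n → k))) (π c) +
      ∑ i, (algebraMap k (TrivSqZeroExt k (Fin n → k))) (π (d i)) *
        TrivSqZeroExt.inr (Pi.single i (1 : k)) : TrivSqZeroExt k (Fin n → k)) = z
    refine TrivSqZeroExt.ext ?_ ?_
    · rw [TrivSqZeroExt.fst_add, TrivSqZeroExt.fst_sum]
      simp [TrivSqZeroExt.algebraMap_eq_inl, hc]
    · rw [TrivSqZeroExt.snd_add, TrivSqZeroExt.snd_sum]
      funext j
      simp [TrivSqZeroExt.algebraMap_eq_inl, hd, Finset.sum_apply, Pi.single_apply]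
  · intro φ
    obtain ⟨ψ, hψ, hy⟩ := restr (dual Λ k) φ
    obtain ⟨σ, hσ⟩ := htg ψ
    let δ : Fin n → k := fun i => TrivSqZeroExt.snd (φ.1 (ι (MvPolynomial.X i)))
    have hsnd : ∀ c d : k, TrivSqZeroExt.snd (σ (c * d : k)) =
        c * TrivSqZeroExt.snd (σ d) + d * TrivSqZeroExt.snd (σ c) := fun c d => by
      have hfst : ∀ x : k, TrivSqZeroExt.fst (σ x) = x := fun x => res_app σ x
      refine (congrArg TrivSqZeroExt.snd (map_mul σ.toAlgHom c d)).trans ?_
      change TrivSqZeroExt.fst (σ c) • TrivSqZeroExt.snd (σ d) +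
        MulOpposite.op (TrivSqZeroExt.fst (σ d)) • TrivSqZeroExt.snd (σ c) = _
      rw [hfst, hfst, op_smul_eq_smul, smul_eq_mul, smul_eq_mul]
    have hsnd0 : ∀ c d : k, TrivSqZeroExt.snd (σ (c + d : k)) =
        TrivSqZeroExt.snd (σ c) + TrivSqZeroExt.snd (σ d) := fun c d =>
      congrArg TrivSqZeroExt.snd (map_add σ.toAlgHom c d)
    let ℓ : TrivSqZeroExt k (Fin n → k) → k := fun z =>
      TrivSqZeroExt.snd (σ (TrivSqZeroExt.fst z : k)) + ∑ i, TrivSqZeroExt.snd z i * δ i
    have ladd : ∀ x y : TrivSqZeroExt k (Fin n → k), ℓ (x + y) = ℓ x + ℓ y := fun x y => by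
      simp only [ℓ, TrivSqZeroExt.fst_add, TrivSqZeroExt.snd_add, hsnd0, Pi.add_apply, add_mul,
        Finset.sum_add_distrib]
      abel
    have lmul : ∀ x y : TrivSqZeroExt k (Fin n → k), ℓ (x * y) =
        TrivSqZeroExt.fst x * ℓ y + TrivSqZeroExt.fst y * ℓ x := fun x y => by
      simp only [ℓ, TrivSqZeroExt.fst_mul, TrivSqZeroExt.snd_mul, hsnd, Pi.add_apply, Pi.smul_apply,
        op_smul_eq_smul, smul_eq_mul, add_mul, Finset.sum_add_distrib, mul_add, Finset.mul_sum, mul_assoc]
      abel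
    have lalg : ∀ l : Λ, ℓ (algebraMap Λ (TrivSqZeroExt k (Fin n → k)) l) = 0 := fun l => by
      have h1 : TrivSqZeroExt.snd (σ (algebraMap Λ k l)) = 0 :=
        (congrArg TrivSqZeroExt.snd (σ.toAlgHom.commutes l)).trans rfl
      simp only [ℓ, TrivSqZeroExt.algebraMap_eq_inl', TrivSqZeroExt.fst_inl, TrivSqZeroExt.snd_inl, h1]
      simp
    let u : E ⟶ dual Λ k := dualHom ℓ ladd lmul lalg
    refine ⟨u, ext' _ _ _ (fun s => ?_) fun i => ?_⟩
    · change u (e.1 (ι (MvPolynomial.C s))) = φ.1 (ι (MvPolynomial.C s))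
      rw [he1, ← hψ, hσ]
      refine TrivSqZeroExt.ext (res_app σ (π s)).symm ?_
      change TrivSqZeroExt.snd (σ (π s)) + ∑ j,
        TrivSqZeroExt.snd (algebraMap k (TrivSqZeroExt k (Fin n → k)) (π s)) j * δ j = _
      simp [TrivSqZeroExt.algebraMap_eq_inl]
    · change u (e.1 (ι (MvPolynomial.X i))) = φ.1 (ι (MvPolynomial.X i))
      rw [he2]
      refine TrivSqZeroExt.ext (hy i).symm ?_
      change TrivSqZeroExt.snd (σ (0 : k)) + ∑ j, (Pi.single i (1 : k) : Fin n → k) j * δ j = δ i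
      rw [show σ (0 : k) = 0 from map_zero σ.toAlgHom]
      simp [Pi.single_apply]
      exact TrivSqZeroExt.snd_zero

end Free

end Groth.ArtfunDeform
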