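import Groth.Agent.ArtfunDeform.SmoothPS

/-!
Consequences: power series rings over `Λ`, lifting for rings isomorphic to power series.
-/

set_option linter.style.haveILetI false
set_option linter.style.longLine false
set_option linter.unusedSectionVars false

universe u v

open CategoryTheory

namespace Groth.ArtfunDeform

open ArtFun ArtFun.Art MvPowerSeries

variable {Λ : Type u} {k : Type u} [CommRing Λ] [Field k] [Algebra Λ k]

local notation "𝔪" => IsLocalRing.maximalIdeal

/-- An isomorphism with a power series ring compatible with constants is compatible with residues. -/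
lemma res_comp_equiv (R S : CRing Λ k) {n : ℕ} (f : R.carrier →ₐ[Λ] S.carrier) (hf : S.res.comp f = R.res)
    (e : S.carrier ≃ₐ[Λ] (psRing R n).carrier) (he : ∀ a, e (f a) = psC R n a) :
    S.res.comp (e.symm : (psRing R n).carrier →ₐ[Λ] S.carrier) = (psRing R n).res := by
  have hX : ∀ i, S.res (e.symm (psX R i)) = 0 := fun i => by
    rw [← CRing.mem_maximalIdeal_iff, IsLocalRing.mem_maximalIdeal, mem_nonunits_iff]
    intro hu
    have h := hu.map e.toAlgHom
    change IsUnit (e (e.symm (psX R i))) at h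
    rw [AlgEquiv.apply_symm_apply] at h
    exact (IsLocalRing.mem_maximalIdeal _).1 (psX_mem R i) h
  refine eval_ext R (AlgHom.ext fun a => ?_) (fun i => ?_) (fun i => ?_)
  · change S.res (e.symm (psC R n a)) = (psRing R n).res (psC R n a)
    rw [← he, AlgEquiv.symm_apply_apply, res_comp_apply' f hf, he, res_comp_apply' (psC R n) (psC_res R n)]
  · change S.res (e.symm (psX R i)) = (psRing R n).res (psX R i)
    rw [hX, (CRing.mem_maximalIdeal_iff _ _).1 (psX_mem R i)]
  · change S.res (e.symm (psX R i)) ∈ 𝔪 k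
    rw [hX]
    exact zero_mem _

/-- Lifting for rings isomorphic to power series rings. -/
theorem exists_lift_of_equiv [Module.Finite Λ k] (R S : CRing Λ k) {n : ℕ} (f : R.carrier →ₐ[Λ] S.carrier)
    (hf : S.res.comp f = R.res) (e : S.carrier ≃ₐ[Λ] (psRing R n).carrier) (he : ∀ a, e (f a) = psC R n a)
    {B A : Art Λ k} (μ : B ⟶ A) (hμ : Function.Surjective μ) (φ : HomSet S.carrier S.res A)
    (y : HomSet R.carrier R.res B) (h : ∀ a, μ (y.1 a) = φ.1 (f a)) :
    ∃ ψ : HomSet S.carrier S.res B, HomSet.map μ ψ = φ ∧ ψ.1.comp f = y.1 := by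
  have hres := res_comp_equiv R S f hf e he
  have hres' : (psRing R n).res.comp (e : S.carrier →ₐ[Λ] (psRing R n).carrier) = S.res := AlgHom.ext fun s => by
    have := congrArg (fun t : (psRing R n).carrier →ₐ[Λ] k => t (e s)) hres
    simpa using this.symm
  obtain ⟨ψ, h1, h2⟩ := exists_lift_ps R μ hμ
    ⟨φ.1.comp (e.symm : (psRing R n).carrier →ₐ[Λ] S.carrier), by rw [← AlgHom.comp_assoc, φ.2, hres]⟩ y
    fun a => by
      refine (h a).trans (congrArg φ.1 ?_)
      change f a = e.symm (psC R n a)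
      rw [← he, AlgEquiv.symm_apply_apply]
  refine ⟨⟨ψ.1.comp (e : S.carrier →ₐ[Λ] (psRing R n).carrier), by rw [← AlgHom.comp_assoc, ψ.2, hres']⟩,
    homSet_ext fun s => ?_, AlgHom.ext fun a => ?_⟩
  · have := congrArg (fun t : HomSet (psRing R n).carrier (psRing R n).res A => t.1 (e s)) h1
    exact this.trans (congrArg φ.1 (e.symm_apply_apply s))
  · exact (congrArg ψ.1 (he a)).trans (congrArg (fun t : R.carrier →ₐ[Λ] B => t a) h2)

section Base

variable [IsNoetherianRing Λ] [IsLocalRing Λ] [IsAdicComplete (IsLocalRing.maximalIdeal Λ) Λ]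

/-- `Λ` as a coefficient ring. -/
noncomputable def baseRing (hk : Function.Surjective (algebraMap Λ k)) : CRing Λ k where
  carrier := Λ
  res := Algebra.ofId Λ k
  res_surjective := hk
  isAdicComplete := inferInstance

/-- The structure map. -/
noncomputable def fromBase (hk : Function.Surjective (algebraMap Λ k)) (R : CRing Λ k) :
    (baseRing hk).carrier →ₐ[Λ] R.carrier := Algebra.ofId Λ R.carrier

lemma fromBase_res (hk : Function.Surjective (algebraMap Λ k)) (R : CRing Λ k) :
    R.res.comp (fromBase hk R) = (baseRing hk).res := AlgHom.ext fun r => R.res.commutes r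

lemma equiv_fromBase (hk : Function.Surjective (algebraMap Λ k)) (R : CRing Λ k) {n : ℕ}
    (e : R.carrier ≃ₐ[Λ] (psRing (baseRing hk) n).carrier) (a : (baseRing hk).carrier) :
    e (fromBase hk R a) = psC (baseRing hk) n a :=
  (e.commutes a).trans ((psC (baseRing hk) n).commutes a).symm

theorem isSmoothFunctor_iff_ps [Module.Finite Λ k] (hk : Function.Surjective (algebraMap Λ k)) (R : CRing Λ k) :
    IsSmoothFunctor (hR R.carrier R.res) ↔ ∃ n : ℕ, Nonempty (R.carrier ≃ₐ[Λ] MvPowerSeries (Fin n) Λ) := by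
  constructor
  · intro h
    obtain ⟨n, θ, -, -, hθ⟩ := exists_ps_bijective (baseRing hk) R (fromBase hk R) (fromBase_res hk R)
      fun B A μ hμ φ y _ => by
        obtain ⟨ψ, hψ⟩ := h μ hμ φ
        exact ⟨ψ, hψ, AlgHom.ext fun a =>
          ((ψ : HomSet R.carrier R.res B).1.commutes a).trans (y.1.commutes a).symm⟩
    exact ⟨n, ⟨(AlgEquiv.ofBijective θ hθ).symm⟩⟩
  · rintro ⟨n, ⟨e⟩⟩ B A μ hμ φ
    obtain ⟨ψ, hψ, -⟩ := exists_lift_of_equiv (baseRing hk) R (fromBase hk R) (fromBase_res hk R) e
      (equiv_fromBase hk R e) μ hμ φ ⟨Algebra.ofId Λ B, AlgHom.ext fun r => B.res.commutes r⟩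
      fun a => (μ.toAlgHom.commutes a).trans ((φ : HomSet R.carrier R.res A).1.commutes a).symm
    exact ⟨ψ, hψ⟩

/-- A family over a power series ring bijective on tangents is a hull when a hull exists. -/
theorem isMiniversal_of_ps [Module.Finite Λ k] (hk : Function.Surjective (algebraMap Λ k))
    {F : Art Λ k ⥤ Type v} (hF : HasHull F) (R : CRing Λ k) {n : ℕ}
    (e : R.carrier ≃ₐ[Λ] MvPowerSeries (Fin n) Λ) (ξ : Family R.carrier R.res F)
    (hξ : Function.Bijective (ξ.app (dual Λ k))) : IsMiniversal ξ := by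
  obtain ⟨⟨H, η, hη⟩⟩ := hF
  have h0 : H0 F := by
    refine ⟨⟨η.app _ homSetBase⟩, ⟨fun a b => ?_⟩⟩
    obtain ⟨φ, hφ⟩ := hη.2.2 (F.map baseToDual a)
    obtain ⟨ψ, hψ⟩ := hη.2.2 (F.map baseToDual b)
    have key : ∀ (c : F.obj (base Λ k)) (χ : HomSet H.carrier H.res (dual Λ k)),
        η.app _ χ = F.map baseToDual c → c = η.app _ (homSetBase : HomSet H.carrier H.res (base Λ k)) := by
      intro c χ hχ
      have h1 := congrArg (F.map (toBase (dual Λ k))) hχ
      rw [app_natural, map_map, show baseToDual ≫ toBase (dual Λ k) = 𝟙 (base Λ k) from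
        hom_ext_apply fun z => rfl, map_id'] at h1
      rw [← h1]
      exact congrArg _ (Subsingleton.elim _ _)
    rw [key a φ hφ, key b ψ hψ]
  obtain ⟨g, hg, rfl⟩ := exists_along_eq η hη.1 h0 ξ
  have hgs : Function.Surjective g := surjective_of_along η g hg _ rfl hξ.1
  choose z hz using fun i : Fin n => hgs (e.symm (psX (baseRing hk) i))
  have hres := res_comp_equiv (baseRing hk) R (fromBase hk R) (fromBase_res hk R) e (equiv_fromBase hk R e)
  have hzm : ∀ i, z i ∈ 𝔪 H.carrier := fun i => by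
    rw [CRing.mem_maximalIdeal_iff, ← res_comp_apply' g hg, hz]
    exact (congrArg (fun t : (psRing (baseRing hk) n).carrier →ₐ[Λ] k => t (psX (baseRing hk) i)) hres).trans
      ((CRing.mem_maximalIdeal_iff _ _).1 (psX_mem (baseRing hk) i))
  obtain ⟨θ, -, hθX⟩ := exists_eval (baseRing hk) (Algebra.ofId Λ H.carrier) z hzm
  let s : R.carrier →ₐ[Λ] H.carrier := θ.comp e.toAlgHom
  have hgθ : g.comp θ = e.symm.toAlgHom := by
    refine eval_ext (baseRing hk) (AlgHom.ext fun a => ?_) (fun i => ?_) fun i => ?_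
    · exact (((g.comp θ).comp (psC (baseRing hk) n)).commutes a).trans
        (((e.symm.toAlgHom).comp (psC (baseRing hk) n)).commutes a).symm
    · exact (congrArg g (hθX i)).trans (hz i)
    · rw [CRing.mem_maximalIdeal_iff]
      change R.res (g (θ (psX (baseRing hk) i))) = 0
      rw [res_comp_apply' g hg, hθX, ← CRing.mem_maximalIdeal_iff]
      exact hzm i
  have hgsid : ∀ x, g (s x) = x := fun x =>
    (congrArg (fun t : (psRing (baseRing hk) n).carrier →ₐ[Λ] R.carrier => t (e x)) hgθ).trans (e.symm_apply_apply x)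
  have hs : H.res.comp s = R.res := AlgHom.ext fun x => by
    change H.res (s x) = R.res x
    rw [← res_comp_apply' g hg, hgsid]
  have hss : Function.Surjective s := by
    refine surjective_of_tangent_injective s hs fun φ ψ h => ?_
    have key : ∀ φ : HomSet H.carrier H.res (dual Λ k), φ.1 = (φ.1.comp s).comp g := by
      intro φ
      obtain ⟨a, ha⟩ := hξ.2 (η.app _ φ)
      rw [along_app] at ha
      have h1 : φ.1 = a.1.comp g := (congrArg Subtype.val (hη.2.1 ha)).symm
      have h2 : φ.1.comp s = a.1 := AlgHom.ext fun x => by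
        rw [h1]
        exact congrArg a.1 (hgsid x)
      rw [h2, h1]
    exact Subtype.ext (by rw [key φ, key ψ, h])
  have hsg : ∀ y, s (g y) = y := fun y => by
    obtain ⟨x, rfl⟩ := hss y
    rw [hgsid]
  refine ⟨fun B A μ hμ φ y hy => ?_, hξ⟩
  rw [along_app] at hy
  obtain ⟨ψ, h1, h2⟩ := hη.1 μ hμ _ y hy
  refine ⟨⟨ψ.1.comp s, by rw [← AlgHom.comp_assoc, ψ.2, hs]⟩, homSet_ext fun x => ?_, ?_⟩
  · exact (congrArg (fun t : HomSet H.carrier H.res A => t.1 (s x)) h1).trans (congrArg φ.1 (hgsid x))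
  · rw [along_app, ← h2]
    exact congrArg _ (homSet_ext fun y => congrArg ψ.1 (hsg y))

end Base

end Groth.ArtfunDeform
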