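import Groth.Agent.ArtfunDeform.Schlessinger

/-!
Pro-representability: injectivity from tangent spaces, the functors `h_R`, finiteness of tangent spaces.
-/

set_option linter.style.haveILetI false
set_option linter.style.longLine false
set_option linter.unusedSectionVars false

universe u v w

open CategoryTheory

namespace Groth.ArtfunDeform

open ArtFun ArtFun.Art

variable {Λ : Type u} {k : Type u} [CommRing Λ] [Field k] [Algebra Λ k]

local notation "𝔪" => IsLocalRing.maximalIdeal

section Injective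

variable [Module.Finite Λ k]

/-- Relative injectivity: along a surjection, elements with equal images below and in the target agree. -/
theorem injective_rel {F : Art Λ k ⥤ Type w} {G : Art Λ k ⥤ Type v}
    (η : ∀ A, F.obj A → G.obj A)
    (nat : ∀ ⦃A B : Art Λ k⦄ (f : A ⟶ B) (x : F.obj A), G.map f (η A x) = η B (F.map f x))
    (hF1 : Hbar F) (hF2 : Heps F)
    (hG : ∀ ⦃B A A' : Art Λ k⦄ (p₁ p₂ : B ⟶ A') (f : A' ⟶ A) (h : IsFibreProd p₁ p₂ f f),
      IsSmallExt f → Function.Injective (cmp G h))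
    (hd : Function.Injective (η (dual Λ k))) ⦃A B : Art Λ k⦄ (μ : B ⟶ A) (hμ : Function.Surjective μ) (x x' : F.obj B)
    (e : η B x = η B x') (e' : F.map μ x = F.map μ x') : x = x' := by
  have small : ∀ ⦃A B : Art Λ k⦄ (p : B ⟶ A), IsSmallExt p → ∀ x x', η B x = η B x' →
      F.map p x = F.map p x' → x = x' := by
    intro A B p hp x x' e e'
    obtain ⟨P, q₁, q₂, hP⟩ := exists_isFibreProd p p hp.1
    obtain ⟨t, hker⟩ := hp.2.2.1.principal
    change RingHom.ker p.toAlgHom = Ideal.span {t} at hker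
    obtain ⟨g, hg⟩ := exists_isDiff hp hker hP
    have hfp := isFibreProd_diff hp hker hP hg
    obtain ⟨y, hy1, hy2⟩ := exists_action hF1 hp hP x x' e'
    let Δ : B ⟶ P := fpLift hP (𝟙 B) (𝟙 B) rfl
    have hΔ1 : Δ ≫ q₁ = 𝟙 B := fpLift_fst _ _ _ _
    have hΔ2 : Δ ≫ q₂ = 𝟙 B := fpLift_snd _ _ _ _
    have hy : η P y = η P (F.map Δ x) := by
      refine (cmp_injective_iff hP).1 (hG _ _ _ hP hp) _ _ ?_ ?_
      · rw [nat, nat, hy1, map_map, hΔ1, map_id']
      · rw [nat, nat, hy2, map_map, hΔ2, map_id', e]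
    have hyd : y = F.map Δ x := by
      refine (cmp_injective_iff hfp).1 (hF2 _ _ hfp).1 _ _ ?_ (hd ?_)
      · rw [hy1, map_map, hΔ1, map_id']
      · rw [← nat, ← nat, hy]
    rw [← hy2, hyd, map_map, hΔ2, map_id']
  refine (surj_induction (P := fun A B f => Function.Surjective f ∧ ∀ x x', η B x = η B x' →
    F.map f x = F.map f x' → x = x') ?_ (fun A B p hp => ⟨hp.1, small p hp⟩) ?_ μ hμ).2 x x' e e'
  · intro A B e he
    exact ⟨(bijective_of_isIso e).2, fun x x' _ h => (bijective_map_of_isIso F e).1 h⟩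
  · rintro A B C p q ⟨hps, hp⟩ ⟨hqs, hq⟩
    refine ⟨hqs.comp hps, fun x x' h h' => hp x x' h (hq _ _ ?_ ?_)⟩
    · rw [← nat, ← nat, h]
    · rw [map_map, map_map, h']

/-- A transformation injective on tangent spaces is injective everywhere, if the source has `H̄` and `H_ε`
and the target satisfies the injectivity part of `H`. -/
theorem injective_of_tangent {F : Art Λ k ⥤ Type w} {G : Art Λ k ⥤ Type v}
    (η : ∀ A, F.obj A → G.obj A)
    (nat : ∀ ⦃A B : Art Λ k⦄ (f : A ⟶ B) (x : F.obj A), G.map f (η A x) = η B (F.map f x))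
    (hF0 : Subsingleton (F.obj (base Λ k))) (hF1 : Hbar F) (hF2 : Heps F)
    (hG : ∀ ⦃B A A' : Art Λ k⦄ (p₁ p₂ : B ⟶ A') (f : A' ⟶ A) (h : IsFibreProd p₁ p₂ f f),
      IsSmallExt f → Function.Injective (cmp G h))
    (hd : Function.Injective (η (dual Λ k))) (A : Art Λ k) : Function.Injective (η A) :=
  fun x x' e => injective_rel η nat hF1 hF2 hG hd (toBase A) A.res_surjective x x' e (Subsingleton.elim _ _)

end Injective

section HR

variable (R : Type u) [CommRing R] [Algebra Λ R] (resR : R →ₐ[Λ] k)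

lemma isLeftExact_hR : IsLeftExact (hR R resR) := fun _ _ _ _ _ _ _ _ h =>
  ⟨(cmp_injective_iff h).2 fun _ _ e₁ e₂ => homSet_map_injective h e₁ e₂,
    (cmp_surjective_iff h).2 fun φ' φ'' e => homSet_lift h φ' φ'' e⟩

lemma subsingleton_hR_base : Subsingleton ((hR R resR).obj (base Λ k)) :=
  inferInstanceAs (Subsingleton (HomSet R resR (base Λ k)))

variable {R resR} [Module.Finite Λ k] {F : Art Λ k ⥤ Type v}

/-- A family injective on `k[ε]` is injective everywhere, if `F` satisfies the injectivity part of `H`. -/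
theorem family_injective (ξ : Family R resR F)
    (hG : ∀ ⦃B A A' : Art Λ k⦄ (p₁ p₂ : B ⟶ A') (f : A' ⟶ A) (h : IsFibreProd p₁ p₂ f f),
      IsSmallExt f → Function.Injective (cmp F h))
    (hd : Function.Injective (ξ.app (dual Λ k))) (A : Art Λ k) : Function.Injective (ξ.app A) :=
  injective_of_tangent (F := hR R resR) ξ.app (fun _ _ f x => app_natural ξ f x)
    (subsingleton_hR_base R resR) (fun _ _ _ _ _ _ _ _ h _ => (isLeftExact_hR R resR _ _ _ _ h).2)
    (fun _ _ _ _ h => isLeftExact_hR R resR _ _ _ _ h) hG hd A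

omit [Module.Finite Λ k] in
lemma isLeftExact_of_universal (ξ : Family R resR F) (hξ : IsUniversal ξ) : IsLeftExact F := by
  intro B A A' A'' p' p'' f' f'' h
  refine ⟨(cmp_injective_iff h).2 fun z₁ z₂ e₁ e₂ => ?_, (cmp_surjective_iff h).2 fun x' x'' e => ?_⟩
  · obtain ⟨φ₁, rfl⟩ := (hξ B).2 z₁
    obtain ⟨φ₂, rfl⟩ := (hξ B).2 z₂
    rw [app_natural, app_natural] at e₁ e₂
    rw [homSet_map_injective h ((hξ A').1 e₁) ((hξ A'').1 e₂)]
  · obtain ⟨φ', rfl⟩ := (hξ A').2 x'
    obtain ⟨φ'', rfl⟩ := (hξ A'').2 x''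
    rw [app_natural, app_natural] at e
    obtain ⟨φ, h1, h2⟩ := homSet_lift h φ' φ'' ((hξ A).1 e)
    exact ⟨ξ.app B φ, by rw [app_natural, h1], by rw [app_natural, h2]⟩

omit [Module.Finite Λ k] in
lemma h0_of_universal (ξ : Family R resR F) (hξ : IsUniversal ξ) : H0 F :=
  h0_of_surjective_app ξ (hξ _).2

omit [Module.Finite Λ k] in
lemma isMiniversal_of_universal (ξ : Family R resR F) (hξ : IsUniversal ξ) : IsMiniversal ξ := by
  refine ⟨fun B A μ _ φ y e => ?_, hξ _⟩
  obtain ⟨ψ, rfl⟩ := (hξ B).2 y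
  exact ⟨ψ, (hξ A).1 (by rw [← app_natural, e]), rfl⟩

omit [Module.Finite Λ k] in
lemma tangent_injective_of_universal (hres : Function.Surjective resR) (ξ : Family R resR F) (hξ : IsUniversal ξ)
    (x₀ : F.obj (base Λ k)) : Function.Injective fun σ : base Λ k ⟶ dual Λ k => F.map σ x₀ := by
  intro σ τ e
  have hx : x₀ = ξ.app _ homSetBase := @Subsingleton.elim _ (h0_of_universal ξ hξ).2 _ _
  simp only [hx, app_natural] at e
  exact hom_eq_of_map_eq homSetBase hres ((hξ _).1 e)

end HR

section Finite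

variable [IsNoetherianRing Λ] [Module.Finite Λ k] {F : Art Λ k ⥤ Type v}

/-- Finitely many elements of `R` whose values determine a first order deformation. -/
lemma exists_separating (R : CRing Λ k) :
    ∃ (ι : Type u) (_ : Fintype ι) (r : ι → R.carrier),
      ∀ φ ψ : HomSet R.carrier R.res (dual Λ k),
        (∀ i, TrivSqZeroExt.snd (φ.1 (r i)) = TrivSqZeroExt.snd (ψ.1 (r i))) → φ = ψ := by
  classical
  obtain ⟨s, hs⟩ := (inferInstance : Module.Finite Λ k).fg_top
  obtain ⟨m, hm⟩ := IsNoetherian.noetherian (𝔪 R.carrier)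
  choose c hc using R.res_surjective
  refine ⟨(↥s ⊕ ↥m), inferInstance, Sum.elim (fun a => c a.1) (fun a => a.1), fun φ ψ h => ?_⟩
  let E : Set R.carrier := {x | φ.1 x = ψ.1 x}
  have hgen : ∀ i, φ.1 (Sum.elim (fun a : ↥s => c a.1) (fun a : ↥m => a.1) i) =
      ψ.1 (Sum.elim (fun a : ↥s => c a.1) (fun a : ↥m => a.1) i) := fun i =>
    TrivSqZeroExt.ext ((homSet_res φ _).trans (homSet_res ψ _).symm) (h i)
  have hM : ∀ x ∈ 𝔪 R.carrier, φ.1 x = ψ.1 x := by
    intro x hx
    rw [← hm] at hx
    induction hx using Submodule.span_induction with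
    | mem x hx => exact hgen (Sum.inr ⟨x, hx⟩)
    | zero => rw [map_zero, map_zero]
    | add x y _ _ h1 h2 => rw [map_add, map_add, h1, h2]
    | smul a x hx h1 =>
      have hx0 : R.res x = 0 := by
        rw [← CRing.mem_maximalIdeal_iff, ← hm]
        exact hx
      have hf : TrivSqZeroExt.fst (φ.1 x) = 0 := (homSet_res φ x).trans hx0
      rw [smul_eq_mul, map_mul, map_mul, ← h1]
      refine TrivSqZeroExt.ext ?_ ?_
      · change (dual Λ k).res (φ.1 a * φ.1 x) = (dual Λ k).res (ψ.1 a * φ.1 x)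
        rw [map_mul, map_mul, homSet_res, homSet_res ψ]
      · refine (TrivSqZeroExt.snd_mul (R := k) (M := k) _ _).trans
          (Eq.trans ?_ (TrivSqZeroExt.snd_mul (R := k) (M := k) _ _).symm)
        erw [hf]
        simp only [MulOpposite.op_zero, zero_smul, add_zero]
        exact congrArg (fun t : k => t • _) ((homSet_res φ a).trans (homSet_res ψ a).symm)
  refine homSet_ext fun x => ?_
  obtain ⟨l, t, ht, -, hsum⟩ := Submodule.mem_span_iff_exists_finset_subset.1
    (show R.res x ∈ Submodule.span Λ (s : Set k) by rw [hs]; exact Submodule.mem_top)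
  have hd : x - ∑ a ∈ t, l a • c a ∈ 𝔪 R.carrier := by
    rw [CRing.mem_maximalIdeal_iff, map_sub, map_sum, sub_eq_zero, ← hsum]
    exact Finset.sum_congr rfl fun a _ => by rw [map_smul, hc]
  have h' := hM _ hd
  rw [map_sub, map_sub, map_sum, map_sum] at h'
  rw [Finset.sum_congr rfl fun a ha => show φ.1 (l a • c a) = ψ.1 (l a • c a) by
    rw [map_smul, map_smul]; exact congrArg _ (hgen (Sum.inl ⟨a, ht ha⟩))] at h'
  exact sub_left_inj.1 h'

variable [TangentStr F]

/-- Miniversal families force a finite dimensional tangent space. -/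
theorem hfin_of_miniversal (R : CRing Λ k) (ξ : Family R.carrier R.res F) (hξ : IsMiniversal ξ) : Hfin F := by
  obtain ⟨ι, _, r, hr⟩ := exists_separating R
  choose φ hφ using hξ.2.2
  let L : TangentSpace F →ₗ[k] (ι → k) :=
    { toFun := fun x i => TrivSqZeroExt.snd ((φ x).1 (r i))
      map_add' := fun x y => by
        obtain ⟨χ, h1, h2⟩ := homSet_lift isFibreProd_dual2 (φ x) (φ y) (Subsingleton.elim _ _)
        have hs : φ (x + y : TangentSpace F) = HomSet.map plus χ := by
          refine hξ.2.1 ((hφ _).trans ?_)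
          have h := TangentStr.add_eq (F := F) (ξ.app _ χ)
          rw [app_natural, app_natural, app_natural, h1, h2, hφ, hφ] at h
          exact h
        funext i
        change TrivSqZeroExt.snd ((φ (x + y : TangentSpace F)).1 (r i)) = _
        rw [hs, ← h1, ← h2]
        rfl
      map_smul' := fun c x => by
        have hs : φ (c • x : TangentSpace F) = HomSet.map (scale c) (φ x) := by
          refine hξ.2.1 ((hφ _).trans ?_)
          rw [← app_natural, hφ]
          exact TangentStr.smul_eq (F := F) c x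
        funext i
        change TrivSqZeroExt.snd ((φ (c • x : TangentSpace F)).1 (r i)) = _
        rw [hs]
        rfl }
  refine Module.Finite.of_injective L fun x y e => ?_
  rw [← hφ x, ← hφ y, hr (φ x) (φ y) (congrFun e)]

end Finite

section Criterion

variable [IsNoetherianRing Λ] [Module.Finite Λ k] {F : Art Λ k ⥤ Type v} [TangentStr F]

/-- Schlessinger's criterion. -/
theorem isProrepresentable_of (h0 : H0 F) (h1 : Hbar F) (h2 : Heps F) (h3 : Hfin F) (h4 : HSq F)
    (hinj : ∀ x₀ : F.obj (base Λ k), Function.Injective fun σ : base Λ k ⟶ dual Λ k => F.map σ x₀) :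
    IsProrepresentable F := by
  obtain ⟨R, ξ, hv, hm⟩ := exists_versal h0 h1 h2 h3
  exact ⟨⟨R, ξ, fun A => ⟨family_injective ξ (fun _ _ _ _ _ _ h hf => (h4 _ _ _ h hf).1) (hm hinj).2.1 A,
    versal_app_surjective ξ hv h0.2 A⟩⟩⟩

theorem conditions_of_prorepresentable (h : IsProrepresentable F) :
    H0 F ∧ IsLeftExact F ∧ Hfin F ∧
      ∀ x₀ : F.obj (base Λ k), Function.Injective fun σ : base Λ k ⟶ dual Λ k => F.map σ x₀ := by
  obtain ⟨⟨R, ξ, hξ⟩⟩ := h
  exact ⟨h0_of_universal ξ hξ, isLeftExact_of_universal ξ hξ,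
    hfin_of_miniversal R ξ (isMiniversal_of_universal ξ hξ),
    fun x₀ => tangent_injective_of_universal R.res_surjective ξ hξ x₀⟩

end Criterion

section Derivation

lemma subsingleton_base_dual_of_surjective (h : Function.Surjective (algebraMap Λ k)) :
    Subsingleton (base Λ k ⟶ dual Λ k) :=
  ⟨fun σ τ => hom_ext_apply fun c => by
    obtain ⟨r, rfl⟩ := h c
    exact (σ.toAlgHom.commutes r).trans (τ.toAlgHom.commutes r).symm⟩

lemma subsingleton_base_dual_of_derivation (hk : Subsingleton (Derivation Λ k k)) :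
    Subsingleton (base Λ k ⟶ dual Λ k) := by
  have key : ∀ σ : base Λ k ⟶ dual Λ k, ∀ c : k, TrivSqZeroExt.snd (σ c) = 0 := by
    intro σ
    let f : k →ₐ[Λ] DualNumber k := σ.toAlgHom
    have hf : ∀ c, TrivSqZeroExt.fst (f c) = c := fun c => res_app σ c
    let D : Derivation Λ k k := Derivation.mk'
      { toFun := fun c => TrivSqZeroExt.snd (f c)
        map_add' := fun a b => by rw [map_add, TrivSqZeroExt.snd_add]
        map_smul' := fun r a => by rw [map_smul, TrivSqZeroExt.snd_smul, RingHom.id_apply] }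
      fun a b => by
        change TrivSqZeroExt.snd (f (a * b)) = a * TrivSqZeroExt.snd (f b) + b * TrivSqZeroExt.snd (f a)
        rw [map_mul, TrivSqZeroExt.snd_mul, hf, hf]
        simp [mul_comm]
    intro c
    exact DFunLike.congr_fun (Subsingleton.elim D 0) c
  exact ⟨fun σ τ => hom_ext_apply fun c =>
    TrivSqZeroExt.ext ((res_app σ c).trans (res_app τ c).symm) ((key σ c).trans (key τ c).symm)⟩

end Derivation

end Groth.ArtfunDeform
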