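import Groth.Prelude.Def_ArtFun3
import Mathlib.RingTheory.Length
import Mathlib.RingTheory.FiniteLength
import Mathlib.RingTheory.HopkinsLevitzki
import Mathlib.RingTheory.Finiteness.Quotient

/-!
Structural facts about `ArtFun.Art Λ k`: finiteness over `Λ`, induction along small extensions,
surjectivity criteria, fibre products.
-/

set_option linter.style.haveILetI false
set_option linter.style.longLine false
set_option maxHeartbeats 400000

universe u v

open CategoryTheory

namespace Groth.ArtfunDeform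

open ArtFun ArtFun.Art

variable {Λ : Type u} {k : Type u} [CommRing Λ] [Field k] [Algebra Λ k]

local notation "𝔪" => IsLocalRing.maximalIdeal

lemma ker_res (A : Art Λ k) : RingHom.ker A.res = 𝔪 A := by
  ext a
  rw [RingHom.mem_ker, A.mem_maximalIdeal_iff]

lemma isNilpotent_maximalIdeal (A : Art Λ k) : IsNilpotent (𝔪 A) := by
  have := IsArtinianRing.isNilpotent_jacobson_bot (R := A)
  rwa [IsLocalRing.jacobson_eq_maximalIdeal ⊥ bot_ne_top] at this

lemma exists_pow_maximalIdeal_eq_bot (A : Art Λ k) : ∃ n : ℕ, (𝔪 A) ^ (n + 1) = ⊥ := by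
  obtain ⟨n, hn⟩ := isNilpotent_maximalIdeal A
  exact ⟨n, by rw [pow_succ, hn]; exact Ideal.bot_mul _⟩

/-- A morphism is bijective iff it is an isomorphism. -/
lemma isIso_of_bijective {A B : Art Λ k} (f : A ⟶ B) (hf : Function.Bijective f) : IsIso f := by
  let e : A ≃ₐ[Λ] B := AlgEquiv.ofBijective f.toAlgHom hf
  refine ⟨⟨homMk e.symm.toAlgHom ?_, ?_, ?_⟩⟩
  · apply AlgHom.ext
    intro b
    have := res_app f (e.symm b)
    rw [show f (e.symm b) = b from e.apply_symm_apply b] at this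
    exact this.symm
  · exact hom_ext (AlgHom.ext fun a => e.symm_apply_apply a)
  · exact hom_ext (AlgHom.ext fun b => e.apply_symm_apply b)

lemma bijective_of_isIso {A B : Art Λ k} (f : A ⟶ B) [IsIso f] : Function.Bijective f := by
  refine ⟨fun a b h => ?_, fun b => ⟨inv f b, ?_⟩⟩
  · have h' : (f ≫ inv f) a = (f ≫ inv f) b := by rw [Art.comp_apply, Art.comp_apply, h]
    rwa [IsIso.hom_inv_id] at h'
  · have h' : (inv f ≫ f) b = (𝟙 B : B ⟶ B) b := by rw [IsIso.inv_hom_id]
    exact h'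

lemma hom_ext_apply {A B : Art Λ k} {f g : A ⟶ B} (h : ∀ a, f a = g a) : f = g :=
  hom_ext (AlgHom.ext h)

lemma map_mem_maximalIdeal {A B : Art Λ k} (f : A ⟶ B) {a : A} (ha : a ∈ 𝔪 A) : f a ∈ 𝔪 B := by
  rw [mem_maximalIdeal_iff] at ha ⊢
  rw [res_app, ha]

lemma map_maximalIdeal_le {A B : Art Λ k} (f : A ⟶ B) : (𝔪 A).map f.toAlgHom ≤ 𝔪 B :=
  Ideal.map_le_iff_le_comap.2 fun _ ha => map_mem_maximalIdeal f ha

lemma ker_le_maximalIdeal {A B : Art Λ k} (f : A ⟶ B) : RingHom.ker f.toAlgHom ≤ 𝔪 A := by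
  intro a ha
  rw [mem_maximalIdeal_iff, ← res_app f, show f a = 0 from ha, map_zero]

lemma map_maximalIdeal_eq {A B : Art Λ k} (f : A ⟶ B) (hf : Function.Surjective f) :
    (𝔪 A).map f.toAlgHom = 𝔪 B := by
  refine le_antisymm (map_maximalIdeal_le f) fun b hb => ?_
  obtain ⟨a, rfl⟩ := hf b
  refine Ideal.mem_map_of_mem _ ?_
  rw [mem_maximalIdeal_iff] at hb ⊢
  rwa [← res_app f]

/-- Some lift of `1` style fact: units are detected by the augmentation. -/
lemma isUnit_iff {A : Art Λ k} (a : A) : IsUnit a ↔ A.res a ≠ 0 := by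
  rw [Ne, ← mem_maximalIdeal_iff, IsLocalRing.mem_maximalIdeal, mem_nonunits_iff, not_not]

lemma isNilpotent_iff {A : Art Λ k} (a : A) : IsNilpotent a ↔ A.res a = 0 := by
  refine ⟨fun h => isNilpotent_iff_eq_zero.1 (h.map A.res), fun h => ?_⟩
  obtain ⟨n, hn⟩ := exists_pow_maximalIdeal_eq_bot A
  refine ⟨n + 1, ?_⟩
  have := Ideal.pow_mem_pow ((A.mem_maximalIdeal_iff a).2 h) (n + 1)
  rwa [hn, Ideal.mem_bot] at this

section Length

lemma isFiniteLength_residue [Module.Finite Λ k] : IsFiniteLength Λ k := by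
  let I : Ideal Λ := RingHom.ker (algebraMap Λ k)
  have hI : IsArtinianRing (Λ ⧸ I) := by
    have hint : Algebra.IsIntegral Λ k := Algebra.IsIntegral.of_finite Λ k
    have : I.IsMaximal := by
      have hb : (⊥ : Ideal k).IsMaximal := Ideal.bot_isMaximal
      exact Ideal.isMaximal_comap_of_isIntegral_of_isMaximal (R := Λ) (⊥ : Ideal k)
    letI := Ideal.Quotient.field I
    infer_instance
  letI : Algebra (Λ ⧸ I) k := (RingHom.kerLift (algebraMap Λ k)).toAlgebra
  haveI : IsScalarTower Λ (Λ ⧸ I) k := IsScalarTower.of_algebraMap_eq fun _ => rfl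
  haveI : Module.Finite (Λ ⧸ I) k := Module.Finite.of_restrictScalars_finite Λ (Λ ⧸ I) k
  have h : IsFiniteLength (Λ ⧸ I) k :=
    isFiniteLength_iff_isNoetherian_isArtinian.2 ⟨inferInstance, inferInstance⟩
  rw [← Module.length_ne_top_iff] at h ⊢
  rwa [Module.length_eq_of_surjective (R := Λ ⧸ I) (S := Λ) (M := k) Ideal.Quotient.mk_surjective]

end Length

section SmallExt

/-- One step: an element of the socle inside a nonzero ideal. -/
lemma exists_socle_mem {B : Art Λ k} (K : Ideal B) (hK : K ≠ ⊥) :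
    ∃ t ∈ K, t ≠ 0 ∧ ∀ m ∈ 𝔪 B, m * t = 0 := by
  obtain ⟨N, hN⟩ := exists_pow_maximalIdeal_eq_bot B
  have key : ∀ n, (𝔪 B) ^ n * K = ⊥ → ∃ t ∈ K, t ≠ 0 ∧ ∀ m ∈ 𝔪 B, m * t = 0 := by
    intro n
    induction n with
    | zero => intro h; exact absurd (by rwa [pow_zero, Ideal.one_eq_top, Ideal.top_mul] at h) hK
    | succ n ih =>
      intro h
      by_cases h' : (𝔪 B) ^ n * K = ⊥
      · exact ih h'
      obtain ⟨t, ht, ht0⟩ := Submodule.exists_mem_ne_zero_of_ne_bot h'
      refine ⟨t, Ideal.mul_le_right ht, ht0, fun m hm => ?_⟩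
      have h1 : m * t ∈ (𝔪 B) ^ (n + 1) * K := by
        rw [pow_succ', mul_assoc]
        exact Ideal.mul_mem_mul hm ht
      rw [h] at h1
      exact h1
  exact key (N + 1) (by rw [hN, Ideal.bot_mul])

variable {B A : Art Λ k}

/-- The projection `B/K → B/K'` for `K ≤ K'`. -/
noncomputable def quotLE {K K' : Ideal B} (hK : K ≤ 𝔪 B) (hK' : K' ≤ 𝔪 B) (h : K ≤ K') :
    Art.quot B K hK ⟶ Art.quot B K' hK' :=
  quotFactor hK (quotMk B K' hK') (fun _ ha => Ideal.Quotient.eq_zero_iff_mem.2 (h ha))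

lemma quotMk_quotLE {K K' : Ideal B} (hK : K ≤ 𝔪 B) (hK' : K' ≤ 𝔪 B) (h : K ≤ K') :
    quotMk B K hK ≫ quotLE hK hK' h = quotMk B K' hK' :=
  quotMk_quotFactor _ _ _

lemma quotLE_surjective {K K' : Ideal B} (hK : K ≤ 𝔪 B) (hK' : K' ≤ 𝔪 B) (h : K ≤ K') :
    Function.Surjective (quotLE hK hK' h) := fun x => by
  obtain ⟨a, rfl⟩ := Ideal.Quotient.mk_surjective x
  exact ⟨Ideal.Quotient.mk K a, rfl⟩

lemma quotFactor_surjective {K : Ideal B} (hK : K ≤ 𝔪 B) (p : B ⟶ A)
    (hp : K ≤ RingHom.ker p.toAlgHom) (hs : Function.Surjective p) :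
    Function.Surjective (quotFactor hK p hp) := fun x => by
  obtain ⟨a, rfl⟩ := hs x
  exact ⟨Ideal.Quotient.mk K a, rfl⟩

lemma quotFactor_injective {K : Ideal B} (hK : K ≤ 𝔪 B) (p : B ⟶ A)
    (hp : K ≤ RingHom.ker p.toAlgHom) (hker : RingHom.ker p.toAlgHom ≤ K) :
    Function.Injective (quotFactor hK p hp) := by
  intro x y hxy
  obtain ⟨a, rfl⟩ := Ideal.Quotient.mk_surjective x
  obtain ⟨b, rfl⟩ := Ideal.Quotient.mk_surjective y
  have hab : p a = p b := hxy
  refine Ideal.Quotient.eq.2 (hker ?_)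
  change p.toAlgHom (a - b) = 0
  rw [map_sub, sub_eq_zero]
  exact hab

lemma quotMk_eq_zero_iff {K : Ideal B} (hK : K ≤ 𝔪 B) (a : B) :
    quotMk B K hK a = 0 ↔ a ∈ K :=
  Ideal.Quotient.eq_zero_iff_mem

/-- Every surjection is a composite of small extensions (induction principle). -/
theorem surj_induction (P : ∀ ⦃A B : Art Λ k⦄, (B ⟶ A) → Prop)
    (hiso : ∀ ⦃A B : Art Λ k⦄ (e : B ⟶ A), IsIso e → P e)
    (hsmall : ∀ ⦃A B : Art Λ k⦄ (p : B ⟶ A), IsSmallExt p → P p)
    (hcomp : ∀ ⦃A B C : Art Λ k⦄ (p : C ⟶ B) (q : B ⟶ A), P p → P q → P (p ≫ q))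
    ⦃A B : Art Λ k⦄ (f : B ⟶ A) (hf : Function.Surjective f) : P f := by
  suffices h : ∀ K : Ideal B, ∀ (hK : K ≤ 𝔪 B) (hKf : K ≤ RingHom.ker f.toAlgHom),
      P (quotFactor hK f hKf) by
    have h' := h ⊥ bot_le bot_le
    rw [← quotMk_quotFactor (bot_le : (⊥ : Ideal B) ≤ 𝔪 B) f bot_le]
    refine hcomp _ _ (hiso _ (isIso_of_bijective _ ⟨fun x y hxy => ?_, quotMk_surjective _ _ _⟩)) h'
    have hxy' : Ideal.Quotient.mk (⊥ : Ideal B) x = Ideal.Quotient.mk (⊥ : Ideal B) y := hxy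
    rwa [Ideal.Quotient.eq, Ideal.mem_bot, sub_eq_zero] at hxy'
  intro K
  induction K using (wellFounded_gt : WellFounded ((· > ·) : Ideal B → Ideal B → Prop)).induction with
  | _ K ih =>
  intro hK hKf
  by_cases hEq : RingHom.ker f.toAlgHom ≤ K
  · exact hiso _ (isIso_of_bijective _
      ⟨quotFactor_injective hK f hKf hEq, quotFactor_surjective hK f hKf hf⟩)
  · let g := quotFactor hK f hKf
    have hgne : RingHom.ker g.toAlgHom ≠ ⊥ := by
      intro h
      refine hEq fun a ha => ?_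
      have h' : quotMk B K hK a ∈ RingHom.ker g.toAlgHom := ha
      rw [h, Ideal.mem_bot] at h'
      exact (quotMk_eq_zero_iff hK a).1 h'
    obtain ⟨t, htK, ht0, htm⟩ := exists_socle_mem _ hgne
    obtain ⟨b, rfl⟩ := quotMk_surjective B K hK t
    have hb : b ∈ RingHom.ker f.toAlgHom := htK
    have hbK : b ∉ K := fun h => ht0 ((quotMk_eq_zero_iff hK b).2 h)
    let K' : Ideal B := K ⊔ Ideal.span {b}
    have hKK' : K ≤ K' := le_sup_left
    have hK'f : K' ≤ RingHom.ker f.toAlgHom :=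
      sup_le hKf (by simpa [Ideal.span_le] using hb)
    have hK' : K' ≤ 𝔪 B := hK'f.trans (ker_le_maximalIdeal f)
    have hlt : K < K' := lt_of_le_of_ne hKK' fun h =>
      hbK (h ▸ (le_sup_right : Ideal.span {b} ≤ K') (Ideal.mem_span_singleton_self b))
    have hsm : IsSmallExt (quotLE hK hK' hKK') := by
      have hker : RingHom.ker (quotLE hK hK' hKK').toAlgHom =
          Ideal.span {quotMk B K hK b} := by
        refine le_antisymm (fun x hx => ?_) ?_
        · obtain ⟨a, rfl⟩ := quotMk_surjective B K hK x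
          have ha' : a ∈ K' := (quotMk_eq_zero_iff hK' a).1 hx
          obtain ⟨c, hc, d, hd, rfl⟩ := Submodule.mem_sup.1 ha'
          obtain ⟨e, rfl⟩ := Ideal.mem_span_singleton'.1 hd
          refine Ideal.mem_span_singleton'.2 ⟨quotMk B K hK e, ?_⟩
          rw [map_add, (quotMk_eq_zero_iff hK c).2 hc, zero_add, map_mul]
        · rw [Ideal.span_le, Set.singleton_subset_iff]
          exact (quotMk_eq_zero_iff hK' b).2
            ((le_sup_right : Ideal.span {b} ≤ K') (Ideal.mem_span_singleton_self b))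
      refine ⟨quotLE_surjective _ _ _, ?_, ⟨⟨_, hker⟩⟩, ?_⟩
      · rw [hker, Ne, Ideal.span_singleton_eq_bot]
        exact ht0
      · rw [hker, eq_bot_iff, Ideal.mul_le]
        intro m hm x hx
        obtain ⟨e, rfl⟩ := Ideal.mem_span_singleton'.1 hx
        rw [Ideal.mem_bot, mul_left_comm]
        exact (congrArg (e * ·) (htm m hm)).trans (mul_zero e)
    have hfac : quotFactor hK f hKf = quotLE hK hK' hKK' ≫ quotFactor hK' f hK'f := by
      apply hom_ext_apply
      intro x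
      obtain ⟨a, rfl⟩ := Ideal.Quotient.mk_surjective x
      rfl
    rw [hfac]
    exact hcomp _ _ (hsmall _ hsm) (ih K' hlt hK' hK'f)

end SmallExt

section Surjective

variable [Module.Finite Λ k]

lemma isFiniteLength_art (A : Art Λ k) : IsFiniteLength Λ A := by
  have key : ∀ ⦃A B : Art Λ k⦄ (f : B ⟶ A), Function.Surjective f → IsFiniteLength Λ A →
      IsFiniteLength Λ B := by
    refine surj_induction (P := fun A B f => IsFiniteLength Λ A → IsFiniteLength Λ B) ?_ ?_ ?_
    · intro A B e he hA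
      exact hA.of_injective (f := e.toAlgHom.toLinearMap) (bijective_of_isIso e).1
    · rintro A B p ⟨hs, -, ⟨⟨t, ht⟩⟩, hm⟩ hA
      have htk : t ∈ RingHom.ker p.toAlgHom := ht ▸ Ideal.mem_span_singleton_self t
      have h0 : ∀ m ∈ 𝔪 B, m * t = 0 := fun m hm' => by
        have : m * t ∈ 𝔪 B * RingHom.ker p.toAlgHom := Ideal.mul_mem_mul hm' htk
        rw [hm] at this
        exact this
      let φ : B →ₗ[Λ] ↥(LinearMap.ker p.toAlgHom.toLinearMap) :=
        LinearMap.codRestrict _ ((LinearMap.mulRight Λ t)) fun b => by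
          change p.toAlgHom (b * t) = 0
          rw [map_mul, show p.toAlgHom t = 0 from htk, mul_zero]
      have hφ : Function.Surjective φ := fun x => by
        have hx : (x : B) ∈ RingHom.ker p.toAlgHom := x.2
        rw [ht] at hx
        obtain ⟨c, hc⟩ := Ideal.mem_span_singleton'.1 hx
        exact ⟨c, Subtype.ext hc⟩
      obtain ⟨ψ, hψ⟩ : ∃ ψ : k →ₗ[Λ] ↥(LinearMap.ker p.toAlgHom.toLinearMap), Function.Surjective ψ := by
        let e := LinearMap.quotKerEquivOfSurjective B.res.toLinearMap B.res_surjective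
        have hle : LinearMap.ker B.res.toLinearMap ≤ LinearMap.ker φ := fun b hb => by
          apply Subtype.ext
          exact h0 b ((B.mem_maximalIdeal_iff b).2 hb)
        refine ⟨(Submodule.liftQ _ φ hle).comp e.symm.toLinearMap, ?_⟩
        intro x
        obtain ⟨b, rfl⟩ := hφ x
        exact ⟨e (Submodule.Quotient.mk b), by simp⟩
      have hK : IsFiniteLength Λ ↥(LinearMap.ker p.toAlgHom.toLinearMap) :=
        isFiniteLength_residue.of_surjective hψ
      obtain ⟨h1, h2⟩ := isFiniteLength_iff_isNoetherian_isArtinian.1 hK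
      obtain ⟨h3, h4⟩ := isFiniteLength_iff_isNoetherian_isArtinian.1 hA
      exact isFiniteLength_iff_isNoetherian_isArtinian.2
        ⟨isNoetherian_of_range_eq_ker (LinearMap.ker p.toAlgHom.toLinearMap).subtype
            p.toAlgHom.toLinearMap (Submodule.range_subtype _),
          isArtinian_of_range_eq_ker (LinearMap.ker p.toAlgHom.toLinearMap).subtype
            p.toAlgHom.toLinearMap (Submodule.range_subtype _)⟩
    · intro A B C p q hp hq hA
      exact hp (hq hA)
  exact key (toBase A) A.res_surjective (isFiniteLength_residue (Λ := Λ) (k := k))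

instance finite_art (A : Art Λ k) : Module.Finite Λ A :=
  haveI := (isFiniteLength_iff_isNoetherian_isArtinian.1 (isFiniteLength_art A)).1
  inferInstance

end Surjective

/-- Surjectivity criterion, nilpotent Nakayama. -/
lemma surjective_of_maximalIdeal_le {A B : Art Λ k} (f : A ⟶ B)
    (h : 𝔪 B ≤ (𝔪 A).map f.toAlgHom ⊔ (𝔪 B) ^ 2) : Function.Surjective f := by
  have h1 : 𝔪 B ≤ (𝔪 A).map f.toAlgHom := by
    obtain ⟨N, hN⟩ := exists_pow_maximalIdeal_eq_bot B
    have step : ∀ n, 𝔪 B ≤ (𝔪 A).map f.toAlgHom ⊔ (𝔪 B) ^ (n + 1) := by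
      intro n
      induction n with
      | zero => simp
      | succ n ih =>
        refine h.trans (sup_le le_sup_left ?_)
        calc (𝔪 B) ^ 2 ≤ 𝔪 B * ((𝔪 A).map f.toAlgHom ⊔ (𝔪 B) ^ (n + 1)) := by
              rw [sq]; exact Ideal.mul_mono le_rfl ih
          _ ≤ (𝔪 A).map f.toAlgHom ⊔ (𝔪 B) ^ (n + 1 + 1) := by
              rw [Ideal.mul_sup, pow_succ' _ (n + 1)]
              exact sup_le_sup_right Ideal.mul_le_right _
    have := step N
    rwa [hN, sup_bot_eq] at this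
  have h2 : ∀ (n : ℕ) (b : B), ∃ a : A, b - f a ∈ ((𝔪 A) ^ n).map f.toAlgHom := by
    intro n
    induction n with
    | zero => exact fun b => ⟨0, by simp [Ideal.map_top]⟩
    | succ n ih =>
      intro b
      obtain ⟨a, ha⟩ := ih b
      have key : ∀ x ∈ ((𝔪 A) ^ n).map f.toAlgHom,
          ∃ a' : A, x - f a' ∈ ((𝔪 A) ^ (n + 1)).map f.toAlgHom := by
        intro x hx
        induction hx using Submodule.span_induction with
        | mem x hx =>
          obtain ⟨y, hy, rfl⟩ := hx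
          exact ⟨y, by simp⟩
        | zero => exact ⟨0, by simp⟩
        | add x y _ _ hx hy =>
          obtain ⟨a₁, h₁⟩ := hx
          obtain ⟨a₂, h₂⟩ := hy
          exact ⟨a₁ + a₂, by simpa [map_add, add_sub_add_comm] using Ideal.add_mem _ h₁ h₂⟩
        | smul c x hx hx' =>
          obtain ⟨a₁, h₁⟩ := hx'
          obtain ⟨c', hc'⟩ := A.res_surjective (B.res c)
          have hc : c - f c' ∈ (𝔪 A).map f.toAlgHom := by
            refine h1 ((B.mem_maximalIdeal_iff _).2 ?_)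
            rw [map_sub, res_app, hc', sub_self]
          refine ⟨c' * a₁, ?_⟩
          have e : c • x - f (c' * a₁) = (c - f c') * x + f c' * (x - f a₁) := by
            rw [smul_eq_mul, map_mul]; ring
          rw [e]
          refine Ideal.add_mem _ ?_ (Ideal.mul_mem_left _ _ h₁)
          rw [pow_succ', Ideal.map_mul]
          exact Ideal.mul_mem_mul hc hx
      obtain ⟨a', ha'⟩ := key _ ha
      exact ⟨a + a', by simpa [map_add, sub_sub] using ha'⟩
  intro b
  obtain ⟨N, hN⟩ := exists_pow_maximalIdeal_eq_bot A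
  obtain ⟨a, ha⟩ := h2 (N + 1) b
  rw [hN, Ideal.map_bot, Ideal.mem_bot, sub_eq_zero] at ha
  exact ⟨a, ha.symm⟩

lemma map_maximalIdeal_sup_of_surjective {A B : Art Λ k} (f : A ⟶ B) (hf : Function.Surjective f) :
    (𝔪 A).map f.toAlgHom ⊔ (𝔪 B) ^ 2 = 𝔪 B := by
  rw [map_maximalIdeal_eq f hf]
  exact sup_eq_left.2 (Ideal.pow_le_self two_ne_zero)

section FibreProd

variable {B A A' A'' : Art Λ k} {p' : B ⟶ A'} {p'' : B ⟶ A''} {f' : A' ⟶ A} {f'' : A'' ⟶ A}

lemma isFibreProd_symm (h : IsFibreProd p' p'' f' f'') : IsFibreProd p'' p' f'' f' where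
  w := h.w.symm
  inj b₁ b₂ h₁ h₂ := h.inj b₁ b₂ h₂ h₁
  surj a a' e := by
    obtain ⟨b, h1, h2⟩ := h.surj a' a e.symm
    exact ⟨b, h2, h1⟩

/-- The map into a fibre product. -/
noncomputable def fpLift (h : IsFibreProd p' p'' f' f'') {C : Art Λ k} (a : C ⟶ A') (b : C ⟶ A'')
    (w : a ≫ f' = b ≫ f'') : C ⟶ B :=
  let g : ∀ c : C, ∃ x : B, p' x = a c ∧ p'' x = b c := fun c =>
    h.surj (a c) (b c) (by rw [← Art.comp_apply, w, Art.comp_apply])
  homMk
    { toFun := fun c => (g c).choose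
      map_one' := h.inj _ _ (by rw [(g 1).choose_spec.1]; simp) (by rw [(g 1).choose_spec.2]; simp)
      map_mul' := fun x y => h.inj _ _
        (by rw [(g (x * y)).choose_spec.1, map_mul, map_mul, (g x).choose_spec.1, (g y).choose_spec.1])
        (by rw [(g (x * y)).choose_spec.2, map_mul, map_mul, (g x).choose_spec.2, (g y).choose_spec.2])
      map_zero' := h.inj _ _ (by rw [(g 0).choose_spec.1]; simp) (by rw [(g 0).choose_spec.2]; simp)
      map_add' := fun x y => h.inj _ _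
        (by rw [(g (x + y)).choose_spec.1, map_add, map_add, (g x).choose_spec.1, (g y).choose_spec.1])
        (by rw [(g (x + y)).choose_spec.2, map_add, map_add, (g x).choose_spec.2, (g y).choose_spec.2])
      commutes' := fun r => h.inj _ _
        (by rw [(g _).choose_spec.1]; simp) (by rw [(g _).choose_spec.2]; simp) }
    (AlgHom.ext fun c => by
      change B.res (g c).choose = C.res c
      rw [← res_app p', (g c).choose_spec.1, res_app])

lemma fpLift_fst (h : IsFibreProd p' p'' f' f'') {C : Art Λ k} (a : C ⟶ A') (b : C ⟶ A'')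
    (w : a ≫ f' = b ≫ f'') : fpLift h a b w ≫ p' = a :=
  hom_ext_apply fun c => (h.surj (a c) (b c) (by rw [← Art.comp_apply, w, Art.comp_apply])).choose_spec.1

lemma fpLift_snd (h : IsFibreProd p' p'' f' f'') {C : Art Λ k} (a : C ⟶ A') (b : C ⟶ A'')
    (w : a ≫ f' = b ≫ f'') : fpLift h a b w ≫ p'' = b :=
  hom_ext_apply fun c => (h.surj (a c) (b c) (by rw [← Art.comp_apply, w, Art.comp_apply])).choose_spec.2

lemma fp_hom_ext (h : IsFibreProd p' p'' f' f'') {C : Art Λ k} {a b : C ⟶ B}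
    (h₁ : a ≫ p' = b ≫ p') (h₂ : a ≫ p'' = b ≫ p'') : a = b :=
  hom_ext_apply fun c => h.inj _ _ (by rw [← Art.comp_apply, h₁, Art.comp_apply])
    (by rw [← Art.comp_apply, h₂, Art.comp_apply])

lemma surjective_fst (h : IsFibreProd p' p'' f' f'') (hf : Function.Surjective f'') :
    Function.Surjective p' := fun a => by
  obtain ⟨a'', ha⟩ := hf (f' a)
  obtain ⟨b, hb, -⟩ := h.surj a a'' ha.symm
  exact ⟨b, hb⟩

lemma isSmallExt_fst (h : IsFibreProd p' p'' f' f'') (hf : IsSmallExt f'') : IsSmallExt p' := by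
  obtain ⟨hs, hne, ⟨⟨t, ht⟩⟩, hm⟩ := hf
  have htk : f'' t = 0 :=
    (ht ▸ Ideal.mem_span_singleton_self t : t ∈ RingHom.ker f''.toAlgHom)
  obtain ⟨s, hs1, hs2⟩ := h.surj 0 t (by rw [map_zero, htk])
  have ht0 : t ≠ 0 := fun h0 => hne (by rw [ht, h0]; exact Ideal.span_singleton_eq_bot.2 rfl)
  have hker : RingHom.ker p'.toAlgHom = Ideal.span {s} := by
    refine le_antisymm (fun b hb => ?_) ?_
    · have hb' : p'' b ∈ RingHom.ker f''.toAlgHom := by
        change f'' (p'' b) = 0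
        rw [← h.w_apply, show p' b = 0 from hb, map_zero]
      rw [ht] at hb'
      obtain ⟨c, hc⟩ := Ideal.mem_span_singleton'.1 hb'
      obtain ⟨a', ha'⟩ := A'.res_surjective (A''.res c)
      -- an element of `B` with the same residue as `c`
      obtain ⟨β, hβ⟩ := B.res_surjective (A''.res c)
      refine Ideal.mem_span_singleton'.2 ⟨β, h.inj _ _ ?_ ?_⟩
      · rw [map_mul, hs1, mul_zero]
        exact hb.symm
      · rw [map_mul, hs2, ← hc]
        have : (p'' β - c) * t ∈ 𝔪 A'' * RingHom.ker f''.toAlgHom := by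
          refine Ideal.mul_mem_mul ((A''.mem_maximalIdeal_iff _).2 ?_) htk
          rw [map_sub, res_app, hβ, sub_self]
        rw [hm, Ideal.mem_bot, sub_mul, sub_eq_zero] at this
        exact this
    · simpa [Ideal.span_le] using hs1
  refine ⟨surjective_fst h hs, ?_, ⟨⟨s, hker⟩⟩, ?_⟩
  · rw [hker, Ne, Ideal.span_singleton_eq_bot]
    exact fun h0 => ht0 (by rw [← hs2, h0, map_zero])
  · rw [eq_bot_iff, Ideal.mul_le]
    intro m hm' x hx
    rw [Ideal.mem_bot]
    refine h.inj _ _ ?_ ?_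
    · rw [map_mul, show p' x = 0 from hx, mul_zero, map_zero]
    · have : p'' m * p'' x ∈ 𝔪 A'' * RingHom.ker f''.toAlgHom := by
        refine Ideal.mul_mem_mul (map_mem_maximalIdeal p'' hm') ?_
        change f'' (p'' x) = 0
        rw [← h.w_apply, show p' x = 0 from hx, map_zero]
      rw [hm, Ideal.mem_bot] at this
      rw [map_mul, this, map_zero]

variable [Module.Finite Λ k]

/-- The set-theoretic fibre product is an object as soon as it surjects onto `k`. -/
theorem exists_isFibreProd_of_res (f' : A' ⟶ A) (f'' : A'' ⟶ A)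
    (hk : ∀ c : k, ∃ (a' : A') (a'' : A''), f' a' = f'' a'' ∧ A'.res a' = c) :
    ∃ (B : Art Λ k) (p' : B ⟶ A') (p'' : B ⟶ A''), IsFibreProd p' p'' f' f'' := by
  let S : Subalgebra Λ (A' × A'') :=
    AlgHom.equalizer (f'.toAlgHom.comp (AlgHom.fst Λ A' A'')) (f''.toAlgHom.comp (AlgHom.snd Λ A' A''))
  have hres : ∀ x : S, A'.res x.1.1 = A''.res x.1.2 := fun x => by
    rw [← res_app f', show f' x.1.1 = f'' x.1.2 from x.2, res_app]
  haveI : Nontrivial S := ⟨⟨0, 1, fun h => zero_ne_one (α := A')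
    (congrArg (fun x : S => x.1.1) h)⟩⟩
  have hunit : ∀ x : S, A'.res x.1.1 ≠ 0 → IsUnit x := by
    intro x hx
    obtain ⟨u, hu⟩ := (isUnit_iff x.1.1).2 hx
    obtain ⟨v, hv⟩ := (isUnit_iff x.1.2).2 (hres x ▸ hx)
    have hmem : ((↑u⁻¹ : A'), (↑v⁻¹ : A'')) ∈ S := by
      change f' (↑u⁻¹ : A') = f'' (↑v⁻¹ : A'')
      have e : f' (x.1.1) = f'' (x.1.2) := x.2
      rw [← hu, ← hv] at e
      have h1 : f' (↑u⁻¹ : A') * f' (↑u : A') = 1 := by rw [← map_mul, Units.inv_mul, map_one]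
      have h2 : f'' (↑v : A'') * f'' (↑v⁻¹ : A'') = 1 := by rw [← map_mul, Units.mul_inv, map_one]
      calc f' (↑u⁻¹ : A') = f' (↑u⁻¹ : A') * (f'' (↑v : A'') * f'' (↑v⁻¹ : A'')) := by rw [h2, mul_one]
        _ = f'' (↑v⁻¹ : A'') := by rw [← mul_assoc, ← e, h1, one_mul]
    refine isUnit_iff_exists_inv.2 ⟨⟨_, hmem⟩, Subtype.ext (Prod.ext ?_ ?_)⟩
    · change x.1.1 * _ = 1
      rw [← hu, Units.mul_inv]
    · change x.1.2 * _ = 1
      rw [← hv, Units.mul_inv]
  haveI : IsLocalRing S := IsLocalRing.of_isUnit_or_isUnit_one_sub_self fun x => by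
    by_cases hx : A'.res x.1.1 = 0
    · refine Or.inr (hunit _ ?_)
      simp [hx]
    · exact Or.inl (hunit x hx)
  haveI : IsArtinianRing S := by
    haveI := (isFiniteLength_iff_isNoetherian_isArtinian.1 (isFiniteLength_art A')).2
    haveI := (isFiniteLength_iff_isNoetherian_isArtinian.1 (isFiniteLength_art A'')).2
    haveI : IsArtinian Λ S := isArtinian_of_le (s := Subalgebra.toSubmodule S) (t := ⊤) le_top
    exact isArtinian_of_tower Λ inferInstance
  let r : S →ₐ[Λ] k := (A'.res.comp (AlgHom.fst Λ A' A'')).comp S.val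
  refine ⟨Art.of S r (fun c => ?_), homMk ((AlgHom.fst Λ A' A'').comp S.val) rfl,
    homMk ((AlgHom.snd Λ A' A'').comp S.val) (AlgHom.ext fun x => (hres x).symm), ?_, ?_, ?_⟩
  · obtain ⟨a', a'', h, hc⟩ := hk c
    exact ⟨⟨(a', a''), h⟩, hc⟩
  · exact hom_ext_apply fun x => x.2
  · exact fun x y h₁ h₂ => Subtype.ext (Prod.ext h₁ h₂)
  · exact fun a' a'' h => ⟨⟨(a', a''), h⟩, rfl, rfl⟩

theorem exists_isFibreProd (f' : A' ⟶ A) (f'' : A'' ⟶ A) (hf : Function.Surjective f'') :
    ∃ (B : Art Λ k) (p' : B ⟶ A') (p'' : B ⟶ A''), IsFibreProd p' p'' f' f'' := by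
  refine exists_isFibreProd_of_res f' f'' fun c => ?_
  obtain ⟨a', ha'⟩ := A'.res_surjective c
  obtain ⟨a'', ha''⟩ := hf (f' a')
  exact ⟨a', a'', ha''.symm, ha'⟩

end FibreProd

end Groth.ArtfunDeform
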