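import Mathlib.Algebra.Module.FinitePresentation
import Mathlib.LinearAlgebra.TensorProduct.Tower
import Mathlib.LinearAlgebra.TensorProduct.Basis
import Mathlib.RingTheory.Finiteness.Basic
import Mathlib.LinearAlgebra.FreeModule.Basic
import Mathlib.LinearAlgebra.Dimension.Free
import Mathlib.LinearAlgebra.Eigenspace.Triangularizable
import Mathlib.LinearAlgebra.Basis.VectorSpace

/-!
Base change of `D`-linear maps along a commutative algebra, and Schur's lemma.
-/

set_option linter.style.haveILetI false
set_option linter.style.longLine false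
set_option linter.unusedSectionVars false

noncomputable section

universe u v w w' u'

open TensorProduct

namespace Groth.ArtfunDeform

variable {K : Type u} [Field K] {D : Type v} [Ring D] [Algebra K D]
variable {E : Type w} [AddCommGroup E] [Module K E] [Module D E] [IsScalarTower K D E]
variable {F : Type w'} [AddCommGroup F] [Module K F] [Module D F] [IsScalarTower K D F]

/-- `P ⊗ Hom_D(E, F) = Hom_{P ⊗ D}(P ⊗ E, P ⊗ F)` for `E` finitely generated. -/
theorem baseChange_hom_injective_and_range [Module.Finite D E] (P : Type u') [CommRing P] [Algebra K P]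
    (Φ : P ⊗[K] (E →ₗ[D] F) →ₗ[P] (P ⊗[K] E →ₗ[P] P ⊗[K] F))
    (hΦ : ∀ (p : P) (f : E →ₗ[D] F), Φ (p ⊗ₜ[K] f) = p • (f.restrictScalars K).baseChange P) :
    Function.Injective Φ ∧
      ∀ g : P ⊗[K] E →ₗ[P] P ⊗[K] F,
        g ∈ LinearMap.range Φ ↔
          ∀ d : D, g ∘ₗ (DistribSMul.toLinearMap K E d).baseChange P =
            (DistribSMul.toLinearMap K F d).baseChange P ∘ₗ g := by
  classical
  let b := Module.Free.chooseBasis K P
  let eH := TensorProduct.equivFinsuppOfBasisLeft (N := (E →ₗ[D] F)) b
  let eF := TensorProduct.equivFinsuppOfBasisLeft (N := F) b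
  have hΦe : ∀ z e, eF (Φ z ((1 : P) ⊗ₜ e)) = (eH z).mapRange (fun f => f e) (LinearMap.zero_apply e) := by
    intro z e
    induction z using TensorProduct.induction_on with
    | zero => simp
    | tmul p f =>
      rw [hΦ, LinearMap.smul_apply, LinearMap.baseChange_tmul, smul_tmul', smul_eq_mul, mul_one]
      ext i
      simp [eH, eF]
    | add x y hx hy =>
      rw [map_add, LinearMap.add_apply, map_add, hx, hy, map_add]
      exact (Finsupp.mapRange_add (fun a b => LinearMap.add_apply a b e) _ _).symm
  refine ⟨?_, fun g => ⟨?_, fun hg => ?_⟩⟩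
  · rw [injective_iff_map_eq_zero]
    intro z hz
    refine eH.map_eq_zero_iff.1 (Finsupp.ext fun i => LinearMap.ext fun e => ?_)
    have h := DFunLike.congr_fun (hΦe z e) i
    rw [hz, LinearMap.zero_apply, map_zero, Finsupp.zero_apply, Finsupp.mapRange_apply] at h
    exact h.symm
  · rintro ⟨z, rfl⟩ d
    induction z using TensorProduct.induction_on with
    | zero => simp
    | tmul p f =>
      rw [hΦ]
      refine TensorProduct.AlgebraTensorModule.ext fun q e => ?_
      simp [smul_tmul', smul_eq_mul]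
    | add x y hx hy => rw [map_add, LinearMap.add_comp, LinearMap.comp_add, hx, hy]
  · have hd : ∀ (d : D) (e : E), g ((1 : P) ⊗ₜ (d • e)) = (DistribSMul.toLinearMap K F d).baseChange P (g ((1 : P) ⊗ₜ e)) :=
      fun d e => by simpa using LinearMap.congr_fun (hg d) ((1 : P) ⊗ₜ e)
    have hcoord : ∀ (d : D) (z : P ⊗[K] F) i, eF ((DistribSMul.toLinearMap K F d).baseChange P z) i = d • eF z i := by
      intro d z i
      induction z using TensorProduct.induction_on with
      | zero => simp
      | tmul q y => simp [eF, smul_comm d]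
      | add x y hx hy => simp [hx, hy, smul_add]
    let comp : ∀ i, E →ₗ[D] F := fun i =>
      { toFun := fun e => eF (g ((1 : P) ⊗ₜ e)) i
        map_add' := fun x y => by rw [tmul_add, map_add, map_add, Finsupp.add_apply]
        map_smul' := fun d e => by rw [hd, hcoord, RingHom.id_apply] }
    obtain ⟨s, hs⟩ := (inferInstance : Module.Finite D E).fg_top
    let T := s.biUnion fun e => (eF (g ((1 : P) ⊗ₜ e))).support
    have hT : ∀ i, i ∉ T → comp i = 0 := fun i hi => by
      refine LinearMap.ext_on hs fun e he => ?_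
      change eF (g ((1 : P) ⊗ₜ e)) i = 0
      by_contra h
      exact hi (Finset.mem_biUnion.2 ⟨e, he, Finsupp.mem_support_iff.2 h⟩)
    refine ⟨eH.symm (Finsupp.onFinset T comp fun i h => by_contra fun hi => h (hT i hi)), ?_⟩
    refine TensorProduct.AlgebraTensorModule.ext fun q e => ?_
    rw [show q ⊗ₜ[K] e = q • ((1 : P) ⊗ₜ[K] e) by rw [smul_tmul', smul_eq_mul, mul_one], map_smul, map_smul]
    congr 1
    refine eF.injective (Finsupp.ext fun i => ?_)
    rw [hΦe, Finsupp.mapRange_apply, LinearEquiv.apply_symm_apply, Finsupp.onFinset_apply]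
    rfl

/-- Schur's lemma over an algebraically closed field for a finite-dimensional space of commuting endomorphisms. -/
theorem exists_scalar_of_irreducible {L : Type u} [Field L] [IsAlgClosed L] {V : Type u'} [AddCommGroup V] [Module L V]
    {Δ : Type v} (a : Δ → V →ₗ[L] V)
    (hirr : ∀ N : Submodule L V, (∀ d x, x ∈ N → a d x ∈ N) → N = ⊥ ∨ N = ⊤)
    (A : Submodule L (V →ₗ[L] V)) [Module.Finite L A] (h1 : LinearMap.id ∈ A)
    (hA : ∀ g ∈ A, ∀ d, g ∘ₗ a d = a d ∘ₗ g) (hmul : ∀ g ∈ A, ∀ h ∈ A, g ∘ₗ h ∈ A) :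
    ∀ g ∈ A, ∃ c : L, g = c • LinearMap.id := by
  intro g hg
  rcases subsingleton_or_nontrivial A with hs | hs
  · have h : g = 0 := congrArg Subtype.val (Subsingleton.elim (⟨g, hg⟩ : A) 0)
    exact ⟨0, by rw [h, zero_smul]⟩
  let M : A →ₗ[L] A :=
    { toFun := fun h => ⟨g ∘ₗ (h : V →ₗ[L] V), hmul g hg h h.2⟩
      map_add' := fun x y => Subtype.ext (LinearMap.comp_add _ _ _)
      map_smul' := fun c x => Subtype.ext (LinearMap.comp_smul g c _) }
  obtain ⟨c, hc⟩ := Module.End.exists_eigenvalue M
  obtain ⟨h, hh⟩ := hc.exists_hasEigenvector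
  refine ⟨c, ?_⟩
  have hh' : g ∘ₗ (h : V →ₗ[L] V) = c • (h : V →ₗ[L] V) := congrArg Subtype.val hh.apply_eq_smul
  let g' := g - c • LinearMap.id
  have hg' : ∀ d x, g' (a d x) = a d (g' x) := fun d x => by
    have := LinearMap.congr_fun (hA g hg d) x
    simp only [LinearMap.comp_apply] at this
    simp [g', this]
  rcases hirr (LinearMap.ker g') (fun d x hx => by rw [LinearMap.mem_ker] at hx ⊢; rw [hg', hx, map_zero]) with hk | hk
  · exfalso
    refine hh.2 (Subtype.ext (LinearMap.ext fun x => ?_))
    have h1 : g' ((h : V →ₗ[L] V) x) = 0 := by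
      have := LinearMap.congr_fun hh' x
      simp only [LinearMap.comp_apply, LinearMap.smul_apply] at this
      simp [g', this]
    exact LinearMap.ker_eq_bot'.1 hk _ h1
  · exact sub_eq_zero.1 (LinearMap.ker_eq_top.1 hk)

end Groth.ArtfunDeform
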