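import Mathlib.RingTheory.Flat.Basic
import Mathlib.RingTheory.Artinian.Ring
import Mathlib.RingTheory.LocalRing.ResidueField.Basic
import Mathlib.LinearAlgebra.TensorProduct.RightExactness
import Mathlib.LinearAlgebra.TensorProduct.Quotient
import Mathlib.RingTheory.Regular.RegularSequence
import Mathlib.RingTheory.Flat.Stability
import Mathlib.LinearAlgebra.TensorProduct.Tower
import Mathlib.LinearAlgebra.Dimension.Free
import Mathlib.LinearAlgebra.Basis.VectorSpace

/-!
Regular sequences lift along a proper ideal of an Artinian local base, with flat quotients.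

The residue field embeds in `R/J`, so an endomorphism of a flat module which is injective modulo `J`
is injective after any base change.
-/

set_option autoImplicit false

noncomputable section

universe u v

open TensorProduct IsLocalRing
open scoped Pointwise

namespace Groth.ArtfunDeform.RegFlat

variable {R : Type u} [CommRing R] [IsLocalRing R]

theorem exists_socle [IsArtinianRing R] {J : Ideal R} (hJ : J ≠ ⊤) :
    ∃ s, s ∉ J ∧ ∀ a ∈ maximalIdeal R, a * s ∈ J := by
  classical
  obtain ⟨n, hn⟩ := IsArtinianRing.isNilpotent_jacobson_bot (R := R)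
  rw [IsLocalRing.jacobson_eq_maximalIdeal ⊥ bot_ne_top] at hn
  have hex : ∃ n, maximalIdeal R ^ n ≤ J := ⟨n, hn.le.trans bot_le⟩
  have h0 : Nat.find hex ≠ 0 := fun h => hJ (top_le_iff.mp (by
    have := Nat.find_spec hex
    rwa [h, pow_zero, Ideal.one_eq_top] at this))
  obtain ⟨m, hm⟩ := Nat.exists_eq_succ_of_ne_zero h0
  obtain ⟨s, hs, hsJ⟩ := SetLike.not_le_iff_exists.mp (Nat.find_min hex (hm ▸ Nat.lt_succ_self m))
  refine ⟨s, hsJ, fun a ha => Nat.find_spec hex ?_⟩
  rw [hm, pow_succ']
  exact Ideal.mul_mem_mul ha hs

variable {M : Type v} [AddCommGroup M] [Module R M] [Module.Flat R M] (f : M →ₗ[R] M)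

/-- injective after tensoring with the residue field -/
theorem injective_residue [IsArtinianRing R] {J : Ideal R} (hJ : J ≠ ⊤)
    (hf : ∀ x, f x ∈ J • (⊤ : Submodule R M) → x ∈ J • (⊤ : Submodule R M)) :
    Function.Injective (LinearMap.lTensor (ResidueField R) f) := by
  obtain ⟨s, hs, hms⟩ := exists_socle hJ
  let g : ResidueField R →ₗ[R] R ⧸ J :=
    Submodule.liftQ (maximalIdeal R) (LinearMap.toSpanSingleton R _ (Ideal.Quotient.mk J s))
      (fun a ha => by
        rw [LinearMap.mem_ker, LinearMap.toSpanSingleton_apply, Algebra.smul_def, Ideal.Quotient.algebraMap_eq, ← map_mul]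
        exact Ideal.Quotient.eq_zero_iff_mem.mpr (hms a ha))
  have hg : Function.Injective g := by
    rw [injective_iff_map_eq_zero]
    intro x hx
    obtain ⟨a, rfl⟩ := Submodule.Quotient.mk_surjective _ x
    refine (Submodule.Quotient.mk_eq_zero _).mpr ?_
    by_contra hu
    have hu' : IsUnit a := not_not.mp (fun h => hu ((mem_maximalIdeal a).mpr h))
    change LinearMap.toSpanSingleton R _ (Ideal.Quotient.mk J s) a = 0 at hx
    rw [LinearMap.toSpanSingleton_apply, Algebra.smul_def, Ideal.Quotient.algebraMap_eq, ← map_mul,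
      Ideal.Quotient.eq_zero_iff_mem] at hx
    exact hs ((Ideal.unit_mul_mem_iff_mem J hu').mp hx)
  have h1 : Function.Injective (LinearMap.lTensor (R ⧸ J) f) := by
    rw [injective_iff_map_eq_zero]
    intro z hz
    let e := TensorProduct.quotTensorEquivQuotSMul M J
    obtain ⟨x, hx⟩ := Submodule.Quotient.mk_surjective _ (e z)
    have hz' : z = (1 : R ⧸ J) ⊗ₜ[R] x := by
      apply e.injective
      rw [← hx]
      change _ = e (Ideal.Quotient.mk J 1 ⊗ₜ[R] x)
      rw [TensorProduct.quotTensorEquivQuotSMul_mk_tmul, one_smul]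
    have hfx : e ((1 : R ⧸ J) ⊗ₜ[R] f x) = 0 := by
      rw [hz', LinearMap.lTensor_tmul] at hz
      rw [hz, map_zero]
    change e (Ideal.Quotient.mk J 1 ⊗ₜ[R] f x) = 0 at hfx
    rw [TensorProduct.quotTensorEquivQuotSMul_mk_tmul, one_smul, Submodule.Quotient.mk_eq_zero] at hfx
    apply e.injective
    rw [map_zero, ← hx, Submodule.Quotient.mk_eq_zero]
    exact hf x hfx
  rw [injective_iff_map_eq_zero]
  intro z hz
  apply Module.Flat.rTensor_preserves_injective_linearMap (M := M) g hg
  rw [map_zero]
  apply h1
  rw [map_zero]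
  have := LinearMap.congr_fun ((LinearMap.lTensor_comp_rTensor _ g f).trans (LinearMap.rTensor_comp_lTensor _ g f).symm) z
  simp only [LinearMap.comp_apply, hz, map_zero] at this
  exact this

/-- injective after tensoring with a module killed by the maximal ideal -/
theorem injective_killed (hk : Function.Injective (LinearMap.lTensor (ResidueField R) f))
    (N : Type u) [AddCommGroup N] [Module R N] (hN : ∀ a ∈ maximalIdeal R, ∀ x : N, a • x = 0) :
    Function.Injective (LinearMap.lTensor N f) := by
  classical
  letI : Module (ResidueField R) N := Module.IsTorsionBySet.module (I := maximalIdeal R) (fun x a => hN a a.2 x)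
  haveI : IsScalarTower R (ResidueField R) N := IsScalarTower.of_algebraMap_smul fun _ _ => rfl
  let e := AlgebraTensorModule.cancelBaseChange R (ResidueField R) (ResidueField R) N M
  have hb : Function.Injective (LinearMap.lTensor N (f.baseChange (ResidueField R))) := by
    haveI : Module.Free (ResidueField R) N := Module.Free.of_divisionRing _ _
    haveI : Module.Flat (ResidueField R) N := Module.Flat.of_free
    refine Module.Flat.lTensor_preserves_injective_linearMap _ ?_
    intro a b h
    exact hk h
  have hc : ∀ z, LinearMap.lTensor N f (e z) = e (LinearMap.lTensor N (f.baseChange (ResidueField R)) z) := by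
    intro z
    induction z using TensorProduct.induction_on with
    | zero => simp
    | tmul n w =>
      induction w using TensorProduct.induction_on with
      | zero => simp
      | tmul a m => simp [e]
      | add a b ha hb => simp only [tmul_add, map_add, ha, hb]
    | add a b ha hb => simp only [map_add, ha, hb]
  intro a b hab
  obtain ⟨a, rfl⟩ := e.surjective a
  obtain ⟨b, rfl⟩ := e.surjective b
  rw [hc, hc] at hab
  rw [hb (e.injective hab)]

theorem injective_all [IsArtinianRing R] (hk : Function.Injective (LinearMap.lTensor (ResidueField R) f))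
    (N : Type u) [AddCommGroup N] [Module R N] : Function.Injective (LinearMap.lTensor N f) := by
  obtain ⟨n, hn⟩ := IsArtinianRing.isNilpotent_jacobson_bot (R := R)
  rw [IsLocalRing.jacobson_eq_maximalIdeal ⊥ bot_ne_top] at hn
  suffices H : ∀ (n : ℕ) (N : Type u) [AddCommGroup N] [Module R N],
      maximalIdeal R ^ n • (⊤ : Submodule R N) = ⊥ → Function.Injective (LinearMap.lTensor N f) from
    H n N (by rw [hn]; exact Submodule.bot_smul _)
  intro n
  induction n with
  | zero =>
    intro N _ _ h
    refine injective_killed f hk N fun a _ x => ?_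
    have hx : a • x ∈ maximalIdeal R ^ 0 • (⊤ : Submodule R N) := by simp
    rwa [h, Submodule.mem_bot] at hx
  | succ n ih =>
    intro N _ _ h
    set N1 : Submodule R N := maximalIdeal R • ⊤ with hN1
    have h1 : Function.Injective (LinearMap.lTensor N1 f) := by
      refine ih N1 ?_
      apply Submodule.map_injective_of_injective N1.injective_subtype
      rw [Submodule.map_smul'', Submodule.map_subtype_top, Submodule.map_bot]
      rw [hN1, ← Submodule.smul_assoc, Ideal.smul_eq_mul, ← pow_succ]
      exact h
    have h2 : Function.Injective (LinearMap.lTensor (N ⧸ N1) f) := by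
      refine injective_killed f hk _ fun a ha x => ?_
      obtain ⟨y, rfl⟩ := N1.mkQ_surjective x
      rw [← map_smul]
      exact (Submodule.Quotient.mk_eq_zero _).mpr (Submodule.smul_mem_smul ha trivial)
    rw [injective_iff_map_eq_zero]
    intro z hz
    have hπ : LinearMap.rTensor M N1.mkQ z = 0 := by
      apply h2
      rw [map_zero]
      have := LinearMap.congr_fun ((LinearMap.lTensor_comp_rTensor _ N1.mkQ f).trans (LinearMap.rTensor_comp_lTensor _ N1.mkQ f).symm) z
      simp only [LinearMap.comp_apply, hz, map_zero] at this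
      exact this
    obtain ⟨w, rfl⟩ := (rTensor_exact M (LinearMap.exact_subtype_mkQ N1) N1.mkQ_surjective z).mp hπ
    have := LinearMap.congr_fun ((LinearMap.lTensor_comp_rTensor _ N1.subtype f).trans (LinearMap.rTensor_comp_lTensor _ N1.subtype f).symm) w
    simp only [LinearMap.comp_apply] at this
    rw [this] at hz
    have hw := Module.Flat.rTensor_preserves_injective_linearMap (M := M) N1.subtype N1.injective_subtype
      (hz.trans (map_zero _).symm)
    rw [h1 (hw.trans (map_zero _).symm), map_zero]

/-- the cokernel of a universally injective endomorphism of a flat module is flat -/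
theorem flat_coker (hall : ∀ (N : Type u) [AddCommGroup N] [Module R N], Function.Injective (LinearMap.lTensor N f)) :
    Module.Flat R (M ⧸ LinearMap.range f) := by
  rw [Module.Flat.iff_rTensor_preserves_injective_linearMap'.{u}]
  intro N' N _ _ _ _ ι hι
  rw [injective_iff_map_eq_zero]
  intro z hz
  obtain ⟨w, rfl⟩ := LinearMap.lTensor_surjective N' (LinearMap.range f).mkQ_surjective z
  have hcomm : ∀ (A B : Type u) [AddCommGroup A] [Module R A] [AddCommGroup B] [Module R B] (h : A →ₗ[R] B)
      (g : M →ₗ[R] M) (v : A ⊗[R] M),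
      LinearMap.lTensor B g (LinearMap.rTensor M h v) = LinearMap.rTensor M h (LinearMap.lTensor A g v) := by
    intro A B _ _ _ _ h g v
    rw [← LinearMap.comp_apply, ← LinearMap.comp_apply, LinearMap.lTensor_comp_rTensor, LinearMap.rTensor_comp_lTensor]
  have hex : Function.Exact f (LinearMap.range f).mkQ := LinearMap.exact_map_mkQ_range f
  have h0 : LinearMap.lTensor N (LinearMap.range f).mkQ (LinearMap.rTensor M ι w) = 0 := by
    have := LinearMap.congr_fun ((LinearMap.lTensor_comp_rTensor _ ι (LinearMap.range f).mkQ).trans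
      (LinearMap.rTensor_comp_lTensor _ ι (LinearMap.range f).mkQ).symm) w
    simp only [LinearMap.comp_apply] at this
    rw [this, hz]
  obtain ⟨v, hv⟩ := (lTensor_exact N hex (LinearMap.range f).mkQ_surjective _).mp h0
  have hv2 : LinearMap.rTensor M (LinearMap.range ι).mkQ v = 0 := by
    apply hall (N ⧸ LinearMap.range ι)
    rw [map_zero, hcomm, hv, ← LinearMap.rTensor_comp_apply, (LinearMap.exact_map_mkQ_range ι).linearMap_comp_eq_zero]
    simp
  obtain ⟨v', hv'⟩ := (rTensor_exact M (LinearMap.exact_map_mkQ_range ι) (LinearMap.range ι).mkQ_surjective v).mp hv2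
  rw [← hv', hcomm] at hv
  have hw := Module.Flat.rTensor_preserves_injective_linearMap (M := M) ι hι hv
  rw [← hw, ← LinearMap.lTensor_comp_apply, hex.linearMap_comp_eq_zero]
  simp

/-- one step -/
theorem step [IsArtinianRing R] {J : Ideal R} (hJ : J ≠ ⊤)
    (hf : ∀ x, f x ∈ J • (⊤ : Submodule R M) → x ∈ J • (⊤ : Submodule R M)) :
    Function.Injective f ∧ Module.Flat R (M ⧸ LinearMap.range f) := by
  have hall := fun (N : Type u) [AddCommGroup N] [Module R N] => injective_all f (injective_residue f hJ hf) N
  refine ⟨fun a b hab => ?_, flat_coker f hall⟩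
  have h := @hall R _ _ (1 ⊗ₜ a) (1 ⊗ₜ b) (by rw [LinearMap.lTensor_tmul, LinearMap.lTensor_tmul, hab])
  simpa using congrArg (TensorProduct.lid R M) h

/-- converse: an injective endomorphism with universally injective behaviour stays injective mod `J` -/
theorem mem_smul_top_of_injective [IsArtinianRing R] (hinj : Function.Injective f) (J : Ideal R) :
    ∀ x, f x ∈ J • (⊤ : Submodule R M) → x ∈ J • (⊤ : Submodule R M) := by
  intro x hx
  have hk : Function.Injective (LinearMap.lTensor (ResidueField R) f) :=
    injective_residue f (J := ⊥) bot_ne_top (fun y hy => by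
      rw [Submodule.bot_smul, Submodule.mem_bot] at hy ⊢
      exact hinj (hy.trans (map_zero f).symm))
  have h := injective_all f hk (R ⧸ J)
  let e := TensorProduct.quotTensorEquivQuotSMul M J
  have h0 : LinearMap.lTensor (R ⧸ J) f (Ideal.Quotient.mk J 1 ⊗ₜ x) = 0 := by
    apply e.injective
    rw [map_zero, LinearMap.lTensor_tmul, TensorProduct.quotTensorEquivQuotSMul_mk_tmul, one_smul, Submodule.Quotient.mk_eq_zero]
    exact hx
  have h1 := congrArg e (h (h0.trans (map_zero _).symm))
  rwa [map_zero, TensorProduct.quotTensorEquivQuotSMul_mk_tmul, one_smul, Submodule.Quotient.mk_eq_zero] at h1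

open RingTheory.Sequence in
/-- weakly regular sequences on a flat module stay regular modulo `J` -/
theorem isWeaklyRegular_mod {R : Type u} [CommRing R] [IsLocalRing R] [IsArtinianRing R] (J : Ideal R)
    {B : Type v} [CommRing B] [Algebra R B] (rs : List B) :
    ∀ (M : Type v) [AddCommGroup M] [Module B M] [Module R M] [IsScalarTower R B M] [Module.Flat R M],
      IsWeaklyRegular M rs → IsWeaklyRegular (M ⧸ J.map (algebraMap R B) • (⊤ : Submodule B M)) rs := by
  induction rs with
  | nil => intro M _ _ _ _ _ _; exact IsWeaklyRegular.nil B _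
  | cons x rs ih =>
    intro M _ _ _ _ _ h
    rw [isWeaklyRegular_cons_iff] at h ⊢
    let f : M →ₗ[R] M := ((LinearMap.lsmul B M) x).restrictScalars R
    have hr : (J.map (algebraMap R B) • (⊤ : Submodule B M)).restrictScalars R = J • (⊤ : Submodule R M) := by
      rw [Submodule.restrictScalars_map_smul_eq, Submodule.restrictScalars_top]
    have hm := mem_smul_top_of_injective f (fun a b hab => h.1 hab) J
    have hfl : Module.Flat R (QuotSMulTop x M) := by
      have e : LinearMap.range f = (x • (⊤ : Submodule B M)).restrictScalars R := by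
        ext m
        simp [f, Submodule.mem_smul_pointwise_iff_exists]
      have hz : ∀ m, f m ∈ (⊥ : Ideal R) • (⊤ : Submodule R M) → m ∈ (⊥ : Ideal R) • (⊤ : Submodule R M) := fun m hm => by
        rw [Submodule.bot_smul, Submodule.mem_bot] at hm ⊢
        exact h.1 (hm.trans (smul_zero x).symm)
      haveI := (step f bot_ne_top hz).2
      exact Module.Flat.of_linearEquiv ((Submodule.Quotient.restrictScalarsEquiv R _).symm ≪≫ₗ
        Submodule.quotEquivOfEq _ _ e.symm)
    refine ⟨?_, ?_⟩
    · intro a b hab
      obtain ⟨a, rfl⟩ := Submodule.Quotient.mk_surjective _ a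
      obtain ⟨b, rfl⟩ := Submodule.Quotient.mk_surjective _ b
      rw [Submodule.Quotient.eq]
      have h2 : x • a - x • b ∈ J.map (algebraMap R B) • (⊤ : Submodule B M) := (Submodule.Quotient.eq _).mp hab
      rw [← smul_sub] at h2
      rw [← Submodule.restrictScalars_mem R, hr] at h2 ⊢
      exact hm _ h2
    · let I := J.map (algebraMap R B)
      exact (LinearEquiv.isWeaklyRegular_congr
        ((QuotSMulTop.equivQuotTensor x _) ≪≫ₗ (LinearEquiv.lTensor _ (TensorProduct.quotTensorEquivQuotSMul M I).symm) ≪≫ₗ
          TensorProduct.leftComm B _ _ _ ≪≫ₗ (LinearEquiv.lTensor _ (QuotSMulTop.equivQuotTensor x M).symm) ≪≫ₗ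
          (TensorProduct.quotTensorEquivQuotSMul (QuotSMulTop x M) I)) rs).mpr (ih (QuotSMulTop x M) h.2)

open RingTheory.Sequence in
/-- weakly regular sequences modulo `J` lift, with flat quotients -/
theorem isWeaklyRegular_and_flat {R : Type u} [CommRing R] [IsLocalRing R] [IsArtinianRing R] {J : Ideal R} (hJ : J ≠ ⊤)
    {B : Type v} [CommRing B] [Algebra R B] (rs : List B) :
    ∀ (M : Type v) [AddCommGroup M] [Module B M] [Module R M] [IsScalarTower R B M] [Module.Flat R M],
      IsWeaklyRegular (M ⧸ J.map (algebraMap R B) • (⊤ : Submodule B M)) rs →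
      IsWeaklyRegular M rs ∧ Module.Flat R (M ⧸ Ideal.ofList rs • (⊤ : Submodule B M)) := by
  induction rs with
  | nil =>
    intro M _ _ _ _ _ _
    refine ⟨IsWeaklyRegular.nil B M, ?_⟩
    exact Module.Flat.of_linearEquiv ((Submodule.quotEquivOfEqBot _ (by simp [Ideal.ofList_nil])).restrictScalars R)
  | cons x rs ih =>
    intro M _ _ _ _ _ h
    rw [isWeaklyRegular_cons_iff] at h
    let f : M →ₗ[R] M := ((LinearMap.lsmul B M) x).restrictScalars R
    have hr : (J.map (algebraMap R B) • (⊤ : Submodule B M)).restrictScalars R = J • (⊤ : Submodule R M) := by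
      rw [Submodule.restrictScalars_map_smul_eq, Submodule.restrictScalars_top]
    have hf : ∀ m, f m ∈ J • (⊤ : Submodule R M) → m ∈ J • (⊤ : Submodule R M) := by
      intro m hm
      rw [← hr, Submodule.restrictScalars_mem] at hm ⊢
      rw [← Submodule.Quotient.mk_eq_zero] at hm ⊢
      apply h.1
      exact (Submodule.Quotient.mk_smul _ x m).symm.trans (hm.trans (smul_zero _).symm)
    obtain ⟨hinj, hflat⟩ := step f hJ hf
    have hfl : Module.Flat R (QuotSMulTop x M) := by
      have e : LinearMap.range f = (x • (⊤ : Submodule B M)).restrictScalars R := by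
        ext m
        simp [f, Submodule.mem_smul_pointwise_iff_exists]
      exact Module.Flat.of_linearEquiv ((Submodule.Quotient.restrictScalarsEquiv R _).symm ≪≫ₗ
        Submodule.quotEquivOfEq _ _ e.symm)
    let I := J.map (algebraMap R B)
    -- reduce the tail
    have h2 : IsWeaklyRegular (QuotSMulTop x M ⧸ I • (⊤ : Submodule B (QuotSMulTop x M))) rs :=
      (LinearEquiv.isWeaklyRegular_congr
        ((QuotSMulTop.equivQuotTensor x _) ≪≫ₗ (LinearEquiv.lTensor _ (TensorProduct.quotTensorEquivQuotSMul M I).symm) ≪≫ₗ
          TensorProduct.leftComm B _ _ _ ≪≫ₗ (LinearEquiv.lTensor _ (QuotSMulTop.equivQuotTensor x M).symm) ≪≫ₗ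
          (TensorProduct.quotTensorEquivQuotSMul (QuotSMulTop x M) I)) rs).mp h.2
    obtain ⟨ht, htf⟩ := ih (QuotSMulTop x M) h2
    refine ⟨(isWeaklyRegular_cons_iff M x rs).mpr ⟨hinj, ht⟩, ?_⟩
    exact Module.Flat.of_linearEquiv ((Submodule.quotOfListConsSMulTopEquivQuotSMulTopInner M x rs).restrictScalars R)

end Groth.ArtfunDeform.RegFlat
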