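import Groth.Agent.ArtfunDeform.Completion
import Mathlib.RingTheory.AdicCompletion.Noetherian
import Mathlib.LinearAlgebra.Basis.VectorSpace

/-!
Schlessinger's theorem: versal families, hulls and pro-representability.
-/

set_option linter.style.haveILetI false
set_option linter.style.longLine false
set_option linter.unusedSectionVars false

universe u v

open CategoryTheory

namespace Groth.ArtfunDeform

open ArtFun ArtFun.Art

variable {Λ : Type u} {k : Type u} [CommRing Λ] [Field k] [Algebra Λ k]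

local notation "𝔪" => IsLocalRing.maximalIdeal

section General

variable {R : Type u} [CommRing R] [Algebra Λ R] {resR : R →ₐ[Λ] k}

/-- Factorisation through a surjective homomorphism with smaller kernel. -/
lemma exists_factor_of_ker_le {A A' : Art Λ k} (φ : HomSet R resR A) (hφ : Function.Surjective φ.1)
    (ψ : HomSet R resR A') (h : RingHom.ker φ.1 ≤ RingHom.ker ψ.1) :
    ∃ u : A ⟶ A', HomSet.map u φ = ψ := by
  let e := Ideal.quotientKerAlgEquivOfSurjective hφ
  let g : A →ₐ[Λ] A' := (Ideal.Quotient.liftₐ (RingHom.ker φ.1) ψ.1 fun _ ha => h ha).comp e.symm.toAlgHom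
  have hg : ∀ r, g (φ.1 r) = ψ.1 r := fun r => by
    have he : e.symm (φ.1 r) = Ideal.Quotient.mk (RingHom.ker φ.1) r := e.symm_apply_eq.2 rfl
    change Ideal.Quotient.liftₐ (RingHom.ker φ.1) ψ.1 (fun _ ha => h ha) (e.symm (φ.1 r)) = _
    rw [he]
    rfl
  refine ⟨homMk g (AlgHom.ext fun a => ?_), homSet_ext hg⟩
  obtain ⟨r, rfl⟩ := hφ a
  change A'.res (g (φ.1 r)) = A.res (φ.1 r)
  rw [hg, homSet_res, homSet_res]

lemma hom_eq_of_map_eq {A A' : Art Λ k} (φ : HomSet R resR A) (hφ : Function.Surjective φ.1) {u u' : A ⟶ A'}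
    (h : HomSet.map u φ = HomSet.map u' φ) : u = u' :=
  hom_ext_apply fun a => by
    obtain ⟨r, rfl⟩ := hφ a
    exact congrArg (fun t : HomSet R resR A' => t.1 r) h

end General

section Complete

/-- A quotient of an adically complete Noetherian local ring is adically complete. -/
theorem isAdicComplete_of_surjective {P R : Type u} [CommRing P] [CommRing R] [IsLocalRing P]
    [IsLocalRing R] [IsNoetherianRing R] [IsAdicComplete (𝔪 P) P] (f : P →+* R) (hf : Function.Surjective f) :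
    IsAdicComplete (𝔪 R) R := by
  haveI : IsPrecomplete (𝔪 R) R := by
    refine ⟨fun a ha => ?_⟩
    have hm : 𝔪 R = (𝔪 P).map f := by
      refine le_antisymm (fun x hx => ?_) (Ideal.map_le_iff_le_comap.2 fun x hx => ?_)
      · obtain ⟨y, rfl⟩ := hf x
        refine Ideal.mem_map_of_mem _ ?_
        rw [IsLocalRing.mem_maximalIdeal] at hx ⊢
        exact fun h => hx (h.map f)
      · rw [Ideal.mem_comap, IsLocalRing.mem_maximalIdeal]
        intro hu
        obtain ⟨y, hy⟩ := hf ↑hu.unit⁻¹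
        have h1 : 1 - x * y ∈ RingHom.ker f := by
          rw [RingHom.mem_ker, map_sub, map_one, map_mul, hy, sub_eq_zero]
          exact hu.mul_val_inv.symm
        have h2 : 1 - x * y ∈ 𝔪 P := IsLocalRing.le_maximalIdeal (RingHom.ker_ne_top f) h1
        have h3 : (1 : P) ∈ 𝔪 P := by
          have := Ideal.add_mem _ h2 (Ideal.mul_mem_right y _ hx)
          rwa [sub_add_cancel] at this
        exact (IsLocalRing.maximalIdeal.isMaximal P).ne_top ((Ideal.eq_top_iff_one _).2 h3)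
    have hpow : ∀ n, (𝔪 R) ^ n = ((𝔪 P) ^ n).map f := fun n => by rw [Ideal.map_pow, hm]
    have step : ∀ n, ∀ b : P, f b = a n → ∃ b' : P, f b' = a (n + 1) ∧ b' - b ∈ (𝔪 P) ^ n := by
      intro n b hb
      have h1 : a (n + 1) - a n ∈ (𝔪 R) ^ n := by
        have := (ha (Nat.le_succ n)).symm
        rw [SModEq.sub_mem, smul_eq_mul, Ideal.mul_top] at this
        exact this
      rw [hpow, Ideal.mem_map_iff_of_surjective f hf] at h1
      obtain ⟨d, hd, hd'⟩ := h1
      exact ⟨b + d, by rw [map_add, hb, hd', add_sub_cancel], by rwa [add_sub_cancel_left]⟩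
    obtain ⟨b0, hb0⟩ := hf (a 0)
    let seq : ∀ n, {b : P // f b = a n} := fun n =>
      Nat.rec ⟨b0, hb0⟩ (fun n b => ⟨(step n b.1 b.2).choose, (step n b.1 b.2).choose_spec.1⟩) n
    have hstep : ∀ n, (seq (n + 1)).1 - (seq n).1 ∈ (𝔪 P) ^ n := fun n =>
      (step n (seq n).1 (seq n).2).choose_spec.2
    have hc : ∀ {m n : ℕ}, m ≤ n → (seq n).1 - (seq m).1 ∈ (𝔪 P) ^ m := by
      intro m n hmn
      induction n, hmn using Nat.le_induction with
      | base => rw [sub_self]; exact Ideal.zero_mem _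
      | succ n hmn ih =>
        have := Ideal.add_mem _ (Ideal.pow_le_pow_right hmn (hstep n)) ih
        rwa [sub_add_sub_cancel] at this
    obtain ⟨L, hL⟩ := IsPrecomplete.prec' (I := 𝔪 P) (M := P) (fun n => (seq n).1) (fun {m n} hmn => by
      rw [SModEq.sub_mem, smul_eq_mul, Ideal.mul_top, ← neg_sub, Ideal.neg_mem_iff]
      exact hc hmn)
    refine ⟨f L, fun n => ?_⟩
    have := hL n
    rw [SModEq.sub_mem, smul_eq_mul, Ideal.mul_top] at this ⊢
    rw [← (seq n).2, ← map_sub, hpow]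
    exact Ideal.mem_map_of_mem _ this
  exact { toIsHausdorff := inferInstance, toIsPrecomplete := inferInstance }

/-- Chevalley's lemma. -/
theorem chevalley {P : Type u} [CommRing P] [IsLocalRing P] [IsNoetherianRing P] [IsAdicComplete (𝔪 P) P]
    (J : ℕ → Ideal P) (hJ : Antitone J)
    (hart : ∀ N, IsArtinianRing (P ⧸ (𝔪 P) ^ N)) (N : ℕ) :
    ∃ q, J q ≤ (⨅ i, J i) ⊔ (𝔪 P) ^ N := by
  have stab : ∀ M, ∃ q, ∀ q', q ≤ q' → J q ⊔ (𝔪 P) ^ M = J q' ⊔ (𝔪 P) ^ M := by
    intro M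
    haveI := hart M
    let g : ℕ →o (Ideal (P ⧸ (𝔪 P) ^ M))ᵒᵈ :=
      ⟨fun q => OrderDual.toDual ((J q).map (Ideal.Quotient.mk ((𝔪 P) ^ M))),
        fun a b hab => Ideal.map_mono (hJ hab)⟩
    obtain ⟨q, hq⟩ := IsArtinian.monotone_stabilizes g
    refine ⟨q, fun q' hq' => ?_⟩
    have h : (J q).map (Ideal.Quotient.mk ((𝔪 P) ^ M)) = (J q').map (Ideal.Quotient.mk ((𝔪 P) ^ M)) :=
      hq q' hq'
    have h' := congrArg (Ideal.comap (Ideal.Quotient.mk ((𝔪 P) ^ M))) h
    rwa [Ideal.comap_map_of_surjective _ Ideal.Quotient.mk_surjective,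
      Ideal.comap_map_of_surjective _ Ideal.Quotient.mk_surjective, ← RingHom.ker_eq_comap_bot, Ideal.mk_ker] at h'
  choose Q hQ using stab
  refine ⟨Q N, fun x hx => ?_⟩
  -- approximate `x` inside the stable images
  let K : ℕ → Ideal P := fun M => J (Q M) ⊔ (𝔪 P) ^ M
  have hK : ∀ M q, K M ≤ J q ⊔ (𝔪 P) ^ M := fun M q => by
    simp only [K]
    rw [hQ M (max (Q M) q) (le_max_left _ _)]
    exact sup_le_sup_right (hJ (le_max_right _ _)) _
  have step : ∀ M (y : P), y ∈ K M → ∃ y' ∈ K (M + 1), y' - y ∈ (𝔪 P) ^ M := by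
    intro M y hy
    obtain ⟨a, ha, b, hb, rfl⟩ := Submodule.mem_sup.1 (hK M (Q (M + 1)) hy)
    exact ⟨a, (le_sup_left : J (Q (M + 1)) ≤ _) ha, by rwa [sub_add_cancel_left, Ideal.neg_mem_iff]⟩
  let seq : ∀ i, {y : P // y ∈ K (N + i)} := fun i =>
    Nat.rec ⟨x, (le_sup_left : J (Q N) ≤ _) hx⟩
      (fun i y => ⟨(step (N + i) y.1 y.2).choose, (step (N + i) y.1 y.2).choose_spec.1⟩) i
  have hstep : ∀ i, (seq (i + 1)).1 - (seq i).1 ∈ (𝔪 P) ^ (N + i) := fun i =>
    (step (N + i) (seq i).1 (seq i).2).choose_spec.2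
  have hc : ∀ {i j : ℕ}, i ≤ j → (seq j).1 - (seq i).1 ∈ (𝔪 P) ^ (N + i) := by
    intro i j hij
    induction j, hij using Nat.le_induction with
    | base => rw [sub_self]; exact Ideal.zero_mem _
    | succ j hij ih =>
      have := Ideal.add_mem _ (Ideal.pow_le_pow_right (Nat.add_le_add_left hij N) (hstep j)) ih
      rwa [sub_add_sub_cancel] at this
  obtain ⟨L, hL⟩ := IsPrecomplete.prec' (I := 𝔪 P) (M := P) (fun i => (seq i).1) (fun {m n} hmn => by
    rw [SModEq.sub_mem, smul_eq_mul, Ideal.mul_top, ← neg_sub, Ideal.neg_mem_iff]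
    exact Ideal.pow_le_pow_right (Nat.le_add_left m N) (hc hmn))
  have hL' : ∀ i, (seq i).1 - L ∈ (𝔪 P) ^ i := fun i => by
    have := hL i
    rwa [SModEq.sub_mem, smul_eq_mul, Ideal.mul_top] at this
  have hLJ : ∀ q, L ∈ J q := by
    intro q
    haveI : IsHausdorff (𝔪 P) (P ⧸ J q) := inferInstance
    rw [← Ideal.Quotient.eq_zero_iff_mem]
    refine IsHausdorff.haus' (I := 𝔪 P) _ fun i => ?_
    rw [SModEq.sub_mem, sub_zero]
    have h1 : L ∈ J q ⊔ (𝔪 P) ^ i := by
      have hle : J q ⊔ (𝔪 P) ^ (N + i) ≤ J q ⊔ (𝔪 P) ^ i :=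
        sup_le (le_sup_left) ((Ideal.pow_le_pow_right (Nat.le_add_left i N)).trans le_sup_right)
      have h2 : (seq i).1 ∈ J q ⊔ (𝔪 P) ^ i := hle (hK _ q (seq i).2)
      have := Ideal.sub_mem _ h2 ((le_sup_right : (𝔪 P) ^ i ≤ J q ⊔ _) (hL' i))
      rwa [sub_sub_cancel] at this
    obtain ⟨a, ha, b, hb, rfl⟩ := Submodule.mem_sup.1 h1
    rw [map_add, Ideal.Quotient.eq_zero_iff_mem.2 ha, zero_add]
    have h3 : b • (1 : P ⧸ J q) ∈ (𝔪 P) ^ i • (⊤ : Submodule P (P ⧸ J q)) :=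
      Submodule.smul_mem_smul hb trivial
    rwa [Algebra.smul_def, mul_one] at h3
  have h1 : x - L ∈ (𝔪 P) ^ N := by
    have h2 : (seq N).1 - L - ((seq N).1 - x) ∈ (𝔪 P) ^ N :=
      Ideal.sub_mem _ (hL' N) (Ideal.pow_le_pow_right (Nat.le_add_right N 0) (hc (Nat.zero_le N)))
    rwa [show (seq N).1 - L - ((seq N).1 - x) = x - L by ring] at h2
  have h3 : x = L + (x - L) := (add_sub_cancel L x).symm
  rw [h3]
  exact Submodule.add_mem_sup (Ideal.mem_iInf.2 hLJ) h1

end Complete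

variable [Module.Finite Λ k] {F : Art Λ k ⥤ Type v}

section Least

/-- Existence of a least ideal in the kernel of a semismall extension to which `x` lifts. -/
theorem exists_least (h1 : S1 F) {B A : Art Λ k} (p : B ⟶ A) (hp : IsSemismallExt p) (x : F.obj A) :
    ∃ (J₀ : Ideal B) (hJ₀ : J₀ ≤ RingHom.ker p.toAlgHom) (hJ₀' : J₀ ≤ 𝔪 B),
      (∃ y : F.obj (Art.quot B J₀ hJ₀'), F.map (Art.quotFactor hJ₀' p hJ₀) y = x) ∧
      ∀ (J : Ideal B) (hJ : J ≤ RingHom.ker p.toAlgHom) (hJ' : J ≤ 𝔪 B),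
        (∃ y : F.obj (Art.quot B J hJ'), F.map (Art.quotFactor hJ' p hJ) y = x) → J₀ ≤ J := by
  let I := RingHom.ker p.toAlgHom
  let P : Ideal B → Prop := fun J => ∃ (hJ : J ≤ I) (hJ' : J ≤ 𝔪 B),
    ∃ y : F.obj (Art.quot B J hJ'), F.map (Art.quotFactor hJ' p hJ) y = x
  have hIm : I ≤ 𝔪 B := ker_le_maximalIdeal p
  have hne : ∃ J, P J := by
    refine ⟨I, le_rfl, hIm, ?_⟩
    haveI : IsIso (Art.quotFactor hIm p le_rfl) := isIso_of_bijective _
      ⟨quotFactor_injective _ _ _ le_rfl, quotFactor_surjective _ _ _ hp.1⟩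
    exact (bijective_map_of_isIso F _).2 x
  have inter : ∀ J₁ J₂, P J₁ → P J₂ → P (J₁ ⊓ J₂) := by
    rintro J₁ J₂ ⟨hJ₁, hJ₁', y₁, hy₁⟩ ⟨hJ₂, hJ₂', y₂, hy₂⟩
    -- enlarge `J₂` so that `J₁ + J₂ = I`
    let S : Set (Ideal B) := {J | J₂ ≤ J ∧ J ≤ I ∧ J₁ ⊓ J ≤ J₁ ⊓ J₂}
    obtain ⟨J, ⟨hJ2, hJI, hJJ⟩, hmax⟩ :=
      (wellFounded_gt : WellFounded ((· > ·) : Ideal B → Ideal B → Prop)).has_min S ⟨J₂, le_rfl, hJ₂, le_rfl⟩
    have hJ' : J ≤ 𝔪 B := hJI.trans hIm
    have hinf : J₁ ⊓ J₂ = J₁ ⊓ J := le_antisymm (inf_le_inf_left _ hJ2) hJJ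
    have hsup : I ≤ J₁ ⊔ J := by
      intro z hz
      by_contra hzn
      let J' := J ⊔ Ideal.span {z}
      refine hmax J' ⟨hJ2.trans le_sup_left, sup_le hJI (by simpa [Ideal.span_le] using hz), ?_⟩ ?_
      · rintro w ⟨hw1, hw2⟩
        obtain ⟨j, hj, c, hc, rfl⟩ := Submodule.mem_sup.1 hw2
        obtain ⟨b, rfl⟩ := Ideal.mem_span_singleton'.1 hc
        by_cases hb : b ∈ 𝔪 B
        · have : b * z ∈ 𝔪 B * I := Ideal.mul_mem_mul hb hz
          rw [hp.2, Ideal.mem_bot] at this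
          rw [this, add_zero] at hw1 ⊢
          exact hJJ ⟨hw1, hj⟩
        · obtain ⟨u, rfl⟩ := IsLocalRing.notMem_maximalIdeal.1 hb
          refine absurd ?_ hzn
          have : (↑u : B) * z ∈ J₁ ⊔ J := by
            have := Ideal.sub_mem _ ((le_sup_left : J₁ ≤ J₁ ⊔ J) hw1) ((le_sup_right : J ≤ J₁ ⊔ J) hj)
            rwa [add_sub_cancel_left] at this
          have := Ideal.mul_mem_left _ (↑u⁻¹ : B) this
          rwa [← mul_assoc, Units.inv_mul, one_mul] at this
      · refine lt_of_le_of_ne le_sup_left fun h => hzn ?_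
        exact (le_sup_right : J ≤ J₁ ⊔ J) (h.ge ((le_sup_right : Ideal.span {z} ≤ J') (Ideal.mem_span_singleton_self z)))
    refine ⟨inf_le_left.trans hJ₁, inf_le_left.trans hJ₁', ?_⟩
    let a := quotLE (B := B) (K := J₁ ⊓ J₂) (inf_le_left.trans hJ₁') hJ₁' inf_le_left
    let b := quotLE (B := B) (K := J₁ ⊓ J₂) (inf_le_left.trans hJ₁') hJ' (hinf.trans_le inf_le_right)
    have hfp : IsFibreProd a b (Art.quotFactor hJ₁' p hJ₁) (Art.quotFactor hJ' p hJI) := by
      refine ⟨hom_ext_apply fun z => ?_, fun z w e₁ e₂ => ?_, fun u v e => ?_⟩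
      · obtain ⟨c, rfl⟩ := quotMk_surjective _ _ (inf_le_left.trans hJ₁' : J₁ ⊓ J₂ ≤ 𝔪 B) z
        rfl
      · obtain ⟨c, rfl⟩ := quotMk_surjective _ _ (inf_le_left.trans hJ₁' : J₁ ⊓ J₂ ≤ 𝔪 B) z
        obtain ⟨d, rfl⟩ := quotMk_surjective _ _ (inf_le_left.trans hJ₁' : J₁ ⊓ J₂ ≤ 𝔪 B) w
        refine Ideal.Quotient.eq.2 (hinf.ge ⟨?_, ?_⟩)
        · exact Ideal.Quotient.eq.1 e₁
        · exact Ideal.Quotient.eq.1 e₂
      · obtain ⟨c, rfl⟩ := quotMk_surjective _ _ hJ₁' u
        obtain ⟨d, rfl⟩ := quotMk_surjective _ _ hJ' v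
        have hcd : c - d ∈ I := by
          change p.toAlgHom (c - d) = 0
          rw [map_sub, sub_eq_zero]
          exact e
        obtain ⟨j₁, hj₁, j, hj, hsum⟩ := Submodule.mem_sup.1 (hsup hcd)
        refine ⟨quotMk B _ _ (c - j₁), Ideal.Quotient.eq.2 ?_, Ideal.Quotient.eq.2 ?_⟩
        · simpa using hj₁
        · rwa [show c - j₁ - d = j by linear_combination -hsum]
    obtain ⟨y, hy1, -⟩ := (cmp_surjective_iff hfp).1
      (h1 a b _ _ hfp (quotFactor_surjective _ _ _ hp.1)) y₁ (F.map (quotLE hJ₂' hJ' hJ2) y₂)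
      (by
        rw [hy₁, map_map, ← hy₂]
        congr 1
        exact congrArg (fun t => ConcreteCategory.hom (F.map t)) (hom_ext_apply fun z => by
          obtain ⟨c, rfl⟩ := quotMk_surjective _ _ hJ₂' z
          rfl))
    refine ⟨y, ?_⟩
    rw [← hy₁, ← hy1, map_map]
    congr 1
    exact congrArg (fun t => ConcreteCategory.hom (F.map t)) (hom_ext_apply fun z => by
      obtain ⟨c, rfl⟩ := quotMk_surjective _ _ (inf_le_left.trans hJ₁' : J₁ ⊓ J₂ ≤ 𝔪 B) z
      rfl)
  obtain ⟨J₀, ⟨hJ₀, hJ₀', hy⟩, hmin⟩ :=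
    (wellFounded_lt : WellFounded ((· < ·) : Ideal B → Ideal B → Prop)).has_min {J | P J} hne
  refine ⟨J₀, hJ₀, hJ₀', hy, fun J hJ hJ' hy' => ?_⟩
  by_contra hle
  exact hmin _ (inter J₀ J ⟨hJ₀, hJ₀', hy⟩ ⟨hJ, hJ', hy'⟩) (inf_le_left.lt_of_ne fun e => hle (e ▸ inf_le_right))

end Least

section Construction

variable (P : CRing Λ k)

/-- A stage of the construction. -/
structure Stage (F : Art Λ k ⥤ Type v) where
  /-- the object -/
  obj : Art Λ k
  /-- the surjection from `P` -/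
  hom : HomSet P.carrier P.res obj
  surj : Function.Surjective hom.1
  /-- the element -/
  elt : F.obj obj

variable {P}

lemma exists_mpow_le_ker {A : Art Λ k} (φ : HomSet P.carrier P.res A) :
    ∃ n, CRing.mpow P n ≤ RingHom.ker φ.1 := by
  obtain ⟨n, u, rfl⟩ := exists_factor_trunc φ
  refine ⟨n, fun x hx => ?_⟩
  change u ((P.truncHom n).1 x) = 0
  rw [(truncHom_eq_zero_iff P n x).2 hx, map_zero]

lemma homSet_ker_le {A : Art Λ k} (φ : HomSet P.carrier P.res A) : RingHom.ker φ.1 ≤ 𝔪 P.carrier := by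
  intro x hx
  rw [CRing.mem_maximalIdeal_iff, ← homSet_res φ, show φ.1 x = 0 from hx, map_zero]

/-- One step of Schlessinger's construction. -/
lemma exists_next (h1 : S1 F) (s : Stage P F) :
    ∃ (s' : Stage P F) (u : s'.obj ⟶ s.obj), HomSet.map u s'.hom = s.hom ∧ F.map u s'.elt = s.elt ∧
      RingHom.ker s'.hom.1 ≤ RingHom.ker s.hom.1 ∧
      (∀ (C : Art Λ k) (χ : HomSet P.carrier P.res C) (w : C ⟶ s.obj), Function.Surjective χ.1 →
        HomSet.map w χ = s.hom → 𝔪 P.carrier * RingHom.ker s.hom.1 ≤ RingHom.ker χ.1 →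
        (∃ y, F.map w y = s.elt) → RingHom.ker s'.hom.1 ≤ RingHom.ker χ.1) := by
  obtain ⟨n, hn⟩ := exists_mpow_le_ker s.hom
  let J := RingHom.ker s.hom.1
  let mJ := 𝔪 P.carrier * J
  have hn' : CRing.mpow P (n + 1) ≤ mJ := by
    rw [CRing.mpow, pow_succ']
    exact Ideal.mul_mono le_rfl hn
  let T := P.trunc (n + 1)
  let K : Ideal T := mJ.map (P.truncHom (n + 1)).1
  have hK : K ≤ 𝔪 T := by
    refine Ideal.map_le_iff_le_comap.2 fun x hx => ?_
    rw [Ideal.mem_comap, T.mem_maximalIdeal_iff, homSet_res, ← CRing.mem_maximalIdeal_iff]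
    exact Ideal.mul_le_left hx
  let B := Art.quot T K hK
  let π := HomSet.map (Art.quotMk T K hK) (P.truncHom (n + 1))
  have hπ : Function.Surjective π.1 := (quotMk_surjective T K hK).comp (truncHom_surjective P (n + 1))
  have hkπ : RingHom.ker π.1 = mJ := by
    refine le_antisymm (fun x hx => ?_) fun x hx => (quotMk_eq_zero_iff hK _).2 (Ideal.mem_map_of_mem _ hx)
    obtain ⟨y, hy, hxy⟩ := (Ideal.mem_map_iff_of_surjective _ (truncHom_surjective P (n + 1))).1
      ((quotMk_eq_zero_iff hK _).1 hx)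
    have : x - y ∈ CRing.mpow P (n + 1) := (truncHom_eq_zero_iff P (n + 1) _).1 (by rw [map_sub, sub_eq_zero]; exact hxy.symm)
    have := Ideal.add_mem _ (hn' this) hy
    rwa [sub_add_cancel] at this
  obtain ⟨p, hp⟩ := exists_factor_of_ker_le π hπ s.hom (hkπ.le.trans Ideal.mul_le_right)
  have hsm : IsSemismallExt p := by
    refine ⟨fun a => ?_, ?_⟩
    · obtain ⟨r, rfl⟩ := s.surj a
      exact ⟨π.1 r, congrArg (fun t : HomSet P.carrier P.res s.obj => t.1 r) hp⟩
    · rw [eq_bot_iff, Ideal.mul_le]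
      intro m hm z hz
      obtain ⟨m', rfl⟩ := hπ m
      obtain ⟨z', rfl⟩ := hπ z
      rw [Ideal.mem_bot, ← map_mul]
      refine hkπ.ge (Ideal.mul_mem_mul ?_ ?_)
      · rw [CRing.mem_maximalIdeal_iff, ← homSet_res π, ← mem_maximalIdeal_iff]
        exact hm
      · have := congrArg (fun t : HomSet P.carrier P.res s.obj => t.1 z') hp
        exact this.symm.trans hz
  obtain ⟨J₀, hJ₀, hJ₀', ⟨y, hy⟩, hmin⟩ := exists_least h1 p hsm s.elt
  let s' : Stage P F :=
    ⟨Art.quot B J₀ hJ₀', HomSet.map (Art.quotMk B J₀ hJ₀') π, (quotMk_surjective B J₀ hJ₀').comp hπ, y⟩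
  refine ⟨s', Art.quotFactor hJ₀' p hJ₀, ?_, hy, ?_, ?_⟩
  · change HomSet.map (Art.quotFactor hJ₀' p hJ₀) (HomSet.map (Art.quotMk B J₀ hJ₀') π) = _
    rw [homSet_map_map, quotMk_quotFactor, hp]
  · intro x hx
    have hx' : π.1 x ∈ RingHom.ker p.toAlgHom := hJ₀ ((quotMk_eq_zero_iff hJ₀' _).1 hx)
    exact (congrArg (fun t : HomSet P.carrier P.res s.obj => t.1 x) hp).symm.trans hx'
  · intro C χ w hχ hw hker hy'
    obtain ⟨c, hc⟩ := exists_factor_of_ker_le π hπ χ (hkπ.le.trans hker)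
    have hcs : Function.Surjective c := fun z => by
      obtain ⟨r, rfl⟩ := hχ z
      exact ⟨π.1 r, congrArg (fun t : HomSet P.carrier P.res C => t.1 r) hc⟩
    have hcw : c ≫ w = p := hom_eq_of_map_eq π hπ (by rw [← homSet_map_map, hc, hw, hp])
    have hJc : RingHom.ker c.toAlgHom ≤ RingHom.ker p.toAlgHom := fun z hz => by
      rw [← hcw]
      change w (c z) = 0
      rw [show c z = 0 from hz, map_zero]
    haveI : IsIso (Art.quotFactor (ker_le_maximalIdeal c) c le_rfl) := isIso_of_bijective _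
      ⟨quotFactor_injective _ _ _ le_rfl, quotFactor_surjective _ _ _ hcs⟩
    obtain ⟨y', hy'⟩ := hy'
    have hle := hmin _ hJc (ker_le_maximalIdeal c)
      ⟨F.map (inv (Art.quotFactor (ker_le_maximalIdeal c) c le_rfl)) y', by
        rw [map_map, ← hy']
        congr 1
        refine congrArg (fun t => ConcreteCategory.hom (F.map t)) ((IsIso.inv_comp_eq _).2 (hom_ext_apply fun z => ?_))
        obtain ⟨z', rfl⟩ := quotMk_surjective _ _ (ker_le_maximalIdeal c) z
        change p z' = (c ≫ w) z'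
        rw [hcw]⟩
    intro x hx
    have hx' : π.1 x ∈ RingHom.ker c.toAlgHom := hle ((quotMk_eq_zero_iff hJ₀' _).1 hx)
    exact (congrArg (fun t : HomSet P.carrier P.res C => t.1 x) hc).symm.trans hx'

/-- The limit of the construction: a coefficient ring with a family. -/
theorem exists_family_of_smooth (h1 : S1 F) (hPs : IsSmoothFunctor (hR P.carrier P.res)) (s₀ : Stage P F) :
    ∃ (R : CRing Λ k) (ξ : Family R.carrier R.res F) (pr : P.carrier →ₐ[Λ] R.carrier)
      (hpr : R.res.comp pr = P.res), Function.Surjective pr ∧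
      RingHom.ker pr ≤ RingHom.ker s₀.hom.1 ∧
      (∀ {A : Art Λ k} (φ : HomSet R.carrier R.res A) (u : s₀.obj ⟶ A),
        φ.1.comp pr = (HomSet.map u s₀.hom).1 → ξ.app A φ = F.map u s₀.elt) ∧
      (∀ ⦃B A : Art Λ k⦄ (μ : B ⟶ A), IsSmallExt μ → ∀ (φ : HomSet R.carrier R.res A) (y : F.obj B),
        F.map μ y = ξ.app A φ → ∃ ψ : HomSet R.carrier R.res B, HomSet.map μ ψ = φ) := by
  choose next tr htr hel hker hminl using exists_next (P := P) h1
  let s : ℕ → Stage P F := fun q => Nat.rec s₀ (fun _ t => next t) q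
  have hanti : Antitone fun q => RingHom.ker (s q).hom.1 :=
    antitone_nat_of_succ_le fun q => hker (s q)
  have comp : ∀ {m q : ℕ}, m ≤ q →
      ∃ u : (s q).obj ⟶ (s m).obj, HomSet.map u (s q).hom = (s m).hom ∧ F.map u (s q).elt = (s m).elt := by
    intro m q h
    induction q, h using Nat.le_induction with
    | base => exact ⟨𝟙 _, homSet_map_id _, map_id' F _⟩
    | succ q h ih =>
      obtain ⟨u, hu1, hu2⟩ := ih
      exact ⟨tr (s q) ≫ u, by rw [← homSet_map_map, htr, hu1], by rw [← map_map, hel, hu2]⟩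
  let Jinf : Ideal P.carrier := ⨅ q, RingHom.ker (s q).hom.1
  have hJm : Jinf ≤ 𝔪 P.carrier := (iInf_le _ 0).trans (homSet_ker_le _)
  haveI : Nontrivial (P.carrier ⧸ Jinf) := Ideal.Quotient.nontrivial_iff.2 fun h =>
    (IsLocalRing.maximalIdeal.isMaximal P.carrier).ne_top (top_le_iff.1 (h.ge.trans hJm))
  haveI : IsLocalRing (P.carrier ⧸ Jinf) :=
    IsLocalRing.of_surjective' (Ideal.Quotient.mk Jinf) Ideal.Quotient.mk_surjective
  let resR : (P.carrier ⧸ Jinf) →ₐ[Λ] k :=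
    Ideal.Quotient.liftₐ Jinf P.res fun a ha => (CRing.mem_maximalIdeal_iff P a).1 (hJm ha)
  let R : CRing Λ k :=
    { carrier := P.carrier ⧸ Jinf
      res := resR
      res_surjective := fun c => (P.res_surjective c).elim fun a ha => ⟨Ideal.Quotient.mk _ a, ha⟩
      isAdicComplete := isAdicComplete_of_surjective (Ideal.Quotient.mk Jinf) Ideal.Quotient.mk_surjective }
  let pr : P.carrier →ₐ[Λ] R.carrier := Ideal.Quotient.mkₐ Λ Jinf
  have hpr : R.res.comp pr = P.res := Ideal.Quotient.liftₐ_comp _ _ _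
  let lift : ∀ {A : Art Λ k}, HomSet R.carrier R.res A → HomSet P.carrier P.res A := fun φ =>
    ⟨φ.1.comp pr, by rw [← AlgHom.comp_assoc, φ.2, hpr]⟩
  have chev := chevalley (P := P.carrier) (fun q => RingHom.ker (s q).hom.1) hanti (fun N => by
    rcases N with _ | N
    · haveI : Subsingleton (P.carrier ⧸ (𝔪 P.carrier) ^ 0) :=
        Ideal.Quotient.subsingleton_iff.2 (by rw [pow_zero, Ideal.one_eq_top])
      infer_instance
    · exact CRing.isArtinianRing_quot_mpow P N)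
  have factor : ∀ {A : Art Λ k} (φ : HomSet R.carrier R.res A),
      ∃ (q : ℕ) (u : (s q).obj ⟶ A), HomSet.map u (s q).hom = lift φ := by
    intro A φ
    obtain ⟨n, hn⟩ := exists_mpow_le_ker (lift φ)
    obtain ⟨q, hq⟩ := chev (n + 1)
    refine ⟨q, exists_factor_of_ker_le _ (s q).surj (lift φ) (hq.trans (sup_le (fun x hx => ?_) hn))⟩
    change φ.1 (Ideal.Quotient.mk Jinf x) = 0
    rw [Ideal.Quotient.eq_zero_iff_mem.2 hx, map_zero]
  have indep : ∀ {A : Art Λ k} {m q : ℕ} (a : (s m).obj ⟶ A) (b : (s q).obj ⟶ A),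
      HomSet.map a (s m).hom = HomSet.map b (s q).hom → F.map a (s m).elt = F.map b (s q).elt := by
    intro A m q a b h
    obtain ⟨u, hu1, hu2⟩ := comp (le_max_left m q)
    obtain ⟨w, hw1, hw2⟩ := comp (le_max_right m q)
    rw [← hu2, ← hw2, map_map, map_map, hom_eq_of_map_eq (s (max m q)).hom (s (max m q)).surj
      (u := u ≫ a) (u' := w ≫ b) (by rw [← homSet_map_map, ← homSet_map_map, hu1, hw1, h])]
  let ξ : Family R.carrier R.res F :=
    { app := fun A φ => F.map (factor φ).choose_spec.choose (s (factor φ).choose).elt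
      natural := fun {A B} f φ => by
        rw [map_map]
        refine indep _ _ ?_
        rw [(factor (HomSet.map f φ)).choose_spec.choose_spec, ← homSet_map_map,
          (factor φ).choose_spec.choose_spec]
        rfl }
  have hξ : ∀ {A : Art Λ k} (φ : HomSet R.carrier R.res A) (q : ℕ) (u : (s q).obj ⟶ A),
      HomSet.map u (s q).hom = lift φ → ξ.app A φ = F.map u (s q).elt := fun φ q u h =>
    indep _ _ ((factor φ).choose_spec.choose_spec.trans h.symm)
  refine ⟨R, ξ, pr, hpr, Ideal.Quotient.mk_surjective, ?_, ?_, ?_⟩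
  · intro x hx
    exact iInf_le (fun q => RingHom.ker (s q).hom.1) 0 (Ideal.Quotient.eq_zero_iff_mem.1 hx)
  · exact fun φ u h => hξ φ 0 u (Subtype.ext h.symm)
  · intro B A μ hμ φ y hy
    obtain ⟨q, u, hu⟩ := factor φ
    obtain ⟨ψ, hψ⟩ := hPs μ hμ.1 (lift φ)
    have hψ : HomSet.map μ ψ = lift φ := hψ
    suffices hk : RingHom.ker (s (q + 1)).hom.1 ≤ RingHom.ker ψ.1 by
      let ψR : R.carrier →ₐ[Λ] B :=
        Ideal.Quotient.liftₐ Jinf ψ.1 fun a ha => hk (Ideal.mem_iInf.1 ha (q + 1))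
      have hψR : ∀ a, ψR (Ideal.Quotient.mk Jinf a) = ψ.1 a := fun a => rfl
      refine ⟨⟨ψR, AlgHom.ext fun z => ?_⟩, homSet_ext fun z => ?_⟩
      · obtain ⟨a, rfl⟩ := Ideal.Quotient.mk_surjective z
        change B.res (ψR (Ideal.Quotient.mk Jinf a)) = P.res a
        rw [hψR, homSet_res]
      · obtain ⟨a, rfl⟩ := Ideal.Quotient.mk_surjective z
        exact congrArg (fun t : HomSet P.carrier P.res A => t.1 a) hψ
    -- the object `A_q ×_A B` receives a surjection from `P`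
    obtain ⟨C, c₁, c₂, hC⟩ := exists_isFibreProd u μ hμ.1
    obtain ⟨χ, hχ1, hχ2⟩ := homSet_lift hC (s q).hom ψ (hu.trans hψ.symm)
    have hq1 : RingHom.ker (s (q + 1)).hom.1 ≤ RingHom.ker (s q).hom.1 := hker (s q)
    have hμk : ∀ j ∈ RingHom.ker (s q).hom.1, μ (ψ.1 j) = 0 := fun j hj => by
      rw [show μ (ψ.1 j) = (HomSet.map u (s q).hom).1 j from
        congrArg (fun t : HomSet P.carrier P.res A => t.1 j) (hψ.trans hu.symm)]
      change u ((s q).hom.1 j) = 0
      rw [show (s q).hom.1 j = 0 from hj, map_zero]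
    by_cases hzero : RingHom.ker (s q).hom.1 ≤ RingHom.ker ψ.1
    · exact hq1.trans hzero
    obtain ⟨j, hj, hj0⟩ := SetLike.not_le_iff_exists.1 hzero
    have hχs : Function.Surjective χ.1 := by
      intro z
      obtain ⟨a, ha⟩ := (s q).surj (c₁ z)
      have hd : μ (c₂ z - ψ.1 a) = 0 := by
        rw [map_sub, ← hC.w_apply, ← ha, show μ (ψ.1 a) = (HomSet.map u (s q).hom).1 a from
          congrArg (fun t : HomSet P.carrier P.res A => t.1 a) (hψ.trans hu.symm)]
        exact sub_self _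
      obtain ⟨t, hker'⟩ := hμ.2.2.1.principal
      obtain ⟨α, hα⟩ := Ideal.mem_span_singleton'.1 (hker'.le (hμk j hj : ψ.1 j ∈ RingHom.ker μ.toAlgHom))
      obtain ⟨β, hβ⟩ := Ideal.mem_span_singleton'.1 (hker'.le (hd : _ ∈ RingHom.ker μ.toAlgHom))
      have htm : μ t = 0 := hker'.ge (Ideal.mem_span_singleton_self t)
      have hαu : IsUnit α := by
        by_contra hα'
        exact hj0 (show ψ.1 j = 0 by rw [← hα, socle_mul hμ htm ((IsLocalRing.mem_maximalIdeal α).2 hα')])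
      obtain ⟨αu, rfl⟩ := hαu
      obtain ⟨c, hc⟩ := P.res_surjective (B.res (β * ↑αu⁻¹))
      refine ⟨a + c * j, hC.inj _ _ ?_ ?_⟩
      · change (HomSet.map c₁ χ).1 (a + c * j) = _
        rw [hχ1, map_add, map_mul, show (s q).hom.1 j = 0 from hj, mul_zero, add_zero, ha]
      · change (HomSet.map c₂ χ).1 (a + c * j) = _
        rw [hχ2, map_add, map_mul, ← hα, ← mul_assoc,
          mul_eq_mul_of_res hμ htm (b := ψ.1 c * ↑αu) (b' := β) ?_, hβ, add_sub_cancel]
        rw [map_mul, homSet_res, hc, ← map_mul, mul_assoc, Units.inv_mul, mul_one]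
    have hmJ : 𝔪 P.carrier * RingHom.ker (s q).hom.1 ≤ RingHom.ker χ.1 := by
      rw [Ideal.mul_le]
      intro m hm x hx
      refine hC.inj _ _ ?_ ?_
      · rw [map_zero, show c₁ (χ.1 (m * x)) = (s q).hom.1 (m * x) from
          congrArg (fun t : HomSet P.carrier P.res (s q).obj => t.1 (m * x)) hχ1, map_mul,
          show (s q).hom.1 x = 0 from hx, mul_zero]
      · rw [map_zero, show c₂ (χ.1 (m * x)) = ψ.1 (m * x) from
          congrArg (fun t : HomSet P.carrier P.res B => t.1 (m * x)) hχ2, map_mul]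
        refine socle_mul hμ (hμk x hx) ((B.mem_maximalIdeal_iff _).2 ?_)
        rw [homSet_res, ← CRing.mem_maximalIdeal_iff]
        exact hm
    obtain ⟨z, hz, -⟩ := (cmp_surjective_iff hC).1 (h1 c₁ c₂ u μ hC hμ.1) (s q).elt y
      (by rw [hy]; exact (hξ φ q u hu).symm)
    have hle : RingHom.ker (s (q + 1)).hom.1 ≤ RingHom.ker χ.1 :=
      hminl (s q) C χ c₁ hχs hχ1 hmJ ⟨z, hz⟩
    intro x hx
    change ψ.1 x = 0
    rw [show ψ.1 x = c₂ (χ.1 x) from (congrArg (fun t : HomSet P.carrier P.res B => t.1 x) hχ2).symm,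
      show χ.1 x = 0 from hle hx, map_zero]

end Construction

section Main

variable [IsNoetherianRing Λ]

omit [IsNoetherianRing Λ] in
lemma exists_elt_tsze (h0 : H0 F) (h2 : Heps F) :
    ∀ (n : ℕ) (θ : Fin n → F.obj (dual Λ k)), ∃ w : F.obj (tszeArt Λ k (Fin n → k)),
      ∀ i, F.map (tszeHom (Λ := Λ) (M := Fin n → k) (N := k) (LinearMap.proj i) :
        tszeArt Λ k (Fin n → k) ⟶ dual Λ k) w = θ i := by
  intro n
  induction n with
  | zero =>
    intro θ
    exact ⟨F.map (homMk (A := base Λ k) (B := tszeArt Λ k (Fin 0 → k))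
      ((Algebra.ofId k (TrivSqZeroExt k (Fin 0 → k))).restrictScalars Λ) (AlgHom.ext fun _ => rfl)) h0.1.some,
      fun i => i.elim0⟩
  | succ n ih =>
    intro θ
    let head : tszeArt Λ k (Fin (n + 1) → k) ⟶ dual Λ k :=
      tszeHom (Λ := Λ) (M := Fin (n + 1) → k) (N := k) (LinearMap.proj 0)
    let tail : tszeArt Λ k (Fin (n + 1) → k) ⟶ tszeArt Λ k (Fin n → k) :=
      tszeHom (LinearMap.funLeft k k Fin.succ)
    have hfp : IsFibreProd tail head (toBase _) (toBase (dual Λ k)) := by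
      refine ⟨by rw [eq_toBase (tail ≫ toBase _), eq_toBase (head ≫ toBase _)], fun x y e₁ e₂ => ?_, fun a b e => ?_⟩
      · refine TrivSqZeroExt.ext (congrArg (fun t : DualNumber k => TrivSqZeroExt.fst t) e₂) (funext fun i => ?_)
        refine Fin.cases ?_ (fun j => ?_) i
        · exact congrArg (fun t : DualNumber k => TrivSqZeroExt.snd t) e₂
        · exact congrFun (congrArg (fun t : TrivSqZeroExt k (Fin n → k) => TrivSqZeroExt.snd t) e₁) j
      · refine ⟨((TrivSqZeroExt.fst (show TrivSqZeroExt k (Fin n → k) from a),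
            Fin.cons (TrivSqZeroExt.snd (show DualNumber k from b))
              (TrivSqZeroExt.snd (show TrivSqZeroExt k (Fin n → k) from a))) :
              TrivSqZeroExt k (Fin (n + 1) → k)), TrivSqZeroExt.ext rfl ?_, TrivSqZeroExt.ext e rfl⟩
        funext j
        exact Fin.cons_succ (α := fun _ => k) (TrivSqZeroExt.snd (show DualNumber k from b))
          (TrivSqZeroExt.snd (show TrivSqZeroExt k (Fin n → k) from a)) j
    obtain ⟨w', hw'⟩ := ih fun i => θ i.succ
    obtain ⟨w, hw1, hw2⟩ := (cmp_surjective_iff hfp).1 (h2 _ _ hfp).2 w' (θ 0) (@Subsingleton.elim _ h0.2 _ _)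
    refine ⟨w, fun i => Fin.cases hw2 (fun j => ?_) i⟩
    rw [← hw' j, ← hw1, map_map]
    exact congrArg (fun t => F.map t w) (hom_ext_apply fun z => TrivSqZeroExt.ext rfl rfl)

variable [TangentStr F]

local notation "T" => TangentSpace F

omit [IsNoetherianRing Λ] in
lemma tmk_add {E : Art Λ k} (w : F.obj E) (z : E ⟶ dual2 Λ k) :
    (TangentSpace.mk (F.map (z ≫ pr₁) w) : T) + TangentSpace.mk (F.map (z ≫ pr₂) w) =
      TangentSpace.mk (F.map (z ≫ plus) w) := by
  have h := TangentStr.add_eq (F := F) (F.map z w)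
  rw [map_map, map_map, map_map] at h
  exact h

omit [IsNoetherianRing Λ] in
lemma tmk_smul {E : Art Λ k} (w : F.obj E) (c : k) (u : E ⟶ dual Λ k) :
    c • (TangentSpace.mk (F.map u w) : T) = TangentSpace.mk (F.map (u ≫ scale c) w) := by
  rw [← map_map]
  exact TangentStr.smul_eq (F := F) c (F.map u w)

/-- The inclusion `k → k ⊕ k^n`. -/
def baseToTsze (n : ℕ) : base Λ k ⟶ tszeArt Λ k (Fin n → k) :=
  ⟨(Algebra.ofId k (TrivSqZeroExt k (Fin n → k))).restrictScalars Λ, AlgHom.ext fun _ => rfl⟩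

/-- The functional `v ↦ Σ vᵢ cᵢ`. -/
def dotLin (n : ℕ) (c : Fin n → k) : (Fin n → k) →ₗ[k] k := ∑ i, c i • LinearMap.proj i

/-- The morphism `k ⊕ k^n → k[ε]` with coefficients `c`. -/
def coordHom (n : ℕ) (c : Fin n → k) : tszeArt Λ k (Fin n → k) ⟶ dual Λ k :=
  tszeHom (Λ := Λ) (M := Fin n → k) (N := k) (dotLin n c)

/-- Schlessinger's theorem: existence of versal families, which are miniversal when `Der_Λ(k,k)` injects
into the tangent space. -/
theorem exists_versal (h0 : H0 F) (h1 : Hbar F) (h2 : Heps F) (h3 : Hfin F) :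
    ∃ (R : CRing Λ k) (ξ : Family R.carrier R.res F), IsVersal ξ ∧
      ((∀ x₀ : F.obj (base Λ k), Function.Injective fun σ : base Λ k ⟶ dual Λ k => F.map σ x₀) →
        IsMiniversal ξ) := by
  classical
  haveI : Module.Finite k T := h3
  haveI : Subsingleton (F.obj (base Λ k)) := h0.2
  let x₀ := h0.1.some
  let D : (base Λ k ⟶ dual Λ k) → T := fun σ => TangentSpace.mk (F.map σ x₀)
  have hfstσ : ∀ (σ : base Λ k ⟶ dual Λ k) (c : k), TrivSqZeroExt.fst (σ c) = c := fun σ c => res_app σ c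
  have pairHom : ∀ {E : Art Λ k} (a b : E ⟶ dual Λ k), ∃ z : E ⟶ dual2 Λ k, z ≫ pr₁ = a ∧ z ≫ pr₂ = b := by
    intro E a b
    have w : a ≫ toBase _ = b ≫ toBase _ := by rw [eq_toBase (a ≫ _), eq_toBase (b ≫ _)]
    exact ⟨fpLift isFibreProd_dual2 a b w, fpLift_fst _ _ _ _, fpLift_snd _ _ _ _⟩
  let W : Submodule k T :=
    { carrier := Set.range D
      zero_mem' := ⟨baseToDual, by
        have := TangentStr.smul_eq (F := F) (0 : k) (F.map baseToDual x₀)
        rw [map_map, show baseToDual ≫ scale 0 = (baseToDual : base Λ k ⟶ dual Λ k) from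
          hom_ext_apply fun z => TrivSqZeroExt.ext rfl (zero_mul _)] at this
        exact (this.symm.trans (zero_smul k (TangentSpace.mk (F.map baseToDual x₀) : T)))⟩
      add_mem' := by
        rintro _ _ ⟨σ, rfl⟩ ⟨τ, rfl⟩
        obtain ⟨z, z1, z2⟩ := pairHom σ τ
        refine ⟨z ≫ plus, ?_⟩
        have h := tmk_add x₀ z
        rw [z1, z2] at h
        exact h.symm
      smul_mem' := by
        rintro c _ ⟨σ, rfl⟩
        exact ⟨σ ≫ scale c, (tmk_smul x₀ c σ).symm⟩ }
  obtain ⟨W', hW'⟩ := Submodule.exists_isCompl W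
  let n := Module.finrank k W'
  let b := Module.finBasis k W'
  obtain ⟨w, hw⟩ := exists_elt_tsze h0 h2 n (fun i => ((b i : T) : F.obj (dual Λ k)))
  let L : (Fin n → k) →ₗ[k] T :=
    { toFun := fun c => TangentSpace.mk (F.map (coordHom n c) w)
      map_add' := fun c d => by
        obtain ⟨z, z1, z2⟩ := pairHom (coordHom n c) (coordHom (Λ := Λ) n d)
        have h := tmk_add w z
        rw [z1, z2] at h
        refine Eq.trans ?_ h.symm
        refine congrArg (fun t => TangentSpace.mk (F.map t w)) (hom_ext_apply fun x => TrivSqZeroExt.ext ?_ ?_)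
        · exact (res_app (coordHom n (c + d)) x).trans (res_app (z ≫ plus) x).symm
        · have e1 := congrArg (fun t : tszeArt Λ k (Fin n → k) ⟶ dual Λ k => TrivSqZeroExt.snd (t x)) z1
          have e2 := congrArg (fun t : tszeArt Λ k (Fin n → k) ⟶ dual Λ k => TrivSqZeroExt.snd (t x)) z2
          refine Eq.trans ?_ (congrArg₂ (· + ·) e1.symm e2.symm)
          change dotLin n (c + d) _ = dotLin n c _ + dotLin n d _
          simp [dotLin, add_smul, Finset.sum_add_distrib]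
      map_smul' := fun r c => by
        refine Eq.trans ?_ (tmk_smul w r _).symm
        refine congrArg (fun t => TangentSpace.mk (F.map t w)) (hom_ext_apply fun x => TrivSqZeroExt.ext rfl ?_)
        change dotLin n (r • c) _ = r * dotLin n c _
        simp [dotLin, Finset.mul_sum, mul_assoc] }
  have hL : ∀ c, L c = ((b.equivFun.symm c : W') : T) := by
    have : L = W'.subtype.comp b.equivFun.symm.toLinearMap := (Pi.basisFun k (Fin n)).ext fun i => by
      rw [LinearMap.comp_apply, LinearEquiv.coe_coe, Pi.basisFun_apply, Module.Basis.equivFun_symm_apply]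
      change TangentSpace.mk (F.map (coordHom n (Pi.single i 1)) w) = _
      rw [show coordHom n (Pi.single i (1 : k)) =
        (tszeHom (Λ := Λ) (M := Fin n → k) (N := k) (LinearMap.proj i) : tszeArt Λ k (Fin n → k) ⟶ dual Λ k) from
          hom_ext_apply fun x => TrivSqZeroExt.ext rfl (by
            change dotLin n (Pi.single i 1) _ = _
            simp [dotLin, Pi.single_apply]
            rfl)]
      refine Eq.trans (congrArg (fun t => (TangentSpace.mk t : T)) (hw i)) ?_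
      simp [Pi.single_apply]
      rfl
    exact fun c => LinearMap.congr_fun this c
  let δof : (tszeArt Λ k (Fin n → k) ⟶ dual Λ k) → Fin n → k := fun u i =>
    TrivSqZeroExt.snd (u (tszeGen (Λ := Λ) i))
  have decomp : ∀ u : tszeArt Λ k (Fin n → k) ⟶ dual Λ k,
      ∃ z : tszeArt Λ k (Fin n → k) ⟶ dual2 Λ k,
        z ≫ pr₁ = toBase _ ≫ (baseToTsze n ≫ u) ∧ z ≫ pr₂ = coordHom n (δof u) ∧ z ≫ plus = u := by
    intro u
    obtain ⟨z, z1, z2⟩ := pairHom (toBase _ ≫ (baseToTsze n ≫ u)) (coordHom n (δof u))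
    refine ⟨z, z1, z2, hom_ext_apply fun x => TrivSqZeroExt.ext ((res_app (z ≫ plus) x).trans (res_app u x).symm) ?_⟩
    have e1 := congrArg (fun t : tszeArt Λ k (Fin n → k) ⟶ dual Λ k => TrivSqZeroExt.snd (t x)) z1
    have e2 := congrArg (fun t : tszeArt Λ k (Fin n → k) ⟶ dual Λ k => TrivSqZeroExt.snd (t x)) z2
    refine Eq.trans (congrArg₂ (· + ·) e1 e2) ?_
    let X : TrivSqZeroExt k (Fin n → k) := x
    have hx : X = algebraMap k _ (TrivSqZeroExt.fst X) +
        ∑ i, algebraMap k _ (TrivSqZeroExt.snd X i) * TrivSqZeroExt.inr (Pi.single i (1 : k)) := by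
      refine TrivSqZeroExt.ext ?_ ?_
      · rw [TrivSqZeroExt.fst_add, TrivSqZeroExt.fst_sum]
        simp [TrivSqZeroExt.algebraMap_eq_inl]
      · rw [TrivSqZeroExt.snd_add, TrivSqZeroExt.snd_sum]
        funext j
        simp [TrivSqZeroExt.algebraMap_eq_inl, Finset.sum_apply, Pi.single_apply]
    let ub : base Λ k ⟶ dual Λ k := baseToTsze n ≫ u
    change TrivSqZeroExt.snd (ub (TrivSqZeroExt.fst X)) + dotLin n (δof u) (TrivSqZeroExt.snd X) =
      TrivSqZeroExt.snd (u x)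
    have hux : u x = ub (TrivSqZeroExt.fst X) + ∑ i, ub (TrivSqZeroExt.snd X i) * u (tszeGen i) := by
      refine (congrArg u.toAlgHom hx).trans ?_
      refine (map_add u.toAlgHom _ _).trans (congrArg₂ (· + ·) rfl ?_)
      refine (map_sum u.toAlgHom _ _).trans (Finset.sum_congr rfl fun i _ => ?_)
      exact map_mul u.toAlgHom _ _
    rw [hux]
    change _ = TrivSqZeroExt.snd (_ + _ : DualNumber k)
    rw [TrivSqZeroExt.snd_add]
    refine congrArg₂ (· + ·) rfl (Eq.trans ?_ (TrivSqZeroExt.snd_sum (R := k) (M := k) _ _).symm)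
    simp only [dotLin, LinearMap.sum_apply, LinearMap.smul_apply, LinearMap.proj_apply, smul_eq_mul]
    refine Finset.sum_congr rfl fun i _ => ?_
    change δof u i * TrivSqZeroExt.snd X i = TrivSqZeroExt.snd
      ((ub (TrivSqZeroExt.snd X i) : DualNumber k) * (u (tszeGen (Λ := Λ) i) : DualNumber k))
    refine Eq.trans ?_ (TrivSqZeroExt.snd_mul (R := k) (M := k) _ _).symm
    erw [hfstσ ub, show TrivSqZeroExt.fst (u (tszeGen (Λ := Λ) i)) = 0 from res_app u _]
    simp [δof, mul_comm]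
  have hT : ∀ u : tszeArt Λ k (Fin n → k) ⟶ dual Λ k,
      TangentSpace.mk (F.map u w) = D (baseToTsze n ≫ u) + L (δof u) := by
    intro u
    obtain ⟨z, z1, z2, z3⟩ := decomp u
    have h := tmk_add w z
    rw [z1, z2, z3] at h
    rw [← h]
    congr 1
    change TangentSpace.mk (F.map _ w) = TangentSpace.mk (F.map _ x₀)
    rw [← map_map F (toBase _)]
    exact congrArg (fun t => TangentSpace.mk (F.map _ t)) (Subsingleton.elim _ _)
  obtain ⟨P, e, hPs, hes, hPt⟩ := exists_free_cring (Λ := Λ) (k := k) n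
  obtain ⟨R, ξ, pr, hpr, hprs, hkr, hξ, hlift⟩ :=
    exists_family_of_smooth (F := F) (s1_of_hbar F h1) hPs ⟨_, e, hes, w⟩
  have hofE : ∀ u : tszeArt Λ k (Fin n → k) ⟶ dual Λ k, ∃ φ : HomSet R.carrier R.res (dual Λ k),
      φ.1.comp pr = (HomSet.map u e).1 := by
    intro u
    have hker : RingHom.ker pr ≤ RingHom.ker (HomSet.map u e).1 := fun x hx => by
      change u (e.1 x) = 0
      rw [show e.1 x = 0 from hkr hx, map_zero]
    let g : R.carrier →ₐ[Λ] dual Λ k := (Ideal.Quotient.liftₐ (RingHom.ker pr) (HomSet.map u e).1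
      fun _ ha => hker ha).comp (Ideal.quotientKerAlgEquivOfSurjective hprs).symm.toAlgHom
    have hg : g.comp pr = (HomSet.map u e).1 := AlgHom.ext fun x => by
      have he : (Ideal.quotientKerAlgEquivOfSurjective hprs).symm (pr x) = Ideal.Quotient.mk (RingHom.ker pr) x :=
        (AlgEquiv.symm_apply_eq _).2 rfl
      change Ideal.Quotient.liftₐ (RingHom.ker pr) (HomSet.map u e).1 (fun _ ha => hker ha)
        ((Ideal.quotientKerAlgEquivOfSurjective hprs).symm (pr x)) = _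
      rw [he]
      rfl
    refine ⟨⟨g, AlgHom.ext fun z => ?_⟩, hg⟩
    obtain ⟨x, rfl⟩ := hprs z
    change (dual Λ k).res ((g.comp pr) x) = (R.res.comp pr) x
    rw [hg, homSet_res, hpr]
  have hTsurj : Function.Surjective fun u : tszeArt Λ k (Fin n → k) ⟶ dual Λ k => TangentSpace.mk (F.map u w) := by
    intro x
    obtain ⟨a, ⟨σ, hσ⟩, c, hc, rfl⟩ :=
      Submodule.mem_sup.1 (hW'.sup_eq_top.ge (Submodule.mem_top (x := (x : T))))
    subst hσ
    obtain ⟨z, z1, z2⟩ := pairHom (toBase _ ≫ σ) (coordHom n (b.equivFun ⟨c, hc⟩))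
    refine ⟨z ≫ plus, ?_⟩
    change TangentSpace.mk (F.map (z ≫ plus) w) = _
    rw [hT]
    have e1 : baseToTsze n ≫ (z ≫ plus) = σ := by
      refine hom_ext_apply fun r => TrivSqZeroExt.ext ((res_app (baseToTsze n ≫ z ≫ plus) r).trans (res_app σ r).symm) ?_
      have h1 := congrArg (fun t : tszeArt Λ k (Fin n → k) ⟶ dual Λ k => TrivSqZeroExt.snd (t (baseToTsze n r))) z1
      have h2 := congrArg (fun t : tszeArt Λ k (Fin n → k) ⟶ dual Λ k => TrivSqZeroExt.snd (t (baseToTsze n r))) z2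
      refine Eq.trans (congrArg₂ (· + ·) h1 h2) ?_
      change TrivSqZeroExt.snd (σ r) + dotLin n (b.equivFun ⟨c, hc⟩)
        (TrivSqZeroExt.snd (algebraMap k (TrivSqZeroExt k (Fin n → k)) r)) = _
      simp [dotLin, TrivSqZeroExt.algebraMap_eq_inl]
    have e2 : δof (z ≫ plus) = b.equivFun ⟨c, hc⟩ := funext fun i => by
      have h1 := congrArg (fun t : tszeArt Λ k (Fin n → k) ⟶ dual Λ k => TrivSqZeroExt.snd (t (tszeGen i))) z1
      have h2 := congrArg (fun t : tszeArt Λ k (Fin n → k) ⟶ dual Λ k => TrivSqZeroExt.snd (t (tszeGen i))) z2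
      refine Eq.trans (congrArg₂ (· + ·) h1 h2) ?_
      change TrivSqZeroExt.snd (σ (0 : k)) + dotLin n (b.equivFun ⟨c, hc⟩) (Pi.single i 1) = _
      rw [show σ (0 : k) = 0 from map_zero σ.toAlgHom]
      simp [dotLin, Pi.single_apply]
      exact TrivSqZeroExt.snd_zero
    rw [e1, e2, hL, LinearEquiv.symm_apply_apply]
  have hξT : ∀ (φ : HomSet R.carrier R.res (dual Λ k)), ∃ u : tszeArt Λ k (Fin n → k) ⟶ dual Λ k,
      φ.1.comp pr = (HomSet.map u e).1 ∧ ξ.app _ φ = F.map u w := fun φ => by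
    obtain ⟨u, hu⟩ := hPt ⟨φ.1.comp pr, by rw [← AlgHom.comp_assoc, φ.2, hpr]⟩
    exact ⟨u, (congrArg Subtype.val hu).symm, hξ φ u (congrArg Subtype.val hu).symm⟩
  have hsurj : Function.Surjective (ξ.app (dual Λ k)) := fun x => by
    obtain ⟨u, rfl⟩ := hTsurj x
    obtain ⟨φ, hφ⟩ := hofE u
    exact ⟨φ, hξ φ u hφ⟩
  have hv : IsVersal ξ := isVersal_of_criterion h1 h2 ξ hsurj hlift
  refine ⟨R, ξ, hv, fun hinj => ⟨hv, fun φ φ' h => ?_, hsurj⟩⟩
  obtain ⟨u, hu, hu'⟩ := hξT φ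
  obtain ⟨u', hv1, hv2⟩ := hξT φ'
  rw [hu', hv2] at h
  have h' : D (baseToTsze n ≫ u) + L (δof u) = D (baseToTsze n ≫ u') + L (δof u') := by
    rw [← hT, ← hT, h]
  have hmem : D (baseToTsze n ≫ u) - D (baseToTsze n ≫ u') = L (δof u') - L (δof u) := by
    rw [eq_sub_iff_add_eq, sub_add_eq_add_sub, h', add_sub_cancel_left]
  have hz : D (baseToTsze n ≫ u) - D (baseToTsze n ≫ u') = 0 := by
    refine (Submodule.disjoint_def.1 hW'.disjoint) _ (sub_mem ⟨_, rfl⟩ ⟨_, rfl⟩) ?_
    rw [hmem, hL, hL]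
    exact sub_mem (Subtype.mem _) (Subtype.mem _)
  have hD : baseToTsze n ≫ u = baseToTsze n ≫ u' := hinj x₀ ((sub_eq_zero (G := T)).1 hz)
  have hδ : δof u = δof u' := by
    rw [hz] at hmem
    have := sub_eq_zero.1 hmem.symm
    rw [hL, hL] at this
    exact (b.equivFun.symm.injective (Subtype.ext this)).symm
  have huu : u = u' := by
    obtain ⟨z, z1, z2, z3⟩ := decomp u
    obtain ⟨z', z1', z2', z3'⟩ := decomp u'
    rw [← z3, ← z3', fp_hom_ext isFibreProd_dual2 (a := z) (b := z') (by rw [z1, z1', hD]) (by rw [z2, z2', hδ])]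
  refine homSet_ext fun r => ?_
  obtain ⟨x, rfl⟩ := hprs r
  have := hu.trans ((congrArg (fun t => (HomSet.map t e).1) huu).trans hv1.symm)
  exact congrArg (fun t : P.carrier →ₐ[Λ] dual Λ k => t x) this

end Main

end Groth.ArtfunDeform
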