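import Groth.Agent.ArtfunDeform.LimitRing
import Mathlib.RingTheory.TensorProduct.Maps
import Mathlib.RingTheory.Finiteness.Ideal

/-!
Completions at an augmentation with finitely generated kernel; coproducts and pushouts of coefficient rings.
-/

set_option autoImplicit false
set_option linter.style.haveILetI false
set_option linter.style.longLine false
set_option linter.unusedSectionVars false

universe u

open CategoryTheory TensorProduct

namespace Groth.ArtfunDeform.CRingColimit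

open ArtFun ArtFun.Art

variable {Λ : Type u} {k : Type u} [CommRing Λ] [Field k] [Algebra Λ k] [IsNoetherianRing Λ] [Module.Finite Λ k]

local notation "𝔪" => IsLocalRing.maximalIdeal

lemma map_mem_pow {C D : CRing Λ k} (h : C.carrier →ₐ[Λ] D.carrier) (hh : D.res.comp h = C.res) {n : ℕ}
    {x : C.carrier} (hx : x ∈ 𝔪 C.carrier ^ n) : h x ∈ 𝔪 D.carrier ^ n := by
  have h1 : (𝔪 C.carrier).map h.toRingHom ≤ 𝔪 D.carrier := Ideal.map_le_iff_le_comap.2 fun y hy => by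
    rw [Ideal.mem_comap, CRing.mem_maximalIdeal_iff D]
    exact (congrArg (fun g : C.carrier →ₐ[Λ] k => g y) hh).trans ((CRing.mem_maximalIdeal_iff C y).1 hy)
  exact Ideal.pow_right_mono h1 n (by rw [← Ideal.map_pow]; exact Ideal.mem_map_of_mem h.toRingHom hx)

/-- Completion at an augmentation whose kernel is finitely generated, with its universal property. -/
theorem exists_completion_of_fg {T : Type u} [CommRing T] [Algebra Λ T] (π : T →ₐ[Λ] k) (hπ : Function.Surjective π)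
    (hfg : (RingHom.ker π).FG) :
    ∃ (C : CRing Λ k) (ι : T →ₐ[Λ] C.carrier), C.res.comp ι = π ∧
      ∀ (D : CRing Λ k) (ψ : T →ₐ[Λ] D.carrier), D.res.comp ψ = π →
        ∃! h : C.carrier →ₐ[Λ] D.carrier, D.res.comp h = C.res ∧ h.comp ι = ψ := by
  classical
  let m : Ideal T := RingHom.ker π
  haveI hmax : m.IsMaximal := RingHom.ker_isMaximal_of_surjective π.toRingHom hπ
  let Q : ℕ → Type u := fun n => T ⧸ m ^ (n + 1)
  have hle : ∀ n, m ^ (n + 1) ≤ m := fun n => Ideal.pow_le_self (Nat.succ_ne_zero n)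
  have hprime : ∀ n (p : Ideal (T ⧸ m ^ (n + 1))), p.IsPrime → p = m.map (Ideal.Quotient.mk _) := by
    intro n p hp
    have h1 : m ≤ p.comap (Ideal.Quotient.mk _) := fun x hx => hp.mem_of_pow_mem (n + 1) (by
      rw [← map_pow, Ideal.Quotient.eq_zero_iff_mem.2 (Ideal.pow_mem_pow hx _)]; exact p.zero_mem)
    have h2 := hmax.eq_of_le (Ideal.IsPrime.ne_top (Ideal.IsPrime.comap _)) h1
    exact ((congrArg (Ideal.map (Ideal.Quotient.mk (m ^ (n + 1)))) h2).trans (Ideal.map_comap_of_surjective _ Ideal.Quotient.mk_surjective p)).symm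
  have hres : ∀ n, ∀ a ∈ m ^ (n + 1), π a = 0 := fun n a ha => hle n ha
  let res : ∀ n, (T ⧸ m ^ (n + 1)) →ₐ[Λ] k := fun n => Ideal.Quotient.liftₐ _ π (hres n)
  have hress : ∀ n, Function.Surjective (res n) := fun n c => (hπ c).elim fun t ht => ⟨Ideal.Quotient.mk _ t, ht⟩
  haveI hnt : ∀ n, Nontrivial (T ⧸ m ^ (n + 1)) := fun n =>
    Ideal.Quotient.nontrivial_iff.2 fun h => hmax.ne_top (top_le_iff.1 (h ▸ hle n))
  haveI hloc : ∀ n, IsLocalRing (T ⧸ m ^ (n + 1)) := fun n =>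
    IsLocalRing.of_unique_max_ideal ⟨m.map (Ideal.Quotient.mk _), by
      obtain ⟨M, hM⟩ := Ideal.exists_maximal (T ⧸ m ^ (n + 1))
      exact hprime n M hM.isPrime ▸ hM, fun p hp => hprime n p hp.isPrime⟩
  haveI hnoe : ∀ n, IsNoetherianRing (T ⧸ m ^ (n + 1)) := fun n =>
    IsNoetherianRing.of_prime fun p hp => by rw [hprime n p hp]; exact hfg.map _
  have hmaxeq : ∀ n, 𝔪 (T ⧸ m ^ (n + 1)) = m.map (Ideal.Quotient.mk _) := fun n =>
    hprime n _ (IsLocalRing.maximalIdeal.isMaximal _).isPrime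
  haveI hart : ∀ n, IsArtinianRing (T ⧸ m ^ (n + 1)) := fun n => by
    rw [isArtinianRing_iff_isNilpotent_maximalIdeal]
    refine ⟨n + 1, ?_⟩
    rw [hmaxeq, ← Ideal.map_pow, Ideal.map_quotient_self]; rfl
  let A : ℕ → Art Λ k := fun n => Art.of (T ⧸ m ^ (n + 1)) (res n) (hress n)
  let mk : ∀ n, T →ₐ[Λ] (A n) := fun n => Ideal.Quotient.mkₐ Λ (m ^ (n + 1))
  have hmks : ∀ n, Function.Surjective (mk n) := fun n => Ideal.Quotient.mk_surjective
  let f : ∀ n, A (n + 1) ⟶ A n := fun n =>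
    ⟨Ideal.Quotient.factorₐ Λ (Ideal.pow_le_pow_right (Nat.le_succ (n + 1))), AlgHom.ext fun x => by
      obtain ⟨t, rfl⟩ := hmks (n + 1) x
      rfl⟩
  have hfmk : ∀ n t, f n (mk (n + 1) t) = mk n t := fun n t => rfl
  have hfs : ∀ n, Function.Surjective (f n) := fun n x => (hmks n x).elim fun t ht => ⟨mk (n + 1) t, ht⟩
  obtain ⟨s, hs⟩ := hfg
  have hd : ∀ n, LimitRing.emb A n ≤ s.card := fun n => by
    refine (LimitRing.emb_le_of_span A n (s.image (mk n)) ?_).trans Finset.card_image_le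
    rw [Finset.coe_image]
    change Ideal.span ((Ideal.Quotient.mk (m ^ (n + 1))) '' ↑s) = 𝔪 (T ⧸ m ^ (n + 1))
    rw [← Ideal.map_span, hmaxeq]
    exact congrArg _ hs
  obtain ⟨C, p, hpc, hps, hpu, hpk, -⟩ := LimitRing.exists_limit A f hfs s.card hd
  have hcompat : ∀ t : T, ∀ n, f n (mk (n + 1) t) = mk n t := fun t n => rfl
  choose ι₀ hι₀ hι₀u using fun t => hpu (fun n => mk n t) (hcompat t)
  let ι : T →ₐ[Λ] C.carrier :=
    { toFun := ι₀
      map_one' := (hι₀u 1 1 fun n => by rw [map_one, map_one]).symm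
      map_mul' := fun a b => (hι₀u (a * b) (ι₀ a * ι₀ b) fun n => by rw [map_mul, map_mul, hι₀ a n, hι₀ b n]).symm
      map_zero' := (hι₀u 0 0 fun n => by rw [map_zero, map_zero]).symm
      map_add' := fun a b => (hι₀u (a + b) (ι₀ a + ι₀ b) fun n => by rw [map_add, map_add, hι₀ a n, hι₀ b n]).symm
      commutes' := fun r => (hι₀u _ (algebraMap Λ C.carrier r) fun n => by rw [AlgHom.commutes, AlgHom.commutes]).symm }
  have hι : ∀ t n, (p n).1 (ι t) = mk n t := hι₀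
  refine ⟨C, ι, AlgHom.ext fun t => ?_, fun D ψ hψ => ?_⟩
  · change C.res (ι t) = π t
    rw [← homSet_res (p 0), hι]
    rfl
  have hψm : ∀ n, ∀ a ∈ m ^ (n + 1), (D.truncHom n).1 (ψ a) = 0 := fun n a ha => by
    rw [truncHom_eq_zero_iff]
    have h1 : m.map ψ.toRingHom ≤ 𝔪 D.carrier := Ideal.map_le_iff_le_comap.2 fun y hy => by
      rw [Ideal.mem_comap, CRing.mem_maximalIdeal_iff D]
      exact (congrArg (fun g : T →ₐ[Λ] k => g y) hψ).trans hy
    exact Ideal.pow_right_mono h1 (n + 1) (by rw [← Ideal.map_pow]; exact Ideal.mem_map_of_mem ψ.toRingHom ha)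
  let u : ∀ n, A n →ₐ[Λ] D.trunc n := fun n => Ideal.Quotient.liftₐ (m ^ (n + 1)) ((D.truncHom n).1.comp ψ) (hψm n)
  have hu : ∀ n t, u n (mk n t) = (D.truncHom n).1 (ψ t) := fun n t => rfl
  have hures : ∀ n, ((D.trunc n).res).comp (u n) = (A n).res := fun n => AlgHom.ext fun x => by
    obtain ⟨t, rfl⟩ := hmks n x
    change (D.trunc n).res (u n (mk n t)) = π t
    rw [hu, homSet_res (D.truncHom n)]
    exact congrArg (fun g : T →ₐ[Λ] k => g t) hψ
  let φ : ∀ n, HomSet C.carrier C.res (D.trunc n) := fun n => HomSet.map ⟨u n, hures n⟩ (p n)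
  have hφ : ∀ n, HomSet.map (D.truncMap n) (φ (n + 1)) = φ n := fun n => homSet_ext fun x => by
    obtain ⟨t, ht⟩ := hmks (n + 1) ((p (n + 1)).1 x)
    change D.truncMap n (u (n + 1) ((p (n + 1)).1 x)) = u n ((p n).1 x)
    rw [show (p n).1 x = f n ((p (n + 1)).1 x) from (congrArg (fun g : HomSet C.carrier C.res (A n) => g.1 x) (hpc n)).symm,
      ← ht, hfmk, hu, hu]
    exact congrArg (fun g : HomSet D.carrier D.res (D.trunc n) => g.1 (ψ t)) (CRing.truncMap_truncHom D n)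
  obtain ⟨h, hh, hhn⟩ := exists_hom_of_truncs φ hφ
  have hhι : h.comp ι = ψ := hom_ext_trunc fun n => AlgHom.ext fun t => by
    have := congrArg (fun g : HomSet C.carrier C.res (D.trunc n) => g.1 (ι t)) (hhn n)
    change (D.truncHom n).1 (h (ι t)) = u n ((p n).1 (ι t)) at this
    rw [hι, hu] at this
    exact this
  refine ⟨h, ⟨hh, hhι⟩, fun h' ⟨hh', hh'ι⟩ => hom_ext_trunc fun n => AlgHom.ext fun x => ?_⟩
  obtain ⟨N, hN⟩ := hpk (n + 1)
  obtain ⟨t, ht⟩ := hmks N ((p N).1 x)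
  have hx : x - ι t ∈ 𝔪 C.carrier ^ (n + 1) := hN (show (p N).1 (x - ι t) = 0 by rw [map_sub, hι, ht, sub_self])
  have key : ∀ g : C.carrier →ₐ[Λ] D.carrier, D.res.comp g = C.res → g.comp ι = ψ →
      (D.truncHom n).1 (g x) = (D.truncHom n).1 (ψ t) := fun g hg hgι => by
    have h0 : (D.truncHom n).1 (g (x - ι t)) = 0 := (truncHom_eq_zero_iff D n _).2 (map_mem_pow g hg hx)
    rw [map_sub, map_sub, sub_eq_zero] at h0
    rw [h0]
    exact congrArg (fun r : T →ₐ[Λ] D.carrier => (D.truncHom n).1 (r t)) hgι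
  change (D.truncHom n).1 (h' x) = (D.truncHom n).1 (h x)
  rw [key h' hh' hh'ι, key h hh hhι]

omit [IsNoetherianRing Λ] in
/-- Finitely many elements of a coefficient ring generate it as an algebra modulo the maximal ideal. -/
lemma exists_residue_gens (R : CRing Λ k) :
    ∃ (n : ℕ) (x : Fin n → R.carrier), ∀ a : R.carrier, ∃ q, a - MvPolynomial.aeval (R := Λ) x q ∈ 𝔪 R.carrier := by
  obtain ⟨r, q, hq⟩ := Algebra.FiniteType.iff_quotient_mvPolynomial''.1 (inferInstance : Algebra.FiniteType Λ k)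
  choose x hx using fun i => R.res_surjective (q (MvPolynomial.X i))
  refine ⟨r, x, fun a => ?_⟩
  obtain ⟨p, hp⟩ := hq (R.res a)
  refine ⟨p, (CRing.mem_maximalIdeal_iff R _).2 ?_⟩
  have e : R.res.comp (MvPolynomial.aeval x) = q := MvPolynomial.algHom_ext fun i => by simp [hx]
  rw [map_sub, ← hp, ← e]
  exact sub_self _

/-- Coproducts of coefficient rings. -/
theorem exists_coproduct (R S : CRing Λ k) :
    ∃ (P : CRing Λ k) (i₁ : R.carrier →ₐ[Λ] P.carrier) (i₂ : S.carrier →ₐ[Λ] P.carrier),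
      P.res.comp i₁ = R.res ∧ P.res.comp i₂ = S.res ∧
      ∀ (T : CRing Λ k) (g₁ : R.carrier →ₐ[Λ] T.carrier) (g₂ : S.carrier →ₐ[Λ] T.carrier),
        T.res.comp g₁ = R.res → T.res.comp g₂ = S.res →
          ∃! h : P.carrier →ₐ[Λ] T.carrier, T.res.comp h = P.res ∧ h.comp i₁ = g₁ ∧ h.comp i₂ = g₂ := by
  classical
  let W := R.carrier ⊗[Λ] S.carrier
  let j₁ : R.carrier →ₐ[Λ] W := Algebra.TensorProduct.includeLeft
  let j₂ : S.carrier →ₐ[Λ] W := Algebra.TensorProduct.includeRight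
  let π : W →ₐ[Λ] k := Algebra.TensorProduct.lift R.res S.res fun _ _ => Commute.all _ _
  have hπ₁ : ∀ a, π (j₁ a) = R.res a := fun a => by simp [π, j₁, W]
  have hπ₂ : ∀ b, π (j₂ b) = S.res b := fun b => by simp [π, j₂, W]
  have hπ : Function.Surjective π := fun c => (R.res_surjective c).elim fun a ha => ⟨j₁ a, (hπ₁ a).trans ha⟩
  let J : Ideal W := (𝔪 R.carrier).map j₁.toRingHom ⊔ (𝔪 S.carrier).map j₂.toRingHom
  have hJ : J ≤ RingHom.ker π := sup_le
    (Ideal.map_le_iff_le_comap.2 fun a ha => (hπ₁ a).trans ((CRing.mem_maximalIdeal_iff R a).1 ha))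
    (Ideal.map_le_iff_le_comap.2 fun b hb => (hπ₂ b).trans ((CRing.mem_maximalIdeal_iff S b).1 hb))
  obtain ⟨a, x, hx⟩ := exists_residue_gens R
  obtain ⟨b, y, hy⟩ := exists_residue_gens S
  let e : MvPolynomial (Fin a ⊕ Fin b) Λ →ₐ[Λ] W ⧸ J :=
    MvPolynomial.aeval (Sum.elim (fun i => Ideal.Quotient.mk J (j₁ (x i))) (fun i => Ideal.Quotient.mk J (j₂ (y i))))
  have he : Function.Surjective e := by
    intro w
    obtain ⟨w, rfl⟩ := Ideal.Quotient.mk_surjective w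
    induction w using TensorProduct.induction_on with
    | zero => exact ⟨0, by simp⟩
    | tmul r s =>
      obtain ⟨q₁, hq₁⟩ := hx r
      obtain ⟨q₂, hq₂⟩ := hy s
      refine ⟨MvPolynomial.rename Sum.inl q₁ * MvPolynomial.rename Sum.inr q₂, ?_⟩
      have e₁ : e (MvPolynomial.rename Sum.inl q₁) = Ideal.Quotient.mk J (j₁ r) := by
        have h1 : e.comp (MvPolynomial.rename Sum.inl) = ((Ideal.Quotient.mkₐ Λ J).comp j₁).comp (MvPolynomial.aeval x) :=
          MvPolynomial.algHom_ext fun i => by simp [e]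
        refine (congrArg (fun g : MvPolynomial (Fin a) Λ →ₐ[Λ] W ⧸ J => g q₁) h1).trans (Ideal.Quotient.eq.2 ?_)
        rw [← neg_mem_iff, neg_sub]
        have h2 := Ideal.mem_map_of_mem j₁.toRingHom hq₁
        rw [map_sub] at h2
        exact Ideal.mem_sup_left h2
      have e₂ : e (MvPolynomial.rename Sum.inr q₂) = Ideal.Quotient.mk J (j₂ s) := by
        have h1 : e.comp (MvPolynomial.rename Sum.inr) = ((Ideal.Quotient.mkₐ Λ J).comp j₂).comp (MvPolynomial.aeval y) :=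
          MvPolynomial.algHom_ext fun i => by simp [e]
        refine (congrArg (fun g : MvPolynomial (Fin b) Λ →ₐ[Λ] W ⧸ J => g q₂) h1).trans (Ideal.Quotient.eq.2 ?_)
        rw [← neg_mem_iff, neg_sub]
        have h2 := Ideal.mem_map_of_mem j₂.toRingHom hq₂
        rw [map_sub] at h2
        exact Ideal.mem_sup_right h2
      rw [map_mul, e₁, e₂, ← map_mul]
      simp [j₁, j₂, W, Algebra.TensorProduct.tmul_mul_tmul]
    | add u v hu hv =>
      obtain ⟨p, hp⟩ := hu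
      obtain ⟨q, hq⟩ := hv
      exact ⟨p + q, by rw [map_add, hp, hq, map_add]⟩
  haveI : IsNoetherianRing (W ⧸ J) := isNoetherianRing_of_surjective _ _ e.toRingHom he
  have hfg : (RingHom.ker π).FG := by
    obtain ⟨G, hG⟩ := IsNoetherian.noetherian ((RingHom.ker π).map (Ideal.Quotient.mk J))
    choose l hl using fun g : G => Ideal.Quotient.mk_surjective (I := J) (g : W ⧸ J)
    have h1 : RingHom.ker π = J ⊔ Ideal.span (Set.range l) := by
      have h2 : (Ideal.span (Set.range l)).map (Ideal.Quotient.mk J) = (RingHom.ker π).map (Ideal.Quotient.mk J) := by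
        rw [Ideal.map_span, ← hG, ← Set.range_comp]
        refine congrArg Ideal.span (Set.ext fun z => ⟨?_, fun hz => ⟨⟨z, hz⟩, hl _⟩⟩)
        rintro ⟨g, rfl⟩
        change Ideal.Quotient.mk J (l g) ∈ (G : Set (W ⧸ J))
        rw [hl]; exact g.2
      have h3 := congrArg (Ideal.comap (Ideal.Quotient.mk J)) h2
      rw [Ideal.comap_map_of_surjective _ Ideal.Quotient.mk_surjective,
        Ideal.comap_map_of_surjective _ Ideal.Quotient.mk_surjective, ← RingHom.ker_eq_comap_bot, Ideal.mk_ker,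
        sup_eq_left.2 hJ] at h3
      rw [← h3, sup_comm]
    rw [h1]
    refine Submodule.FG.sup (Submodule.FG.sup ?_ ?_) (Submodule.fg_span (Set.finite_range l))
    · exact Ideal.FG.map (IsNoetherian.noetherian _) _
    · exact Ideal.FG.map (IsNoetherian.noetherian _) _
  obtain ⟨P, ι, hι, hP⟩ := exists_completion_of_fg π hπ hfg
  refine ⟨P, ι.comp j₁, ι.comp j₂, AlgHom.ext fun r => ?_, AlgHom.ext fun s => ?_, fun T g₁ g₂ h₁ h₂ => ?_⟩
  · exact (congrArg (fun g : W →ₐ[Λ] k => g (j₁ r)) hι).trans (hπ₁ r)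
  · exact (congrArg (fun g : W →ₐ[Λ] k => g (j₂ s)) hι).trans (hπ₂ s)
  let ψ : W →ₐ[Λ] T.carrier := Algebra.TensorProduct.lift g₁ g₂ fun _ _ => Commute.all _ _
  have hψ₁ : ψ.comp j₁ = g₁ := Algebra.TensorProduct.lift_comp_includeLeft _ _ _
  have hψ₂ : ψ.comp j₂ = g₂ := Algebra.TensorProduct.lift_comp_includeRight g₁ g₂ fun _ _ => Commute.all _ _
  obtain ⟨h, ⟨hh, hhι⟩, huniq⟩ := hP T ψ (Algebra.TensorProduct.ext
    (AlgHom.ext fun r => by simpa [ψ, π, j₁, W] using congrArg (fun g : R.carrier →ₐ[Λ] k => g r) h₁)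
    (AlgHom.ext fun s => by simpa [ψ, π, j₂, W] using congrArg (fun g : S.carrier →ₐ[Λ] k => g s) h₂))
  refine ⟨h, ⟨hh, by rw [← AlgHom.comp_assoc, hhι, hψ₁], by rw [← AlgHom.comp_assoc, hhι, hψ₂]⟩, fun h' ⟨ha, hb, hc⟩ => huniq h' ⟨ha, ?_⟩⟩
  refine Algebra.TensorProduct.ext (AlgHom.ext fun r => ?_) (AlgHom.ext fun s => ?_)
  · exact (congrArg (fun g : R.carrier →ₐ[Λ] T.carrier => g r) (hb.trans hψ₁.symm))
  · exact (congrArg (fun g : S.carrier →ₐ[Λ] T.carrier => g s) (hc.trans hψ₂.symm))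

/-- Pushouts of coefficient rings. -/
theorem exists_pushout (R S₁ S₂ : CRing Λ k)
    (f₁ : R.carrier →ₐ[Λ] S₁.carrier) (hf₁ : S₁.res.comp f₁ = R.res)
    (f₂ : R.carrier →ₐ[Λ] S₂.carrier) (hf₂ : S₂.res.comp f₂ = R.res) :
    ∃ (P : CRing Λ k) (i₁ : S₁.carrier →ₐ[Λ] P.carrier) (i₂ : S₂.carrier →ₐ[Λ] P.carrier),
      P.res.comp i₁ = S₁.res ∧ P.res.comp i₂ = S₂.res ∧ i₁.comp f₁ = i₂.comp f₂ ∧
      ∀ (T : CRing Λ k) (g₁ : S₁.carrier →ₐ[Λ] T.carrier) (g₂ : S₂.carrier →ₐ[Λ] T.carrier),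
        T.res.comp g₁ = S₁.res → T.res.comp g₂ = S₂.res → g₁.comp f₁ = g₂.comp f₂ →
          ∃! h : P.carrier →ₐ[Λ] T.carrier, T.res.comp h = P.res ∧ h.comp i₁ = g₁ ∧ h.comp i₂ = g₂ := by
  obtain ⟨C, j₁, j₂, hj₁, hj₂, hC⟩ := exists_coproduct S₁ S₂
  let K : Ideal C.carrier := Ideal.span (Set.range fun r => j₁ (f₁ r) - j₂ (f₂ r))
  have hres : ∀ a ∈ K, C.res a = 0 := fun a ha => by
    refine (show K ≤ RingHom.ker C.res from Ideal.span_le.2 ?_) ha
    rintro _ ⟨r, rfl⟩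
    rw [SetLike.mem_coe, RingHom.mem_ker, map_sub, sub_eq_zero]
    exact ((congrArg (fun g : S₁.carrier →ₐ[Λ] k => g (f₁ r)) hj₁).trans (congrArg (fun g : R.carrier →ₐ[Λ] k => g r) hf₁)).trans
      ((congrArg (fun g : S₂.carrier →ₐ[Λ] k => g (f₂ r)) hj₂).trans (congrArg (fun g : R.carrier →ₐ[Λ] k => g r) hf₂)).symm
  have hKm : K ≤ 𝔪 C.carrier := fun a ha => (CRing.mem_maximalIdeal_iff C a).2 (hres a ha)
  haveI : Nontrivial (C.carrier ⧸ K) :=
    Ideal.Quotient.nontrivial_iff.2 fun h => (IsLocalRing.maximalIdeal.isMaximal C.carrier).ne_top (top_le_iff.1 (h ▸ hKm))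
  haveI : IsLocalRing (C.carrier ⧸ K) := IsLocalRing.of_surjective' (Ideal.Quotient.mk K) Ideal.Quotient.mk_surjective
  haveI : IsAdicComplete (𝔪 C.carrier) C.carrier := C.isAdicComplete
  let P : CRing Λ k :=
    { carrier := C.carrier ⧸ K
      res := Ideal.Quotient.liftₐ K C.res hres
      res_surjective := fun c => (C.res_surjective c).elim fun a ha => ⟨Ideal.Quotient.mk K a, ha⟩
      isAdicComplete := isAdicComplete_of_surjective (Ideal.Quotient.mk K) Ideal.Quotient.mk_surjective }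
  let q : C.carrier →ₐ[Λ] P.carrier := Ideal.Quotient.mkₐ Λ K
  refine ⟨P, q.comp j₁, q.comp j₂, hj₁, hj₂,
    AlgHom.ext fun r => Ideal.Quotient.eq.2 (Ideal.subset_span ⟨r, rfl⟩), fun T g₁ g₂ h₁ h₂ hg => ?_⟩
  obtain ⟨h, ⟨hh, hh₁, hh₂⟩, hu⟩ := hC T g₁ g₂ h₁ h₂
  have hK : ∀ a ∈ K, h a = 0 := fun a ha => by
    refine (show K ≤ RingHom.ker h from Ideal.span_le.2 ?_) ha
    rintro _ ⟨r, rfl⟩
    rw [SetLike.mem_coe, RingHom.mem_ker, map_sub, sub_eq_zero]
    exact ((congrArg (fun g : S₁.carrier →ₐ[Λ] T.carrier => g (f₁ r)) hh₁).trans (congrArg (fun g : R.carrier →ₐ[Λ] T.carrier => g r) hg)).trans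
      (congrArg (fun g : S₂.carrier →ₐ[Λ] T.carrier => g (f₂ r)) hh₂).symm
  refine ⟨Ideal.Quotient.liftₐ K h hK, ⟨Ideal.Quotient.algHom_ext Λ hh, hh₁, hh₂⟩, fun h' ⟨ha, hb, hc⟩ => ?_⟩
  refine Ideal.Quotient.algHom_ext Λ ?_
  exact hu (h'.comp q) ⟨(congrArg (fun g : P.carrier →ₐ[Λ] k => g.comp q) ha : _), hb, hc⟩

end Groth.ArtfunDeform.CRingColimit
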