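import Groth.Agent.ArtfunDeform.PSIso
import Mathlib.RingTheory.MvPowerSeries.Derivative
import Mathlib.Algebra.TrivSqZeroExt.Basic
import Mathlib.Algebra.Module.SpanRankOperations

/-!
In characteristic zero a complete local ring to whose trivial square-zero extensions maps lift is a
power series ring.
-/

set_option autoImplicit false
set_option linter.style.haveILetI false
set_option linter.style.longLine false
set_option linter.unusedSectionVars false

universe u v w

open CategoryTheory MvPowerSeries

namespace Groth.ArtfunDeform.CharZeroLift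

open ArtFun ArtFun.Art Groth.SGA7.PS

variable {k : Type u} [Field k]

local notation "𝔪" => IsLocalRing.maximalIdeal

/-- Derivations on power series with values in a module over an Artinian ring are given by the partials. -/
theorem der_eq {n : ℕ} {A : Type u} [CommRing A] [Algebra k A] (J : Ideal A) (hJ : IsNilpotent J)
    {M : Type w} [AddCommGroup M] [Module A M]
    (t : MvPowerSeries (Fin n) k →ₐ[k] A) (ht : ∀ i, t (X i) ∈ J)
    (E : MvPowerSeries (Fin n) k → M) (hadd : ∀ p q, E (p + q) = E p + E q)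
    (hmul : ∀ p q, E (p * q) = t p • E q + t q • E p) (hC : ∀ c, E (C c) = 0) (p : MvPowerSeries (Fin n) k) :
    E p = ∑ i, t (pderiv k i p) • E (X i) := by
  classical
  suffices H : ∀ s, ∀ p, E p - ∑ i, t (pderiv k i p) • E (X i) ∈ J ^ s • (⊤ : Submodule A M) by
    obtain ⟨N, hN⟩ := hJ
    have := H N p
    rw [hN] at this
    simpa [Submodule.bot_smul, sub_eq_zero] using this
  intro s
  induction s with
  | zero => intro p; simp
  | succ s ih =>
    intro p
    obtain ⟨h, hh, -⟩ := exists_sum_X_mul (p - C (constantCoeff p)) (by simp)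
    have hp : p = C (constantCoeff p) + ∑ i, X i * h i := eq_add_of_sub_eq' hh
    let Δ : MvPowerSeries (Fin n) k →+ M :=
      AddMonoidHom.mk' (fun q => E q - ∑ i, t (pderiv k i q) • E (X i)) fun a b => by
        simp only [hadd, map_add, add_smul, Finset.sum_add_distrib]
        abel
    have hΔmul : ∀ a b, Δ (a * b) = t a • Δ b + t b • Δ a := fun a b => by
      change E (a * b) - _ = t a • (E b - _) + t b • (E a - _)
      rw [hmul, smul_sub, smul_sub, Finset.smul_sum, Finset.smul_sum]
      have : ∀ i, t (pderiv k i (a * b)) • E (X i) = t a • t (pderiv k i b) • E (X i) + t b • t (pderiv k i a) • E (X i) :=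
        fun i => by rw [Derivation.leibniz, map_add, smul_eq_mul, smul_eq_mul, map_mul, map_mul, add_smul, mul_smul, mul_smul]
      rw [Finset.sum_congr rfl fun i _ => this i, Finset.sum_add_distrib]
      abel
    have hΔX : ∀ i, Δ (X i) = 0 := fun i => by
      change E (X i) - ∑ j, t (pderiv k j (X i)) • E (X j) = 0
      rw [Finset.sum_eq_single i]
      · rw [pderiv_X_self, map_one, one_smul, sub_self]
      · intro j _ hj; rw [pderiv_X_of_ne (Ne.symm hj), map_zero, zero_smul]
      · simp
    change Δ p ∈ _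
    rw [hp, map_add, map_sum]
    refine add_mem ?_ (Submodule.sum_mem _ fun i _ => ?_)
    · change E (C _) - _ ∈ _
      simp [hC]
    · rw [hΔmul, hΔX, smul_zero, add_zero, pow_succ', ← Ideal.smul_eq_mul, Submodule.smul_assoc]
      exact Submodule.smul_mem_smul (ht i) (ih (h i))

variable (R : CRing k k)

/-- Homomorphisms into the trivial extensions `R/m^(l+1) ⊕ (R/m^(l+1))ⁿ` lift through the reduction of the second summand. -/
def LiftsTrunc (n : ℕ) : Prop :=
  ∀ (l : ℕ) (φ : R.carrier →ₐ[k] TrivSqZeroExt (R.trunc l) ((Fin n → R.trunc l) ⧸ (𝔪 (R.trunc l) • (⊤ : Submodule (R.trunc l) (Fin n → R.trunc l))))),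
    (∀ r, (φ r).fst = (R.truncHom l).1 r) →
    ∃ D : R.carrier → (Fin n → R.trunc l), (∀ a b, D (a + b) = D a + D b) ∧
      (∀ a b, D (a * b) = (R.truncHom l).1 a • D b + (R.truncHom l).1 b • D a) ∧
      (∀ c : k, D (algebraMap k R.carrier c) = 0) ∧
      ∀ r, Submodule.Quotient.mk (D r) = (φ r).snd

lemma eq_algebraMap_res (a : R.carrier) : a - algebraMap k R.carrier (R.res a) ∈ 𝔪 R.carrier := by
  rw [CRing.mem_maximalIdeal_iff, map_sub, AlgHom.commutes]
  simp

lemma res_unique (A : Art k k) (χ : R.carrier →ₐ[k] A) : A.res.comp χ = R.res := by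
  refine AlgHom.ext fun a => ?_
  have hmax : (RingHom.ker (A.res.comp χ)).IsMaximal :=
    RingHom.ker_isMaximal_of_surjective (A.res.comp χ).toRingHom fun c => ⟨algebraMap k R.carrier c, (A.res.comp χ).commutes c⟩
  have := eq_algebraMap_res R a
  rw [← IsLocalRing.eq_maximalIdeal hmax, RingHom.mem_ker, map_sub, AlgHom.commutes, sub_eq_zero] at this
  exact this

variable {n : ℕ} (x : Fin n → R.carrier) (hx : Ideal.span (Set.range x) = 𝔪 R.carrier)
  (hmin : ∀ c : Fin n → k, (∑ i, algebraMap k R.carrier (c i) * x i) ∈ 𝔪 R.carrier ^ 2 → c = 0)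

include hx in
lemma exists_lin (r : R.carrier) : ∃ c : Fin n → k,
    r - algebraMap k R.carrier (R.res r) - ∑ i, algebraMap k R.carrier (c i) * x i ∈ 𝔪 R.carrier ^ 2 := by
  have h := eq_algebraMap_res R r
  conv at h => rw [← hx, Ideal.mem_span_range_iff_exists_fun]
  obtain ⟨a, ha⟩ := h
  refine ⟨fun i => R.res (a i), ?_⟩
  rw [← ha, ← Finset.sum_sub_distrib]
  refine Ideal.sum_mem _ fun i _ => ?_
  rw [← sub_mul, pow_two]
  exact Ideal.mul_mem_mul (eq_algebraMap_res R (a i)) (hx ▸ Ideal.subset_span ⟨i, rfl⟩)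

/-- the linear coefficients -/
noncomputable def lin (r : R.carrier) : Fin n → k := (exists_lin R x hx r).choose

include hmin in
lemma lin_eq {r : R.carrier} {c : Fin n → k}
    (h : r - algebraMap k R.carrier (R.res r) - ∑ i, algebraMap k R.carrier (c i) * x i ∈ 𝔪 R.carrier ^ 2) :
    lin R x hx r = c := by
  have h1 := sub_mem h (exists_lin R x hx r).choose_spec
  rw [← sub_eq_zero]
  refine hmin _ ?_
  simp only [Pi.sub_apply, map_sub, sub_mul, Finset.sum_sub_distrib]
  rw [sub_sub_sub_cancel_left] at h1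
  exact h1

include hmin in
lemma lin_add (a b : R.carrier) : lin R x hx (a + b) = lin R x hx a + lin R x hx b := by
  refine lin_eq R x hx hmin ?_
  have := add_mem (exists_lin R x hx a).choose_spec (exists_lin R x hx b).choose_spec
  simp only [map_add, Pi.add_apply, add_mul, Finset.sum_add_distrib]
  convert this using 1
  simp only [lin]
  ring

include hmin in
lemma lin_mul (a b : R.carrier) : lin R x hx (a * b) = R.res a • lin R x hx b + R.res b • lin R x hx a := by
  refine lin_eq R x hx hmin ?_
  let A0 := algebraMap k R.carrier (R.res a)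
  let B0 := algebraMap k R.carrier (R.res b)
  let Sa := ∑ i, algebraMap k R.carrier (lin R x hx a i) * x i
  let Sb := ∑ i, algebraMap k R.carrier (lin R x hx b i) * x i
  have ha : a - A0 - Sa ∈ 𝔪 R.carrier ^ 2 := (exists_lin R x hx a).choose_spec
  have hb : b - B0 - Sb ∈ 𝔪 R.carrier ^ 2 := (exists_lin R x hx b).choose_spec
  have hsum : ∑ i, algebraMap k R.carrier ((R.res a • lin R x hx b + R.res b • lin R x hx a) i) * x i = A0 * Sb + B0 * Sa := by
    simp only [Pi.add_apply, Pi.smul_apply, smul_eq_mul, map_add, map_mul, add_mul, Finset.sum_add_distrib, A0, B0, Sa, Sb, Finset.mul_sum, mul_assoc]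
  rw [map_mul, map_mul, hsum]
  have e : a * b - A0 * B0 - (A0 * Sb + B0 * Sa) = A0 * (b - B0 - Sb) + B0 * (a - A0 - Sa) + (a - A0) * (b - B0) := by ring
  rw [e]
  refine add_mem (add_mem (Ideal.mul_mem_left _ _ hb) (Ideal.mul_mem_left _ _ ha)) ?_
  rw [pow_two]
  exact Ideal.mul_mem_mul (eq_algebraMap_res R a) (eq_algebraMap_res R b)

include hmin in
lemma lin_algebraMap (c : k) : lin R x hx (algebraMap k R.carrier c) = 0 := by
  refine lin_eq R x hx hmin ?_
  simp

include hmin in
lemma lin_x (i : Fin n) : lin R x hx (x i) = Pi.single i 1 := by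
  classical
  refine lin_eq R x hx hmin ?_
  rw [show R.res (x i) = 0 from (CRing.mem_maximalIdeal_iff R _).1 (hx ▸ Ideal.subset_span ⟨i, rfl⟩)]
  simp [Pi.single_apply, apply_ite (algebraMap k R.carrier), Finset.sum_ite_eq']

include hx hmin in
/-- The key statement. -/
theorem injective_of_lifts [CharZero k] (hL : LiftsTrunc R n) (θ : MvPowerSeries (Fin n) k →ₐ[k] R.carrier)
    (hθ : ∀ i, θ (X i) = x i) : Function.Injective θ := by
  classical
  have hres0 : ∀ c : k, R.res (θ (C c)) = c := fun c => by
    rw [show (C c : MvPowerSeries (Fin n) k) = algebraMap k _ c from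
      (MvPowerSeries.algebraMap_apply (r := c)).symm.trans rfl, AlgHom.commutes, AlgHom.commutes]
    simp
  -- the kernel is stable under the partial derivatives
  have hstab : ∀ f, θ f = 0 → ∀ i, θ (pderiv k i f) = 0 := by
    intro f hf i
    haveI := R.isAdicComplete
    refine IsHausdorff.haus' (I := 𝔪 R.carrier) _ fun l => ?_
    rw [SModEq.sub_mem, sub_zero, smul_eq_mul, Ideal.mul_top]
    refine Ideal.pow_le_pow_right (Nat.le_succ l) ((truncHom_eq_zero_iff R l _).1 ?_)
    let A := R.trunc l
    let N : Submodule A (Fin n → A) := 𝔪 A • ⊤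
    have hsm : ∀ (a : A) (w : (Fin n → A) ⧸ N), a • w = algebraMap k A (A.res a) • w := fun a w => by
      obtain ⟨w, rfl⟩ := N.mkQ_surjective w
      rw [Submodule.mkQ_apply, ← Submodule.Quotient.mk_smul, ← Submodule.Quotient.mk_smul, Submodule.Quotient.eq, ← sub_smul]
      refine Submodule.smul_mem_smul ?_ trivial
      rw [Art.mem_maximalIdeal_iff, map_sub, AlgHom.commutes]
      simp
    let δ : R.carrier → (Fin n → A) ⧸ N := fun r => Submodule.Quotient.mk fun j => algebraMap k A (lin R x hx r j)
    let φ : R.carrier →ₐ[k] TrivSqZeroExt A ((Fin n → A) ⧸ N) :=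
      { toFun := fun r => TrivSqZeroExt.inl ((R.truncHom l).1 r) + TrivSqZeroExt.inr (δ r)
        map_one' := TrivSqZeroExt.ext (by simp) (by
          simp [δ, show lin R x hx (1 : R.carrier) = 0 from by simpa using lin_algebraMap R x hx hmin 1]
          exact zero_mem N)
        map_mul' := fun a b => TrivSqZeroExt.ext (by simp) (by
          simp only [TrivSqZeroExt.snd_add, TrivSqZeroExt.snd_inl, TrivSqZeroExt.snd_inr, zero_add, TrivSqZeroExt.snd_mul,
            TrivSqZeroExt.fst_add, TrivSqZeroExt.fst_inl, TrivSqZeroExt.fst_inr, add_zero, op_smul_eq_smul]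
          rw [hsm ((R.truncHom l).1 a), hsm ((R.truncHom l).1 b), homSet_res, homSet_res]
          simp only [δ, ← Submodule.Quotient.mk_smul (p := N), ← Submodule.Quotient.mk_add (p := N)]
          congr 1
          funext j
          simp [lin_mul R x hx hmin, map_add, map_mul, Algebra.smul_def])
        map_zero' := TrivSqZeroExt.ext (by simp) (by
          simp [δ, show lin R x hx (0 : R.carrier) = 0 from by simpa using lin_algebraMap R x hx hmin 0]
          exact zero_mem N)
        map_add' := fun a b => TrivSqZeroExt.ext (by simp) (by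
          simp only [TrivSqZeroExt.snd_add, TrivSqZeroExt.snd_inl, TrivSqZeroExt.snd_inr, zero_add, δ, ← Submodule.Quotient.mk_add (p := N)]
          congr 1
          funext j
          simp [lin_add R x hx hmin])
        commutes' := fun c => TrivSqZeroExt.ext (by simp [TrivSqZeroExt.algebraMap_eq_inl']; rfl) (by
          simp [δ, TrivSqZeroExt.algebraMap_eq_inl', lin_algebraMap R x hx hmin]
          exact zero_mem N) }
    obtain ⟨D, hDa, hDm, hDc, hDφ⟩ := hL l φ (fun r => by simp [φ])
    let t : MvPowerSeries (Fin n) k →ₐ[k] A := (R.truncHom l).1.comp θ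
    have ht : ∀ j, t (X j) ∈ 𝔪 A := fun j => by
      change (R.truncHom l).1 (θ (X j)) ∈ _
      rw [hθ, Art.mem_maximalIdeal_iff, homSet_res, ← CRing.mem_maximalIdeal_iff]
      exact hx ▸ Ideal.subset_span ⟨j, rfl⟩
    have hnil : IsNilpotent (𝔪 A) := isNilpotent_maximalIdeal A
    have key := der_eq (𝔪 A) hnil t ht (fun p => D (θ p)) (fun p q => by rw [map_add, hDa])
      (fun p q => by rw [map_mul, hDm]; rfl) (fun c => by
        rw [show (C c : MvPowerSeries (Fin n) k) = algebraMap k _ c from
          (MvPowerSeries.algebraMap_apply (r := c)).symm.trans rfl, AlgHom.commutes, hDc]) f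
    rw [hf, show D 0 = 0 by simpa using hDc 0] at key
    let c : Fin n → A := fun j => t (pderiv k j f)
    have hv : ∀ j, D (θ (X j)) - Pi.single j 1 ∈ N := fun j => by
      rw [← Submodule.Quotient.eq, hDφ, hθ]
      simp only [φ, AlgHom.coe_mk, RingHom.coe_mk, MonoidHom.coe_mk, OneHom.coe_mk, TrivSqZeroExt.snd_add, TrivSqZeroExt.snd_inl,
        TrivSqZeroExt.snd_inr, zero_add, δ, lin_x R x hx hmin]
      congr 1
      funext i'
      simp [Pi.single_apply, apply_ite (algebraMap k A)]
    have hN : ∀ w ∈ N, ∀ j, w j ∈ 𝔪 A := fun w hw j => by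
      refine Submodule.smul_induction_on hw (fun a ha w _ => ?_) (fun u v hu hv => ?_)
      · rw [Pi.smul_apply, smul_eq_mul]; exact Ideal.mul_mem_right _ _ ha
      · rw [Pi.add_apply]; exact add_mem hu hv
    have hpow : ∀ s, ∀ j, c j ∈ 𝔪 A ^ s := by
      intro s
      induction s with
      | zero => intro j; simp
      | succ s ih =>
        intro j
        have h1 : c j = - ∑ i', c i' * ((D (θ (X i'))) j - (Pi.single i' 1 : Fin n → A) j) := by
          simp only [mul_sub, Finset.sum_sub_distrib]
          have h2 := congrFun key.symm j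
          simp only [Finset.sum_apply, Pi.smul_apply, smul_eq_mul, Pi.zero_apply] at h2
          rw [h2]
          simp [Pi.single_apply]
        rw [h1, pow_succ]
        exact neg_mem (Ideal.sum_mem _ fun i' _ => Ideal.mul_mem_mul (ih i') (hN _ (hv i') j))
    obtain ⟨M, hM⟩ := hnil
    have h3 := hpow M i
    rw [hM] at h3
    simpa [c, t] using h3
  rw [injective_iff_map_eq_zero]
  suffices H : ∀ (d : ℕ) (e : Fin n →₀ ℕ), (e.sum fun _ a => a) = d → ∀ f, θ f = 0 → coeff e f = 0 from
    fun f hf => MvPowerSeries.ext fun e => by rw [H _ e rfl f hf]; simp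
  intro d
  induction d with
  | zero =>
    intro e he f hf
    have he0 : e = 0 := by
      refine Finsupp.ext fun i => ?_
      by_contra h
      have := Finset.single_le_sum (f := fun j => e j) (fun _ _ => Nat.zero_le _) (Finsupp.mem_support_iff.2 h)
      have h' : (e.sum fun _ a => a) = ∑ j ∈ e.support, e j := rfl
      simp only [Finsupp.coe_zero, Pi.zero_apply] at *
      omega
    subst he0
    obtain ⟨h, hh, -⟩ := exists_sum_X_mul (f - C (constantCoeff f)) (by simp)
    have h1 : R.res (θ f) = constantCoeff f := by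
      conv_lhs => rw [eq_add_of_sub_eq' hh]
      rw [map_add, map_add, hres0, map_sum, map_sum, Finset.sum_eq_zero fun i _ => ?_, add_zero]
      rw [map_mul, map_mul, hθ, show R.res (x i) = 0 from (CRing.mem_maximalIdeal_iff R _).1 (hx ▸ Ideal.subset_span ⟨i, rfl⟩), zero_mul]
    rw [coeff_zero_eq_constantCoeff, ← h1, hf, map_zero]
  | succ d ih =>
    intro e he f hf
    obtain ⟨i, hi⟩ : ∃ i, e i ≠ 0 := by
      by_contra h
      push Not at h
      rw [show e = 0 from Finsupp.ext h] at he
      simp at he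
    let e' := e - Finsupp.single i 1
    have hle : Finsupp.single i 1 ≤ e := by rw [Finsupp.single_le_iff]; omega
    have he' : e' + Finsupp.single i 1 = e := tsub_add_cancel_of_le hle
    have hd : (e'.sum fun _ a => a) = d := by
      have h1 : ((e' + Finsupp.single i 1).sum fun _ a => a) = (e'.sum fun _ a => a) + 1 := by
        rw [Finsupp.sum_add_index' (fun _ => rfl) (fun _ _ _ => rfl), Finsupp.sum_single_index rfl]
      rw [he', he] at h1
      omega
    have h2 := ih e' hd _ (hstab f hf i)
    rw [coeff_pderiv, he'] at h2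
    rcases mul_eq_zero.1 h2 with h3 | h3
    · exact h3
    · exact absurd h3 (by exact_mod_cast Nat.succ_ne_zero (e' i))

omit x hx hmin

theorem nonempty_algEquiv_of_lifts [CharZero k]
    (hL : LiftsTrunc R (Module.finrank (IsLocalRing.ResidueField R.carrier) (IsLocalRing.CotangentSpace R.carrier))) :
    Nonempty (R.carrier ≃ₐ[k] MvPowerSeries
      (Fin (Module.finrank (IsLocalRing.ResidueField R.carrier) (IsLocalRing.CotangentSpace R.carrier))) k) := by
  classical
  revert hL
  rw [← IsLocalRing.spanFinrank_maximalIdeal_eq_finrank_cotangentSpace]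
  intro hL
  obtain ⟨s, hs, hspan⟩ := (IsNoetherian.noetherian (𝔪 R.carrier)).exists_span_finset_card_eq_spanFinrank
  let e := s.equivFinOfCardEq hs
  let x : Fin (𝔪 R.carrier).spanFinrank → R.carrier := fun i => (e.symm i : R.carrier)
  have hx : Ideal.span (Set.range x) = 𝔪 R.carrier := by
    conv_rhs => rw [← hspan]
    refine congrArg Ideal.span (Set.ext fun y => ⟨?_, fun hy => ⟨e ⟨y, hy⟩, by simp [x]⟩⟩)
    rintro ⟨i, rfl⟩
    exact (e.symm i).2
  have hmin : ∀ c : Fin (𝔪 R.carrier).spanFinrank → k,
      (∑ i, algebraMap k R.carrier (c i) * x i) ∈ 𝔪 R.carrier ^ 2 → c = 0 := by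
    intro c hc
    by_contra h0
    obtain ⟨j, hj⟩ := Function.ne_iff.1 h0
    let T : Finset R.carrier := (Finset.univ.erase j).image x
    have hxT : ∀ i, x i ∈ Ideal.span (T : Set R.carrier) ⊔ 𝔪 R.carrier ^ 2 := by
      intro i
      by_cases hij : i = j
      · subst hij
        have hu : IsUnit (algebraMap k R.carrier (c i)) := (isUnit_iff_ne_zero.2 hj).map _
        rw [← Ideal.unit_mul_mem_iff_mem _ hu]
        have h2 : (∑ l, algebraMap k R.carrier (c l) * x l) - ∑ l ∈ Finset.univ.erase i, algebraMap k R.carrier (c l) * x l ∈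
            Ideal.span (T : Set R.carrier) ⊔ 𝔪 R.carrier ^ 2 :=
          sub_mem (Ideal.mem_sup_right hc) (Ideal.mem_sup_left (Ideal.sum_mem _ fun l hl =>
            Ideal.mul_mem_left _ _ (Ideal.subset_span (Finset.mem_image_of_mem x hl))))
        rwa [← Finset.add_sum_erase _ _ (Finset.mem_univ i), add_sub_cancel_right] at h2
      · exact Ideal.mem_sup_left (Ideal.subset_span (Finset.mem_image_of_mem x (Finset.mem_erase.2 ⟨hij, Finset.mem_univ _⟩)))
    have hT : Ideal.span (T : Set R.carrier) = 𝔪 R.carrier := by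
      refine le_antisymm (Ideal.span_le.2 fun y hy => ?_) ?_
      · obtain ⟨i, -, rfl⟩ := Finset.mem_image.1 hy
        exact hx ▸ Ideal.subset_span ⟨i, rfl⟩
      · refine Submodule.le_of_le_smul_of_le_jacobson_bot (IsNoetherian.noetherian _)
          (IsLocalRing.maximalIdeal_le_jacobson _) ?_
        rw [smul_eq_mul, ← pow_two]
        conv_lhs => rw [← hx]
        refine Ideal.span_le.2 ?_
        rintro _ ⟨i, rfl⟩
        exact hxT i
    have h1 : (𝔪 R.carrier).spanFinrank ≤ T.card := by
      conv_lhs => rw [← hT]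
      exact (Submodule.spanFinrank_span_le_ncard_of_finite T.finite_toSet).trans (by rw [Set.ncard_coe_finset])
    have h2 : T.card ≤ (𝔪 R.carrier).spanFinrank - 1 := Finset.card_image_le.trans (by simp)
    have := j.2
    omega
  have hxm : ∀ i, x i ∈ 𝔪 R.carrier := fun i => hx ▸ Ideal.subset_span ⟨i, rfl⟩
  haveI := R.isAdicComplete
  let θ : MvPowerSeries (Fin (𝔪 R.carrier).spanFinrank) k →ₐ[k] R.carrier := Groth.Calg6.evalAdic (𝔪 R.carrier) x hxm
  have hθ : ∀ i, θ (X i) = x i := Groth.Calg6.evalAdic_X (𝔪 R.carrier) x hxm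
  haveI : IsAdicComplete (𝔪 (MvPowerSeries (Fin (𝔪 R.carrier).spanFinrank) k)) (MvPowerSeries (Fin (𝔪 R.carrier).spanFinrank) k) := by
    haveI : IsAdicComplete (𝔪 k) k := by rw [IsLocalRing.maximalIdeal_eq_bot]; infer_instance
    exact isAdicComplete_ps
  have hres : ∀ p, constantCoeff p = 0 → θ p ∈ 𝔪 R.carrier := fun p hp => by
    obtain ⟨h, hh, -⟩ := exists_sum_X_mul p (by simpa using hp)
    rw [hh, map_sum]
    exact Ideal.sum_mem _ fun i _ => by rw [map_mul, hθ]; exact Ideal.mul_mem_right _ _ (hxm i)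
  have hC : ∀ c, θ (C c) = algebraMap k R.carrier c := fun c => by
    rw [show (C c : MvPowerSeries (Fin (𝔪 R.carrier).spanFinrank) k) = algebraMap k _ c from
      (MvPowerSeries.algebraMap_apply (r := c)).symm.trans rfl, AlgHom.commutes]
  have hsurj : Function.Surjective θ := by
    refine surjective_of_map_maximalIdeal θ.toRingHom
      (fun r => ⟨C (R.res r), by change r - θ (C _) ∈ _; rw [hC]; exact eq_algebraMap_res R r⟩) ?_
    refine le_antisymm (sup_le (Ideal.map_le_iff_le_comap.2 fun p hp => hres p ?_) (Ideal.pow_le_self (by decide))) ?_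
    · have h1 := (mem_maximalIdeal_ps p).1 hp
      rwa [IsLocalRing.maximalIdeal_eq_bot, Ideal.mem_bot] at h1
    · conv_lhs => rw [← hx]
      refine Ideal.span_le.2 ?_
      rintro _ ⟨i, rfl⟩
      refine Ideal.mem_sup_left (hθ i ▸ Ideal.mem_map_of_mem θ.toRingHom ((mem_maximalIdeal_ps _).2 ?_))
      rw [constantCoeff_X]
      exact zero_mem _
  exact ⟨(AlgEquiv.ofBijective θ ⟨injective_of_lifts R x hx hmin hL θ hθ, hsurj⟩).symm⟩

/-- Homomorphisms out of power series lift to trivial square-zero extensions. -/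
theorem exists_tsze_lift {n : ℕ} (e : R.carrier ≃ₐ[k] MvPowerSeries (Fin n) k) (A : Art k k)
    (M M' : Type u) [AddCommGroup M] [Module A M] [Module (↥A)ᵐᵒᵖ M] [IsCentralScalar A M] [Module k M]
    [IsScalarTower k A M] [IsScalarTower k (↥A)ᵐᵒᵖ M] [AddCommGroup M'] [Module A M'] [Module (↥A)ᵐᵒᵖ M']
    [IsCentralScalar A M'] [Module k M'] [IsScalarTower k A M'] [IsScalarTower k (↥A)ᵐᵒᵖ M'] (f : M' →ₗ[A] M)
    (hf : Function.Surjective f) (φ : R.carrier →ₐ[k] TrivSqZeroExt A M) :
    ∃ ψ : R.carrier →ₐ[k] TrivSqZeroExt A M', ∀ r, (ψ r).fst = (φ r).fst ∧ f (ψ r).snd = (φ r).snd := by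
  let t : MvPowerSeries (Fin n) k →ₐ[k] A := ((TrivSqZeroExt.fstHom k A M).comp φ).comp e.symm.toAlgHom
  let E : MvPowerSeries (Fin n) k → M := fun p => (φ (e.symm p)).snd
  have ht : ∀ i, t (X i) ∈ 𝔪 A := fun i => by
    have hm : e.symm (X i) ∈ 𝔪 R.carrier := fun hu => by
      have h1 := MvPowerSeries.isUnit_constantCoeff _ (by simpa using hu.map e)
      rw [constantCoeff_X] at h1
      exact not_isUnit_zero h1
    rw [Art.mem_maximalIdeal_iff]
    change A.res (((TrivSqZeroExt.fstHom k A M).comp φ) (e.symm (X i))) = 0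
    rw [← (CRing.mem_maximalIdeal_iff R _).1 hm]
    exact congrArg (fun h : R.carrier →ₐ[k] k => h (e.symm (X i))) (res_unique R A ((TrivSqZeroExt.fstHom k A M).comp φ))
  have hE : ∀ p, E p = ∑ i, t (pderiv k i p) • E (X i) :=
    der_eq (𝔪 A) (isNilpotent_maximalIdeal A) t ht E (fun p q => by simp [E])
      (fun p q => by simp [E, t, op_smul_eq_smul]) (fun c => by
        simp only [E]
        rw [show (C c : MvPowerSeries (Fin n) k) = algebraMap k _ c from
          (MvPowerSeries.algebraMap_apply (r := c)).symm.trans rfl, AlgEquiv.commutes, AlgHom.commutes]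
        simp [TrivSqZeroExt.algebraMap_eq_inl'])
  choose z hz using fun i => hf (E (X i))
  let E' : MvPowerSeries (Fin n) k → M' := fun p => ∑ i, t (pderiv k i p) • z i
  have hE'a : ∀ p q, E' (p + q) = E' p + E' q := fun p q => by simp [E', add_smul, Finset.sum_add_distrib]
  have hE'm : ∀ p q, E' (p * q) = t p • E' q + t q • E' p := fun p q => by
    simp [E', add_smul, Finset.sum_add_distrib, Finset.smul_sum, mul_smul]
  have hE'c : ∀ c : k, E' (algebraMap k _ c) = 0 := fun c => by
    simp [E', Derivation.map_algebraMap]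
  let ψ0 : MvPowerSeries (Fin n) k →ₐ[k] TrivSqZeroExt A M' :=
    { toFun := fun p => TrivSqZeroExt.inl (t p) + TrivSqZeroExt.inr (E' p)
      map_one' := TrivSqZeroExt.ext (by simp) (by simpa using hE'c 1)
      map_mul' := fun p q => TrivSqZeroExt.ext (by simp) (by simp [hE'm, op_smul_eq_smul])
      map_zero' := TrivSqZeroExt.ext (by simp) (by simpa using hE'c 0)
      map_add' := fun p q => TrivSqZeroExt.ext (by simp) (by simp [hE'a])
      commutes' := fun c => TrivSqZeroExt.ext (by simp [TrivSqZeroExt.algebraMap_eq_inl'])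
        (by simp only [TrivSqZeroExt.snd_add, TrivSqZeroExt.snd_inl, TrivSqZeroExt.snd_inr, zero_add, hE'c]; simp [TrivSqZeroExt.algebraMap_eq_inl']) }
  refine ⟨ψ0.comp e.toAlgHom, fun r => ⟨?_, ?_⟩⟩
  · simp [ψ0, t]
  · have h1 := hE (e r)
    simp only [E, AlgEquiv.symm_apply_apply] at h1
    rw [h1]
    simp [ψ0, E', hz, E]

end Groth.ArtfunDeform.CharZeroLift
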