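import Groth.Agent.ArtfunDeform.Formal
import Mathlib.RingTheory.Derivation.Basic
import Mathlib.RingTheory.AdicCompletion.Noetherian

/-!
Surjectivity of maps of complete local rings from cotangent spaces and derivations.
-/

set_option linter.style.haveILetI false
set_option linter.style.longLine false
set_option linter.unusedSectionVars false

universe u v

open CategoryTheory

namespace Groth.ArtfunDeform

open ArtFun ArtFun.Art

local notation "𝔪" => IsLocalRing.maximalIdeal

section Surjective

variable {R S : Type u} [CommRing R] [CommRing S] [IsLocalRing R] [IsLocalRing S]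

/-- A map of complete local rings is surjective if it is surjective on residue fields and cotangent spaces. -/
theorem surjective_of_map_maximalIdeal [IsAdicComplete (𝔪 R) R] [IsHausdorff (𝔪 S) S] (f : R →+* S)
    (hres : ∀ s, ∃ r, s - f r ∈ 𝔪 S) (h : (𝔪 R).map f ⊔ (𝔪 S) ^ 2 = 𝔪 S) : Function.Surjective f := by
  have hle : (𝔪 R).map f ≤ 𝔪 S := le_sup_left.trans h.le
  have hpow : ∀ n, ∀ x ∈ (𝔪 R) ^ n, f x ∈ (𝔪 S) ^ n := fun n x hx => by
    have := Ideal.mem_map_of_mem f hx
    rw [Ideal.map_pow] at this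
    exact Ideal.pow_right_mono hle n this
  have one : ∀ z ∈ 𝔪 S, ∃ a ∈ 𝔪 R, z - f a ∈ (𝔪 S) ^ 2 := by
    intro z hz
    rw [← h] at hz
    obtain ⟨u, hu, v, hv, rfl⟩ := Submodule.mem_sup.1 hz
    suffices ∃ a ∈ 𝔪 R, u - f a ∈ (𝔪 S) ^ 2 by
      obtain ⟨a, ha, ha'⟩ := this
      exact ⟨a, ha, by simpa [sub_add_eq_add_sub] using Ideal.add_mem _ ha' hv⟩
    clear hz
    induction hu using Submodule.span_induction with
    | mem x hx =>
      obtain ⟨a, ha, rfl⟩ := hx
      exact ⟨a, ha, by simp⟩
    | zero => exact ⟨0, zero_mem _, by simp⟩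
    | add x y _ _ hx hy =>
      obtain ⟨a, ha, ha'⟩ := hx
      obtain ⟨b, hb, hb'⟩ := hy
      refine ⟨a + b, add_mem ha hb, ?_⟩
      rw [map_add, add_sub_add_comm]
      exact add_mem ha' hb'
    | smul c x _ hx =>
      obtain ⟨a, ha, ha'⟩ := hx
      obtain ⟨r, hr⟩ := hres c
      refine ⟨r * a, Ideal.mul_mem_left _ _ ha, ?_⟩
      have e : c • x - f (r * a) = c * (x - f a) + (c - f r) * f a := by rw [smul_eq_mul, map_mul]; ring
      rw [e]
      refine add_mem (Ideal.mul_mem_left _ _ ha') ?_
      rw [pow_two]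
      exact Ideal.mul_mem_mul hr (hle (Ideal.mem_map_of_mem f ha))
  have key : ∀ n, ∀ z ∈ (𝔪 S) ^ n, ∃ a ∈ (𝔪 R) ^ n, z - f a ∈ (𝔪 S) ^ (n + 1) := by
    intro n
    induction n with
    | zero =>
      intro z _
      obtain ⟨r, hr⟩ := hres z
      exact ⟨r, by simp, by simpa using hr⟩
    | succ n ih =>
      intro z hz
      rw [pow_succ] at hz
      induction hz using Submodule.mul_induction_on' with
      | mem_mul_mem x hx y hy =>
        obtain ⟨a, ha, ha'⟩ := ih x hx
        obtain ⟨b, hb, hb'⟩ := one y hy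
        refine ⟨a * b, by rw [pow_succ]; exact Ideal.mul_mem_mul ha hb, ?_⟩
        have e : x * y - f (a * b) = f a * (y - f b) + (x - f a) * y := by rw [map_mul]; ring
        rw [e]
        refine add_mem ?_ ?_
        · rw [show n + 1 + 1 = n + 2 from rfl, pow_add]
          exact Ideal.mul_mem_mul (hpow n a ha) hb'
        · rw [pow_succ _ (n + 1)]
          exact Ideal.mul_mem_mul ha' hy
      | add x _ y _ hx hy =>
        obtain ⟨a, ha, ha'⟩ := hx
        obtain ⟨b, hb, hb'⟩ := hy
        refine ⟨a + b, add_mem ha hb, ?_⟩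
        rw [map_add, add_sub_add_comm]
        exact add_mem ha' hb'
  intro s
  have step : ∀ n (r : R), s - f r ∈ (𝔪 S) ^ n → ∃ r' : R, s - f r' ∈ (𝔪 S) ^ (n + 1) ∧ r' - r ∈ (𝔪 R) ^ n := by
    intro n r hr
    obtain ⟨a, ha, ha'⟩ := key n _ hr
    exact ⟨r + a, by rwa [map_add, ← sub_sub], by rwa [add_sub_cancel_left]⟩
  let seq : ∀ n, {r : R // s - f r ∈ (𝔪 S) ^ n} := fun n =>
    Nat.rec ⟨0, by simp⟩ (fun n r => ⟨(step n r.1 r.2).choose, (step n r.1 r.2).choose_spec.1⟩) n
  have hstep : ∀ n, (seq (n + 1)).1 - (seq n).1 ∈ (𝔪 R) ^ n := fun n =>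
    (step n (seq n).1 (seq n).2).choose_spec.2
  obtain ⟨L, hL⟩ := IsPrecomplete.prec' (I := 𝔪 R) (M := R) (fun n => (seq n).1) (fun {m n} hmn => by
    rw [SModEq.sub_mem, smul_eq_mul, Ideal.mul_top]
    induction n, hmn using Nat.le_induction with
    | base => rw [sub_self]; exact zero_mem _
    | succ n hmn ih =>
      have := sub_mem ih (Ideal.pow_le_pow_right hmn (hstep n))
      rwa [show (seq m).1 - (seq n).1 - ((seq (n + 1)).1 - (seq n).1) = (seq m).1 - (seq (n + 1)).1 by ring] at this)
  refine ⟨L, (sub_eq_zero.1 (IsHausdorff.haus' (I := 𝔪 S) _ fun n => ?_)).symm⟩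
  rw [SModEq.sub_mem, sub_zero, smul_eq_mul, Ideal.mul_top]
  have h1 := hL n
  rw [SModEq.sub_mem, smul_eq_mul, Ideal.mul_top] at h1
  have := add_mem (seq n).2 (hpow n _ h1)
  rwa [map_sub, show s - f (seq n).1 + (f (seq n).1 - f L) = s - f L by ring] at this

end Surjective

section Derivation

variable {Λ : Type u} {k : Type u} [CommRing Λ] [Field k] [Algebra Λ k]
variable {R S : Type u} [CommRing R] [Algebra Λ R] [CommRing S] [Algebra Λ S] [IsLocalRing R] [IsLocalRing S]
variable [Algebra S k] [IsScalarTower Λ S k]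

lemma mem_maximalIdeal_iff_algebraMap (hres : Function.Surjective (algebraMap S k)) (s : S) :
    s ∈ 𝔪 S ↔ algebraMap S k s = 0 := by
  rw [← RingHom.mem_ker, IsLocalRing.eq_maximalIdeal (RingHom.ker_isMaximal_of_surjective _ hres)]

/-- Derivations into `k` separate maps which are not surjective on cotangent spaces. -/
theorem map_maximalIdeal_sup_eq_of_derivation (hres : Function.Surjective (algebraMap S k))
    (f : R →ₐ[Λ] S) (hf : Function.Surjective fun r => algebraMap S k (f r))
    (hinj : ∀ D : Derivation Λ S k, (∀ r, D (f r) = 0) → D = 0) [IsNoetherianRing S] :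
    (𝔪 R).map f ⊔ (𝔪 S) ^ 2 = 𝔪 S := by
  classical
  have hker := mem_maximalIdeal_iff_algebraMap hres
  choose σ hσ using hf
  replace hσ : ∀ c, algebraMap S k (f (σ c)) = c := hσ
  have hmR : ∀ a, a ∈ 𝔪 R → algebraMap S k (f a) = 0 := by
    intro a ha
    have hmax : (RingHom.ker ((algebraMap S k).comp f.toRingHom)).IsMaximal :=
      RingHom.ker_isMaximal_of_surjective _ fun c => ⟨σ c, hσ c⟩
    exact (IsLocalRing.eq_maximalIdeal hmax).ge ha
  have hmR' : ∀ a, algebraMap S k (f a) = 0 → a ∈ 𝔪 R := by
    intro a ha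
    have hmax : (RingHom.ker ((algebraMap S k).comp f.toRingHom)).IsMaximal :=
      RingHom.ker_isMaximal_of_surjective _ fun c => ⟨σ c, hσ c⟩
    exact (IsLocalRing.eq_maximalIdeal hmax).le ha
  set J := (𝔪 R).map f ⊔ (𝔪 S) ^ 2 with hJdef
  have hJm : J ≤ 𝔪 S := sup_le (Ideal.map_le_iff_le_comap.2 fun a ha => (hker _).2 (hmR a ha))
    (Ideal.pow_le_self (by decide))
  by_contra hne
  obtain ⟨M, ⟨hJM, hMm⟩, hmax⟩ := (wellFounded_gt : WellFounded ((· > ·) : Ideal S → Ideal S → Prop)).has_min
    {M | J ≤ M ∧ M < 𝔪 S} ⟨J, le_rfl, lt_of_le_of_ne hJm hne⟩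
  obtain ⟨z, hz, hzM⟩ := SetLike.exists_of_lt hMm
  have hgen : M ⊔ Ideal.span {z} = 𝔪 S := by
    by_contra h
    refine hmax (M ⊔ Ideal.span {z}) ⟨hJM.trans le_sup_left,
      lt_of_le_of_ne (sup_le hMm.le ((Ideal.span_singleton_le_iff_mem (𝔪 S)).2 hz)) h⟩
      (lt_of_le_of_ne le_sup_left fun e => hzM (e.ge ((le_sup_right : Ideal.span {z} ≤ M ⊔ _) (Ideal.mem_span_singleton_self z))))
  have coef : ∀ m ∈ 𝔪 S, ∃ a : S, m - a * z ∈ M := by
    intro m hm
    rw [← hgen] at hm
    obtain ⟨j, hj, c, hc, rfl⟩ := Submodule.mem_sup.1 hm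
    obtain ⟨a, rfl⟩ := Ideal.mem_span_singleton'.1 hc
    exact ⟨a, by rwa [add_sub_cancel_right]⟩
  have uniq : ∀ a b m : S, m - a * z ∈ M → m - b * z ∈ M → algebraMap S k a = algebraMap S k b := by
    intro a b m ha hb
    by_contra hab
    refine hzM ?_
    have h1 : (b - a) * z ∈ M := by
      have := sub_mem ha hb
      rwa [show m - a * z - (m - b * z) = (b - a) * z by ring] at this
    have hu : IsUnit (b - a) := IsLocalRing.notMem_maximalIdeal.1 fun h => hab ((sub_eq_zero.1 (by rw [← map_sub]; exact (hker _).1 h))).symm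
    exact (Ideal.unit_mul_mem_iff_mem M hu).1 h1
  have hd : ∀ s, ∃ a : S, s - f (σ (algebraMap S k s)) - a * z ∈ M := fun s =>
    coef _ ((hker _).2 (by rw [map_sub, hσ, sub_self]))
  choose A hA using hd
  have hfM : ∀ a, algebraMap S k (f a) = 0 → f a ∈ M := fun a ha =>
    hJM ((le_sup_left : (𝔪 R).map f ≤ J) (Ideal.mem_map_of_mem f (hmR' a ha)))
  have hdiff : ∀ a b : R, algebraMap S k (f a) = algebraMap S k (f b) → f a - f b ∈ M := fun a b h => by
    rw [← map_sub]
    exact hfM _ (by rw [map_sub, map_sub, h, sub_self])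
  have hsq : ∀ x y : S, x ∈ 𝔪 S → y ∈ 𝔪 S → x * y ∈ M := fun x y hx hy =>
    hJM ((le_sup_right : (𝔪 S) ^ 2 ≤ J) (by rw [pow_two]; exact Ideal.mul_mem_mul hx hy))
  let d : S → k := fun s => algebraMap S k (A s)
  have hd : ∀ s a, s - f (σ (algebraMap S k s)) - a * z ∈ M → d s = algebraMap S k a := fun s a h =>
    uniq _ _ _ (hA s) h
  let D : Derivation Λ S k := Derivation.mk'
    { toFun := d
      map_add' := fun x y => by
        rw [hd (x + y) (A x + A y), map_add]
        have h1 := add_mem (add_mem (hA x) (hA y))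
          (hdiff (σ (algebraMap S k x) + σ (algebraMap S k y)) (σ (algebraMap S k (x + y)))
            (by rw [map_add, map_add, hσ, hσ, hσ, map_add]))
        rwa [map_add, show x - f (σ (algebraMap S k x)) - A x * z + (y - f (σ (algebraMap S k y)) - A y * z) +
          (f (σ (algebraMap S k x)) + f (σ (algebraMap S k y)) - f (σ (algebraMap S k (x + y)))) =
          x + y - f (σ (algebraMap S k (x + y))) - (A x + A y) * z by ring] at h1
      map_smul' := fun r x => by
        rw [hd (r • x) (r • A x), RingHom.id_apply]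
        · simp [d, Algebra.smul_def, ← IsScalarTower.algebraMap_apply]
        have h1 := add_mem (Ideal.mul_mem_left M (algebraMap Λ S r) (hA x))
          (hdiff (r • σ (algebraMap S k x)) (σ (algebraMap S k (r • x)))
            (by rw [map_smul, hσ, Algebra.smul_def, Algebra.smul_def, map_mul, map_mul, hσ]))
        rwa [map_smul, Algebra.smul_def r (f _), show algebraMap Λ S r * (x - f (σ (algebraMap S k x)) - A x * z) +
          (algebraMap Λ S r * f (σ (algebraMap S k x)) - f (σ (algebraMap S k (r • x)))) =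
          r • x - f (σ (algebraMap S k (r • x))) - (r • A x) * z by rw [Algebra.smul_def, Algebra.smul_def]; ring] at h1 }
    fun x y => by
      change d (x * y) = x • d y + y • d x
      rw [Algebra.smul_def, Algebra.smul_def]
      simp only [d]
      rw [← map_mul, ← map_mul, ← map_add]
      refine hd _ _ ?_
      have h1 := add_mem (add_mem (Ideal.mul_mem_left M x (hA y)) (Ideal.mul_mem_left M y (hA x)))
        (add_mem (hdiff (σ (algebraMap S k x) * σ (algebraMap S k y)) (σ (algebraMap S k (x * y)))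
          (by rw [map_mul, map_mul, hσ, hσ, hσ, map_mul]))
          (neg_mem (hsq (x - f (σ (algebraMap S k x))) (y - f (σ (algebraMap S k y)))
            ((hker _).2 (by rw [map_sub, hσ, sub_self])) ((hker _).2 (by rw [map_sub, hσ, sub_self])))))
      rwa [map_mul, show x * (y - f (σ (algebraMap S k y)) - A y * z) + y * (x - f (σ (algebraMap S k x)) - A x * z) +
        (f (σ (algebraMap S k x)) * f (σ (algebraMap S k y)) - f (σ (algebraMap S k (x * y))) +
          -((x - f (σ (algebraMap S k x))) * (y - f (σ (algebraMap S k y))))) =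
        x * y - f (σ (algebraMap S k (x * y))) - (x * A y + y * A x) * z by ring] at h1
  have hD : D = 0 := hinj D fun r => by
    refine (hd _ 0 ?_).trans (map_zero _)
    rw [zero_mul, sub_zero]
    exact hdiff _ _ (by rw [hσ])
  have h1 : d z = 1 := by
    refine (hd z 1 ?_).trans (map_one _)
    rw [one_mul, show z - f (σ (algebraMap S k z)) - z = -f (σ (algebraMap S k z)) by ring]
    exact neg_mem (hfM _ (by rw [hσ]; exact (hker z).1 hz))
  exact one_ne_zero (h1.symm.trans (DFunLike.congr_fun hD z))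

/-- The space of derivations into the residue field is finite-dimensional. -/
theorem finite_derivation [Module.Finite Λ k] [IsNoetherianRing S] (hres : Function.Surjective (algebraMap S k)) :
    Module.Finite k (Derivation Λ S k) := by
  classical
  obtain ⟨s, hs⟩ := (inferInstance : Module.Finite Λ k).fg_top
  obtain ⟨m, hm⟩ := IsNoetherian.noetherian (𝔪 S)
  have hker := mem_maximalIdeal_iff_algebraMap hres
  choose c hc using hres
  let L : Derivation Λ S k →ₗ[k] ((↥s ⊕ ↥m) → k) :=
    { toFun := fun D i => D (Sum.elim (fun a => c a.1) (fun a => a.1) i)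
      map_add' := fun _ _ => rfl
      map_smul' := fun _ _ => rfl }
  refine Module.Finite.of_injective L ((injective_iff_map_eq_zero L).2 fun D hD => ?_)
  have hgen : ∀ i, D (Sum.elim (fun a : ↥s => c a.1) (fun a : ↥m => a.1) i) = 0 := congrFun hD
  have hM : ∀ x ∈ 𝔪 S, D x = 0 := by
    intro x hx
    rw [← hm] at hx
    induction hx using Submodule.span_induction with
    | mem x hx => exact hgen (Sum.inr ⟨x, hx⟩)
    | zero => rw [map_zero]
    | add x y _ _ h1 h2 => rw [map_add, h1, h2, add_zero]
    | smul a x hx h1 =>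
      have hx0 : algebraMap S k x = 0 := (hker x).1 (by rw [← hm]; exact hx)
      rw [smul_eq_mul, D.leibniz, h1, smul_zero, zero_add, Algebra.smul_def, hx0, zero_mul]
  refine Derivation.ext fun x => ?_
  obtain ⟨l, t, ht, -, hsum⟩ := Submodule.mem_span_iff_exists_finset_subset.1
    (show algebraMap S k x ∈ Submodule.span Λ (s : Set k) by rw [hs]; exact Submodule.mem_top)
  have hd : x - ∑ a ∈ t, l a • c a ∈ 𝔪 S := by
    rw [hker, map_sub, map_sum, sub_eq_zero, ← hsum]
    exact Finset.sum_congr rfl fun a _ => by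
      rw [Algebra.smul_def, Algebra.smul_def, map_mul, hc, ← IsScalarTower.algebraMap_apply]
  have h' := hM _ hd
  rw [map_sub, sub_eq_zero, map_sum, Finset.sum_eq_zero] at h'
  · exact h'
  · intro a ha
    rw [D.map_smul, show D (c a) = 0 from hgen (Sum.inl ⟨a, ht ha⟩), smul_zero]

end Derivation

section CRing

variable {Λ : Type u} {k : Type u} [CommRing Λ] [Field k] [Algebra Λ k] {R S : CRing Λ k}

lemma res_comp_apply' (f : R.carrier →ₐ[Λ] S.carrier) (hf : S.res.comp f = R.res) (r : R.carrier) :
    S.res (f r) = R.res r := by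
  rw [← hf]; rfl

lemma exists_sub_mem (f : R.carrier →ₐ[Λ] S.carrier) (hf : S.res.comp f = R.res) (s : S.carrier) :
    ∃ r, s - f r ∈ 𝔪 S.carrier := by
  obtain ⟨r, hr⟩ := R.res_surjective (S.res s)
  exact ⟨r, (CRing.mem_maximalIdeal_iff S _).2 (by rw [map_sub, res_comp_apply' f hf, hr, sub_self])⟩

/-- A morphism of coefficient rings inducing an injection on tangent spaces is surjective. -/
theorem surjective_of_tangent_injective (f : R.carrier →ₐ[Λ] S.carrier) (hf : S.res.comp f = R.res)
    (h : ∀ φ ψ : HomSet S.carrier S.res (dual Λ k), φ.1.comp f = ψ.1.comp f → φ = ψ) :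
    Function.Surjective f := by
  letI : Algebra S.carrier k := S.res.toRingHom.toAlgebra
  haveI : IsScalarTower Λ S.carrier k := IsScalarTower.of_algebraMap_eq fun r => (S.res.commutes r).symm
  refine surjective_of_map_maximalIdeal f.toRingHom (exists_sub_mem f hf) ?_
  refine map_maximalIdeal_sup_eq_of_derivation (k := k) S.res_surjective f ?_ fun D hD => ?_
  · exact fun c => (R.res_surjective c).imp fun r hr => (res_comp_apply' f hf r).trans hr
  · let mkφ : Derivation Λ S.carrier k → HomSet S.carrier S.res (dual Λ k) := fun D =>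
      ⟨{ toFun := fun s => ((S.res s, D s) : DualNumber k)
         map_one' := TrivSqZeroExt.ext (map_one S.res) (D.map_one_eq_zero)
         map_mul' := fun x y => by
           refine TrivSqZeroExt.ext (map_mul S.res x y) ?_
           change D (x * y) = _
           rw [D.leibniz]
           refine Eq.trans ?_ (TrivSqZeroExt.snd_mul (R := k) (M := k) _ _).symm
           change S.res x * D y + S.res y * D x = S.res x * D y + D x * S.res y
           ring
         map_zero' := TrivSqZeroExt.ext (map_zero S.res) (map_zero D)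
         map_add' := fun x y => TrivSqZeroExt.ext (map_add S.res x y) (map_add D x y)
         commutes' := fun r => TrivSqZeroExt.ext (S.res.commutes r) (D.map_algebraMap r) },
       AlgHom.ext fun _ => rfl⟩
    have := h (mkφ D) (mkφ 0) (AlgHom.ext fun r => TrivSqZeroExt.ext rfl (hD r))
    exact Derivation.ext fun s => congrArg (fun t : HomSet S.carrier S.res (dual Λ k) =>
      TrivSqZeroExt.snd (t.1 s)) this

theorem bijective_of_surjective_endo {A : Type u} [CommRing A] [IsNoetherianRing A] (g : A →+* A)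
    (hg : Function.Surjective g) : Function.Bijective g := by
  let it : ℕ → (A →+* A) := fun n => Nat.rec (RingHom.id A) (fun _ h => g.comp h) n
  have hit : ∀ n, Function.Surjective (it n) := fun n => Nat.rec (fun x => ⟨x, rfl⟩) (fun n ih => hg.comp ih) n
  have hmono : Monotone fun n => RingHom.ker (it n) := monotone_nat_of_le_succ fun n x hx => by
    change g (it n x) = 0
    rw [show it n x = 0 from hx, map_zero]
  obtain ⟨n, hn⟩ := monotone_stabilizes_iff_noetherian.2 (inferInstance : IsNoetherian A A) ⟨_, hmono⟩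
  refine ⟨(injective_iff_map_eq_zero g).2 fun x hx => ?_, hg⟩
  obtain ⟨y, rfl⟩ := hit n x
  exact (hn (n + 1) (Nat.le_succ n)).ge hx

end CRing

end Groth.ArtfunDeform
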