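import Groth.Agent.ArtfunDeform.ObsPres
import Groth.Agent.FlatMor2.Deform
import Mathlib.RingTheory.Flat.EquationalCriterion
import Mathlib.LinearAlgebra.Matrix.ToLin

/-!
Endomorphisms of deformations of a module with scalar endomorphisms.
-/

set_option linter.style.haveILetI false
set_option linter.style.longLine false
set_option linter.unusedSectionVars false

noncomputable section

universe u v w w'

namespace Groth.ArtfunDeform

local notation "𝔪" => IsLocalRing.maximalIdeal

open ArtFun

variable {K : Type u} [Field K] (R : Art K K)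
variable {D : Type v} [Ring D] [Algebra K D]
variable {E : Type w} [AddCommGroup E] [Module K E] [Module D E] [IsScalarTower K D E]
variable {F : Type w'} [AddCommGroup F] [Module R F] [Module D F] [SMulCommClass R D F] [Module.Flat R F]
variable (θ : F →ₗ[D] E)

/-- A flat deformation is free, on any lift of a basis. -/
theorem exists_basis_lifting (hθ : ∀ (r : R) (x : F), θ (r • x) = R.res r • θ x)
    (hsurj : Function.Surjective θ)
    (hker : ∀ x : F, θ x = 0 ↔ x ∈ 𝔪 R • (⊤ : Submodule R F)) {ι : Type w} (e : Module.Basis ι K E) :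
    ∃ b : Module.Basis ι R F, ∀ i, θ (b i) = e i := by
  classical
  choose x hx using fun i => hsurj (e i)
  have hsum : ∀ (s : Finset ι) (c : ι → R), θ (∑ i ∈ s, c i • x i) = ∑ i ∈ s, R.res (c i) • e i := fun s c => by
    rw [map_sum]
    exact Finset.sum_congr rfl fun i _ => by rw [hθ, hx]
  have hli : LinearIndependent R x := by
    rw [linearIndependent_iff']
    intro s f hf i hi
    rw [← Finset.sum_coe_sort] at hf
    obtain ⟨l, a, y, hay, hfa⟩ := Module.Flat.isTrivialRelation_of_sum_smul_eq_zero hf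
    let A : Matrix s (Fin l) K := fun i j => R.res (a i j)
    have hinj : Function.Injective (Matrix.vecMulLinear A) := by
      rw [injective_iff_map_eq_zero]
      intro c hc
      have h0 : ∑ i : s, c i • e i = 0 := by
        calc ∑ i : s, c i • e i = ∑ i : s, ∑ j, (c i * A i j) • θ (y j) := by
              refine Finset.sum_congr rfl fun i _ => ?_
              rw [← hx, show x i = ∑ j, a i j • y j from hay i, map_sum, Finset.smul_sum]
              exact Finset.sum_congr rfl fun j _ => by rw [hθ, smul_smul]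
          _ = ∑ j, (Matrix.vecMulLinear A c j) • θ (y j) := by
              rw [Finset.sum_comm]
              exact Finset.sum_congr rfl fun j _ => (Finset.sum_smul).symm
          _ = 0 := by simp [hc]
      have := e.linearIndependent.comp (Subtype.val : s → ι) Subtype.val_injective
      rw [Fintype.linearIndependent_iff] at this
      exact funext (this c h0)
    obtain ⟨g, hg⟩ := (Matrix.vecMulLinear A).exists_leftInverse_of_injective (LinearMap.ker_eq_bot.2 hinj)
    have hg' : ∀ i i' : s, ∑ j, A i j * g (Pi.single j 1) i' = if i = i' then 1 else 0 := fun i i' => by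
      have h1 : g (Matrix.vecMulLinear A (Pi.single i 1)) = Pi.single i 1 := congrArg (fun t => t (Pi.single i 1)) hg
      rw [show Matrix.vecMulLinear A (Pi.single i 1) = fun j => A i j from funext fun j => by
        simp [Matrix.vecMulLinear, Matrix.single_one_vecMul]] at h1
      rw [← Finset.univ_sum_single (fun j => A i j), map_sum] at h1
      have h2 := congrFun h1 i'
      rw [Finset.sum_apply, Pi.single_apply] at h2
      refine Eq.trans ?_ (h2.trans (if_congr eq_comm rfl rfl))
      refine Finset.sum_congr rfl fun j _ => ?_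
      rw [show Pi.single j (A i j) = A i j • Pi.single j (1 : K) by simp [← Pi.single_smul'], map_smul,
        Pi.smul_apply, smul_eq_mul]
    choose B hB using fun (j : Fin l) (i' : s) => R.res_surjective (g (Pi.single j 1) i')
    let I : Ideal R := Ideal.span (Set.range fun i : s => f i)
    have hfI : ∀ i' : s, f i' ∈ 𝔪 R • I := fun i' => by
      have heq : f i' = ∑ i : s, ((if i = i' then 1 else 0) - ∑ j, a i j * B j i') * f i := by
        simp only [sub_mul, ite_mul, one_mul, zero_mul, Finset.sum_sub_distrib, Finset.sum_ite_eq', Finset.mem_univ,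
          if_true, Finset.sum_mul]
        rw [Finset.sum_comm, Finset.sum_eq_zero, sub_zero]
        intro j _
        calc ∑ i : s, a i j * B j i' * f i = (∑ i : s, f i * a i j) * B j i' := by
              rw [Finset.sum_mul]
              exact Finset.sum_congr rfl fun i _ => by ring
          _ = 0 := by rw [hfa j, zero_mul]
      rw [heq]
      refine Ideal.sum_mem _ fun i _ => ?_
      rw [smul_eq_mul]
      refine Ideal.mul_mem_mul ?_ (Ideal.subset_span ⟨i, rfl⟩)
      rw [Art.mem_maximalIdeal_iff, map_sub, map_sum, sub_eq_zero]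
      refine Eq.trans ?_ ((hg' i i').symm.trans (Finset.sum_congr rfl fun j _ => by rw [map_mul, hB]))
      split <;> simp
    have hI : I ≤ 𝔪 R • I := Ideal.span_le.2 (Set.range_subset_iff.2 hfI)
    have hI0 : I = ⊥ := Submodule.eq_bot_of_le_smul_of_le_jacobson_bot (𝔪 R) I (IsNoetherian.noetherian I) hI
      (IsLocalRing.maximalIdeal_le_jacobson ⊥)
    have hf0 : f i ∈ I := Ideal.subset_span ⟨⟨i, hi⟩, rfl⟩
    rwa [hI0, Ideal.mem_bot] at hf0
  refine ⟨Module.Basis.mk hli ?_, fun i => by rw [Module.Basis.mk_apply, hx]⟩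
  refine Groth.FlatMor2.le_of_le_sup_smul_of_isNilpotent (isNilpotent_maximalIdeal R) fun y _ => ?_
  have hr := e.mem_span (θ y)
  rw [Finsupp.mem_span_range_iff_exists_finsupp] at hr
  obtain ⟨c, hc⟩ := hr
  choose c' hc' using R.res_surjective
  refine Submodule.mem_sup.2 ⟨∑ i ∈ c.support, c' (c i) • x i,
    Submodule.sum_mem _ fun i _ => Submodule.smul_mem _ _ (Submodule.subset_span ⟨i, rfl⟩),
    y - ∑ i ∈ c.support, c' (c i) • x i, ?_, add_sub_cancel _ _⟩
  rw [← hker, map_sub, hsum, ← hc, sub_eq_zero]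
  exact Finset.sum_congr rfl fun i _ => by rw [hc']

/-- Ideal multiples in coordinates. -/
theorem mem_smul_top_iff_coord {ι : Type w} (b : Module.Basis ι R F) (I : Ideal R) (y : F) :
    y ∈ I • (⊤ : Submodule R F) ↔ ∀ i, b.repr y i ∈ I := by
  constructor
  · intro hy i
    induction hy using Submodule.smul_induction_on' with
    | smul a ha z _ =>
      rw [map_smul, Finsupp.smul_apply, smul_eq_mul]
      exact Ideal.mul_mem_right _ _ ha
    | add z _ z' _ hz hz' => rw [map_add, Finsupp.add_apply]; exact add_mem hz hz'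
  · intro h
    rw [← b.linearCombination_repr y, Finsupp.linearCombination_apply]
    exact Submodule.sum_mem _ fun i _ => Submodule.smul_mem_smul (h i) trivial

/-- The map `I F → E` attached to a functional on `I`. -/
theorem exists_coordMap {ι : Type w} (e : Module.Basis ι K E) (b : Module.Basis ι R F) (hb : ∀ i, θ (b i) = e i)
    (hθ : ∀ (r : R) (x : F), θ (r • x) = R.res r • θ x) (I : Ideal R) (l : ↥I →+ K)
    (hl : ∀ (c : R) (a : ↥I), l (c • a) = R.res c * l a) :
    ∃ Λ : F → E,
      (∀ y ∈ I • (⊤ : Submodule R F), ∀ y' ∈ I • (⊤ : Submodule R F), Λ (y + y') = Λ y + Λ y') ∧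
      (∀ (a : ↥I) (z : F), Λ ((a : R) • z) = l a • θ z) ∧
      (∀ (d : D) (y : F), y ∈ I • (⊤ : Submodule R F) →
        d • y ∈ I • (⊤ : Submodule R F) ∧ Λ (d • y) = d • Λ y) ∧
      ∀ (y : F), Λ y = 0 → ∀ i (h : b.repr y i ∈ I), l ⟨_, h⟩ = 0 := by
  classical
  let f : R → K := fun z => if h : z ∈ I then l ⟨z, h⟩ else 0
  have hf : ∀ a : ↥I, f a = l a := fun a => dif_pos a.2
  have hf0 : f 0 = 0 := (hf 0).trans (map_zero l)
  let Λ : F → E := fun y => Finsupp.linearCombination K e ((b.repr y).mapRange f hf0)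
  have hadd : ∀ y ∈ I • (⊤ : Submodule R F), ∀ y' ∈ I • (⊤ : Submodule R F), Λ (y + y') = Λ y + Λ y' := by
    intro y hy y' hy'
    change Finsupp.linearCombination K e ((b.repr (y + y')).mapRange f hf0) =
      Finsupp.linearCombination K e ((b.repr y).mapRange f hf0) + Finsupp.linearCombination K e ((b.repr y').mapRange f hf0)
    rw [← map_add]
    refine congrArg (Finsupp.linearCombination K e) (Finsupp.ext fun i => ?_)
    rw [Finsupp.add_apply, Finsupp.mapRange_apply, Finsupp.mapRange_apply, Finsupp.mapRange_apply, map_add,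
      Finsupp.add_apply, ← Subtype.coe_mk (b.repr y i) ((mem_smul_top_iff_coord R b I y).1 hy i),
      ← Subtype.coe_mk (b.repr y' i) ((mem_smul_top_iff_coord R b I y').1 hy' i), ← Submodule.coe_add,
      hf, hf, hf, map_add]
  have hsmul : ∀ (a : ↥I) (z : F), Λ ((a : R) • z) = l a • θ z := by
    intro a z
    have h1 : θ z = Finsupp.linearCombination K e ((b.repr z).mapRange R.res (map_zero _)) := by
      conv_lhs => rw [← b.linearCombination_repr z, Finsupp.linearCombination_apply, map_finsuppSum]
      rw [Finsupp.linearCombination_apply, Finsupp.sum_mapRange_index fun i => zero_smul _ (e i)]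
      exact Finset.sum_congr rfl fun i _ => (hθ _ _).trans (congrArg _ (hb i))
    rw [h1, ← map_smul]
    refine congrArg (Finsupp.linearCombination K e) (Finsupp.ext fun i => ?_)
    rw [Finsupp.mapRange_apply, map_smul, Finsupp.smul_apply, Finsupp.smul_apply, Finsupp.mapRange_apply, smul_eq_mul,
      mul_comm (a : R), ← smul_eq_mul, ← Submodule.coe_smul, hf, hl, smul_eq_mul, mul_comm]
  refine ⟨Λ, hadd, hsmul, fun d y hy => ?_, fun y h i hi => ?_⟩
  · induction hy using Submodule.smul_induction_on' with
    | smul a ha z _ =>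
      rw [← smul_comm a d z]
      refine ⟨Submodule.smul_mem_smul ha trivial, ?_⟩
      rw [hsmul ⟨a, ha⟩, hsmul ⟨a, ha⟩, map_smul, smul_comm]
    | add z hz z' hz' h h' =>
      rw [smul_add]
      exact ⟨add_mem h.1 h'.1, by rw [hadd _ h.1 _ h'.1, hadd _ hz _ hz', h.2, h'.2, smul_add]⟩
  · have h1 : (b.repr y).mapRange f hf0 = 0 := e.linearIndependent (by rw [map_zero]; exact h)
    have h2 := DFunLike.congr_fun h1 i
    rwa [Finsupp.mapRange_apply, Finsupp.zero_apply, ← Subtype.coe_mk _ hi, hf] at h2

/-- One step: endomorphisms with values in `I F` are scalars modulo `𝔪 I F`. -/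
theorem exists_scalar_step (hE : ∀ ψ : E →ₗ[D] E, ∃ c : K, ∀ y : E, ψ y = c • y)
    (hθ : ∀ (r : R) (x : F), θ (r • x) = R.res r • θ x) (hsurj : Function.Surjective θ)
    (hker : ∀ x : F, θ x = 0 ↔ x ∈ 𝔪 R • (⊤ : Submodule R F))
    {ι : Type w} (e : Module.Basis ι K E) (b : Module.Basis ι R F) (hb : ∀ i, θ (b i) = e i)
    (I : Ideal R) (ψ : F →ₗ[R] F) (hψD : ∀ (d : D) x, ψ (d • x) = d • ψ x)
    (hψ : ∀ x, ψ x ∈ I • (⊤ : Submodule R F)) :
    ∃ a ∈ I, ∀ x, ψ x - a • x ∈ (𝔪 R * I) • (⊤ : Submodule R F) := by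
  classical
  let W : Submodule R ↥I := 𝔪 R • ⊤
  haveI : Module.Finite K (↥I ⧸ W) := finite_quot_smul R.res I
  let q := Module.finBasis K (↥I ⧸ W)
  have hred : ∀ (c : R) (a : ↥I), Submodule.Quotient.mk (p := W) (c • a) = R.res c • Submodule.Quotient.mk (p := W) a := by
    intro c a
    rw [← Submodule.Quotient.mk_smul, Submodule.Quotient.eq, ← algebraMap_smul R (R.res c) a, ← sub_smul]
    refine Submodule.smul_mem_smul ?_ trivial
    rw [Art.mem_maximalIdeal_iff, map_sub, AlgHom.commutes]
    exact sub_self _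
  let l : Fin (Module.finrank K (↥I ⧸ W)) → (↥I →+ K) := fun j =>
    { toFun := fun a => q.coord j (Submodule.Quotient.mk a)
      map_zero' := by rw [Submodule.Quotient.mk_zero, map_zero]
      map_add' := fun a a' => by rw [Submodule.Quotient.mk_add, map_add] }
  choose Λ hadd hsmul hD hcoord using fun j => exists_coordMap R θ e b hb hθ I (l j) fun c a => by
    change q.coord j (Submodule.Quotient.mk (c • a)) = R.res c * q.coord j _
    rw [hred, map_smul, smul_eq_mul]
  have hkill : ∀ j x, x ∈ 𝔪 R • (⊤ : Submodule R F) → Λ j (ψ x) = 0 := by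
    intro j x hx
    induction hx using Submodule.smul_induction_on' with
    | smul a ha z _ =>
      rw [map_smul]
      have key : ∀ y ∈ I • (⊤ : Submodule R F), a • y ∈ I • (⊤ : Submodule R F) ∧ Λ j (a • y) = 0 := by
        intro y hy
        induction hy using Submodule.smul_induction_on' with
        | smul c hc t _ =>
          rw [smul_smul]
          refine ⟨Submodule.smul_mem_smul (Ideal.mul_mem_left _ _ hc) trivial, ?_⟩
          refine (hsmul j (a • ⟨c, hc⟩) t).trans ?_
          change q.coord j (Submodule.Quotient.mk (a • ⟨c, hc⟩)) • θ t = 0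
          rw [hred, (R.mem_maximalIdeal_iff a).1 ha, zero_smul, map_zero, zero_smul]
        | add t _ t' _ h h' =>
          rw [smul_add]
          exact ⟨add_mem h.1 h'.1, by rw [hadd j _ h.1 _ h'.1, h.2, h'.2, add_zero]⟩
      exact (key _ (hψ z)).2
    | add z _ z' _ h h' => rw [map_add, hadd j _ (hψ z) _ (hψ z'), h, h', add_zero]
  have hfac : ∀ j x x', θ x = θ x' → Λ j (ψ x) = Λ j (ψ x') := fun j x x' h => by
    have h1 := hkill j (x - x') ((hker _).1 (by rw [map_sub, h, sub_self]))
    have h2 := hadd j _ (hψ (x - x')) _ (hψ x')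
    rwa [← map_add, sub_add_cancel, h1, zero_add] at h2
  choose sec hsec using hsurj
  have hlin : ∀ j, ∃ c : K, ∀ x, Λ j (ψ x) = c • θ x := fun j => by
    let G : E →ₗ[D] E :=
      { toFun := fun y => Λ j (ψ (sec y))
        map_add' := fun y y' => by
          rw [hfac j (sec (y + y')) (sec y + sec y') (by rw [map_add, hsec, hsec, hsec]), map_add]
          exact hadd j _ (hψ _) _ (hψ _)
        map_smul' := fun d y => by
          rw [hfac j (sec (d • y)) (d • sec y) (by rw [map_smul, hsec, hsec]), hψD]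
          exact (hD j d _ (hψ _)).2 }
    obtain ⟨c, hc⟩ := hE G
    refine ⟨c, fun x => ?_⟩
    rw [← hc, hfac j x (sec (θ x)) (hsec _).symm]
    rfl
  choose c hc using hlin
  obtain ⟨a, ha⟩ := Submodule.Quotient.mk_surjective W (∑ j, c j • q j)
  have hla : ∀ j, l j a = c j := fun j => by
    change q.coord j (Submodule.Quotient.mk a) = c j
    rw [ha, Module.Basis.coord_apply, q.repr_sum_self]
  refine ⟨a, a.2, fun x => ?_⟩
  have hax : (a : R) • x ∈ I • (⊤ : Submodule R F) := Submodule.smul_mem_smul a.2 trivial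
  have hyI : ψ x - (a : R) • x ∈ I • (⊤ : Submodule R F) := sub_mem (hψ x) hax
  rw [mem_smul_top_iff_coord R b]
  intro i
  have hi := (mem_smul_top_iff_coord R b I _).1 hyI i
  have hΛ : ∀ j, Λ j (ψ x - (a : R) • x) = 0 := fun j => by
    have h1 := hadd j _ hyI _ hax
    rw [sub_add_cancel, hc, hsmul, hla] at h1
    exact add_eq_right.1 h1.symm
  have hW : (⟨_, hi⟩ : ↥I) ∈ W := by
    rw [← Submodule.Quotient.mk_eq_zero]
    exact q.forall_coord_eq_zero_iff.1 fun j => hcoord j _ (hΛ j) i hi
  have key : ∀ z : ↥I, z ∈ W → (z : R) ∈ 𝔪 R * I := fun z hz => by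
    induction hz using Submodule.smul_induction_on' with
    | smul c hc w _ => exact Ideal.mul_mem_mul hc w.2
    | add w _ w' _ h h' => exact add_mem h h'
  exact key _ hW

/-- Endomorphisms of a deformation are scalars. -/
theorem existsUnique_smul_eq [Nontrivial E] (hE : ∀ ψ : E →ₗ[D] E, ∃ c : K, ∀ y : E, ψ y = c • y)
    (hθ : ∀ (r : R) (x : F), θ (r • x) = R.res r • θ x) (hsurj : Function.Surjective θ)
    (hker : ∀ x : F, θ x = 0 ↔ x ∈ 𝔪 R • (⊤ : Submodule R F))
    (φ : F →ₗ[R] F) (hφ : ∀ (d : D) (x : F), φ (d • x) = d • φ x) :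
    ∃! r : R, ∀ x : F, φ x = r • x := by
  let e := Module.Free.chooseBasis K E
  obtain ⟨b, hb⟩ := exists_basis_lifting R θ hθ hsurj hker e
  obtain ⟨n, hn⟩ := isNilpotent_maximalIdeal R
  have main : ∀ m : ℕ, ∃ r : R, ∀ x, φ x - r • x ∈ 𝔪 R ^ m • (⊤ : Submodule R F) := by
    intro m
    induction m with
    | zero => exact ⟨0, fun x => by simp⟩
    | succ m ih =>
      obtain ⟨r, hr⟩ := ih
      obtain ⟨a, -, ha⟩ := exists_scalar_step R θ hE hθ hsurj hker e b hb (𝔪 R ^ m) (φ - r • LinearMap.id)
        (fun d x => by simp [hφ, smul_sub, smul_comm]) hr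
      refine ⟨r + a, fun x => ?_⟩
      have := ha x
      rwa [LinearMap.sub_apply, LinearMap.smul_apply, LinearMap.id_apply, ← pow_succ', sub_sub, ← add_smul] at this
  obtain ⟨r, hr⟩ := main n
  have hr' : ∀ x, φ x = r • x := fun x => by
    have := hr x
    rwa [hn, Ideal.zero_eq_bot, Submodule.bot_smul, Submodule.mem_bot, sub_eq_zero] at this
  refine ⟨r, hr', fun r' h' => ?_⟩
  obtain ⟨i⟩ : Nonempty _ := e.index_nonempty
  have := congrArg (fun z => b.repr z i) ((h' (b i)).symm.trans (hr' (b i)))
  simpa using this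

end Groth.ArtfunDeform
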