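import Groth.Agent.ArtfunDeform.ArtBasic
import Groth.Agent.ArtfunDeform.Cotangent
import Mathlib.RingTheory.Derivation.Basic

/-!
Essential surjections of Artinian algebras: the criterion by derivations into the residue field.
-/

set_option linter.style.haveILetI false
set_option linter.style.longLine false
set_option linter.unusedSectionVars false

universe u

open CategoryTheory

namespace Groth.ArtfunDeform.EssSurj

open ArtFun ArtFun.Art Groth.ArtfunDeform

local notation "𝔪" => IsLocalRing.maximalIdeal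

variable {Λ : Type u} {k : Type u} [CommRing Λ] [Field k] [Algebra Λ k]

/-- `f` is an essential surjection. -/
def IsEssSurj {A B : Art Λ k} (f : B ⟶ A) : Prop :=
  Function.Surjective f ∧ ∀ (C : Art Λ k) (g : C ⟶ B), Function.Surjective (g ≫ f) → Function.Surjective g

/-- The augmentation as an algebra. -/
@[reducible] def resAlg (B : Art Λ k) : Algebra B k := B.res.toRingHom.toAlgebra

lemma isScalarTower_resAlg (B : Art Λ k) : letI := resAlg B; IsScalarTower Λ B k :=
  letI := resAlg B
  IsScalarTower.of_algebraMap_eq fun r => (B.res.commutes r).symm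

/-- Derivations into the residue field kill the kernel of `f`. -/
def KillsKer {A B : Art Λ k} (f : B ⟶ A) : Prop :=
  letI := resAlg B
  ∀ D : Derivation Λ B k, ∀ x : B, f x = 0 → D x = 0

/-- `m_Λ A + m_A²`. -/
def MM (A : Art Λ k) : Ideal A :=
  Ideal.map (algebraMap Λ A) (RingHom.ker (algebraMap Λ k)) ⊔ 𝔪 A ^ 2

lemma MM_le (A : Art Λ k) : MM A ≤ 𝔪 A := by
  refine sup_le (Ideal.map_le_iff_le_comap.2 fun r hr => ?_) (Ideal.pow_le_self two_ne_zero)
  rw [Ideal.mem_comap, mem_maximalIdeal_iff, AlgHom.commutes]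
  exact hr

lemma map_MM_le {A B : Art Λ k} (g : B ⟶ A) : (MM B).map g.toAlgHom ≤ MM A := by
  rw [MM, Ideal.map_sup, Ideal.map_pow]
  refine sup_le_sup (le_of_eq ?_) (Ideal.pow_right_mono (map_maximalIdeal_le g) 2)
  change Ideal.map g.toAlgHom.toRingHom _ = _
  rw [Ideal.map_map]
  congr 1
  exact RingHom.ext fun r => g.toAlgHom.commutes r

lemma algMap_le_map {A B : Art Λ k} (g : B ⟶ A) :
    Ideal.map (algebraMap Λ A) (RingHom.ker (algebraMap Λ k)) ≤ (𝔪 B).map g.toAlgHom := by
  refine le_trans (le_of_eq ?_) (Ideal.map_mono ((le_sup_left : _ ≤ MM B).trans (MM_le B)))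
  change _ = Ideal.map g.toAlgHom.toRingHom _
  rw [Ideal.map_map]
  congr 1
  exact RingHom.ext fun r => (g.toAlgHom.commutes r).symm

/-- Nakayama modulo `m_Λ + m²`. -/
lemma surjective_of_le_MM {A B : Art Λ k} (g : B ⟶ A)
    (h : ∀ a ∈ 𝔪 A, ∃ b ∈ 𝔪 B, a - g b ∈ MM A) : Function.Surjective g := by
  refine surjective_of_maximalIdeal_le g fun a ha => ?_
  obtain ⟨b, hb, hab⟩ := h a ha
  have h1 : MM A ≤ (𝔪 B).map g.toAlgHom ⊔ 𝔪 A ^ 2 := sup_le_sup_right (algMap_le_map g) _
  have := add_mem (h1 hab) (Submodule.mem_sup_left (Ideal.mem_map_of_mem g.toAlgHom hb) : g b ∈ _)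
  rwa [sub_add_cancel] at this

lemma surjective_of_comp {A B C : Art Λ k} (g : C ⟶ B) (q : B ⟶ A)
    (hq : RingHom.ker q.toAlgHom ≤ MM B) (h : Function.Surjective (g ≫ q)) : Function.Surjective g := by
  refine surjective_of_le_MM g fun b hb => ?_
  obtain ⟨c, hc⟩ := h (q b)
  have hker : b - g c ∈ RingHom.ker q.toAlgHom := by
    rw [RingHom.mem_ker, map_sub, sub_eq_zero]
    exact hc.symm
  refine ⟨c, ?_, hq hker⟩
  have h1 : q (g c) ∈ 𝔪 A := hc ▸ map_mem_maximalIdeal q hb
  rw [mem_maximalIdeal_iff, res_app, res_app] at h1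
  rwa [mem_maximalIdeal_iff]

lemma der_mul {B : Art Λ k} (D : letI := resAlg B; Derivation Λ B k) (x y : B) :
    D (x * y) = B.res x * D y + B.res y * D x := by
  letI := resAlg B
  exact D.leibniz x y

lemma der_MM {B : Art Λ k} (D : letI := resAlg B; Derivation Λ B k) {x : B} (hx : x ∈ MM B) : D x = 0 := by
  letI := resAlg B
  obtain ⟨a, ha, c, hc, rfl⟩ := Submodule.mem_sup.1 hx
  rw [map_add]
  have h1 : D a = 0 := by
    refine Submodule.span_induction (p := fun z _ => D z = 0) ?_ (map_zero D) (fun x y _ _ hx hy => by rw [map_add, hx, hy, add_zero])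
      (fun r x hxm hx => ?_) ha
    · rintro _ ⟨r, -, rfl⟩
      exact D.map_algebraMap r
    · have hxmax : x ∈ 𝔪 B := ((le_sup_left : _ ≤ MM B).trans (MM_le B)) hxm
      rw [smul_eq_mul, der_mul, hx, mul_zero, zero_add, (mem_maximalIdeal_iff B x).1 hxmax, zero_mul]
  have h2 : D c = 0 := by
    rw [pow_two] at hc
    refine Submodule.mul_induction_on hc (fun x hx y hy => ?_) (fun x y hx hy => by rw [map_add, hx, hy, add_zero])
    rw [der_mul, (mem_maximalIdeal_iff B x).1 hx, (mem_maximalIdeal_iff B y).1 hy, zero_mul, zero_mul, add_zero]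
  rw [h1, h2, add_zero]

variable [Module.Finite Λ k]

/-- The criterion. -/
theorem isEssSurj_iff {A B : Art Λ k} (f : B ⟶ A) :
    IsEssSurj f ↔ Function.Surjective f ∧ KillsKer f := by
  letI := resAlg B
  haveI := isScalarTower_resAlg B
  constructor
  · rintro ⟨hf, hess⟩
    refine ⟨hf, fun D x hx => ?_⟩
    by_contra hDx
    have hxr : B.res x = 0 := by rw [← res_app f, hx, map_zero]
    let S : Subalgebra Λ B :=
      { carrier := {b | D b = 0}
        mul_mem' := fun {a b} (ha : D a = 0) (hb : D b = 0) => by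
          change D (a * b) = 0
          rw [der_mul, ha, hb, mul_zero, mul_zero, add_zero]
        add_mem' := fun {a b} (ha : D a = 0) (hb : D b = 0) => by
          change D (a + b) = 0
          rw [map_add, ha, hb, add_zero]
        algebraMap_mem' := fun r => D.map_algebraMap r }
    have hadj : ∀ b : B, ∃ s ∈ S, f s = f b := fun b => by
      obtain ⟨c, hc⟩ := B.res_surjective (D b / D x)
      refine ⟨b - c * x, ?_, by rw [map_sub, map_mul, hx, mul_zero, sub_zero]⟩
      change D (b - c * x) = 0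
      rw [map_sub, der_mul, hc, hxr, zero_mul, add_zero, div_mul_cancel₀ _ hDx, sub_self]
    haveI : Nontrivial S := ⟨⟨0, 1, fun h => zero_ne_one (α := B) (congrArg (fun s : S => (s : B)) h)⟩⟩
    have hunit : ∀ s : S, B.res (s : B) ≠ 0 → IsUnit s := fun s hs => by
      obtain ⟨u, hu⟩ := (isUnit_iff (s : B)).2 hs
      have hmem : (↑u⁻¹ : B) ∈ S := by
        change D (↑u⁻¹ : B) = 0
        have h1 : D ((s : B) * ↑u⁻¹) = 0 := by rw [← hu, Units.mul_inv]; exact D.map_one_eq_zero
        rw [der_mul, show D (s : B) = 0 from s.2, mul_zero, add_zero] at h1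
        exact (mul_eq_zero.1 h1).resolve_left hs
      exact isUnit_iff_exists_inv.2 ⟨⟨_, hmem⟩, Subtype.ext (by change (s : B) * _ = 1; rw [← hu, Units.mul_inv])⟩
    haveI : IsLocalRing S := IsLocalRing.of_isUnit_or_isUnit_one_sub_self fun s => by
      by_cases hs : B.res (s : B) = 0
      · exact Or.inr (hunit _ (by simp [hs]))
      · exact Or.inl (hunit s hs)
    haveI : IsArtinianRing S := by
      haveI := (isFiniteLength_iff_isNoetherian_isArtinian.1 (isFiniteLength_art B)).2
      haveI : IsArtinian Λ S := isArtinian_of_le (s := Subalgebra.toSubmodule S) (t := ⊤) le_top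
      exact isArtinian_of_tower Λ inferInstance
    let C : Art Λ k := Art.of S (B.res.comp S.val) fun c => by
      obtain ⟨b, hb⟩ := B.res_surjective c
      obtain ⟨s, hs, hsb⟩ := hadj b
      refine ⟨⟨s, hs⟩, ?_⟩
      change B.res s = c
      rw [← res_app f, hsb, res_app, hb]
    let g : C ⟶ B := homMk S.val rfl
    have hsurj := hess C g fun a => by
      obtain ⟨b, rfl⟩ := hf a
      obtain ⟨s, hs, hsb⟩ := hadj b
      exact ⟨(⟨s, hs⟩ : S), hsb⟩
    obtain ⟨s, hs⟩ := hsurj x
    have : D (s : S).1 = 0 := (s : S).2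
    exact hDx (hs ▸ this)
  · rintro ⟨hf, hkill⟩
    refine ⟨hf, fun C g hg => surjective_of_maximalIdeal_le g (le_of_eq ?_)⟩
    refine (map_maximalIdeal_sup_eq_of_derivation (k := k) B.res_surjective g.toAlgHom ?_ fun D hD => ?_).symm
    · intro c
      obtain ⟨x, hx⟩ := C.res_surjective c
      exact ⟨x, (res_app g x).trans hx⟩
    · refine Derivation.ext fun b => ?_
      obtain ⟨c, hc⟩ := hg (f b)
      have h1 : D (b - g c) = 0 := hkill D _ (by rw [map_sub, sub_eq_zero]; exact hc.symm)
      rw [map_sub, sub_eq_zero] at h1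
      rw [h1]
      exact hD c

end Groth.ArtfunDeform.EssSurj
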