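import Mathlib.RingTheory.Etale.Kaehler
import Groth.Agent.AlgStBasic.SmoothDescent

set_option autoImplicit false
universe u
open TensorProduct

namespace Groth.ArtfunDeform.EtaleH1

open Groth.AlgStBasic.SmoothDescent in
/-- For an étale map `B → C` of `A`-algebras, `C ⊗ H¹(L_{B/A}) → H¹(L_{C/A})` is bijective. -/
theorem h1Cotangent_map_liftBaseChange_bijective (A B C : Type u) [CommRing A] [CommRing B] [CommRing C]
    [Algebra A B] [Algebra A C] [Algebra B C] [IsScalarTower A B C] [Algebra.Etale B C] :
    Function.Bijective ((Algebra.H1Cotangent.map A A B C).liftBaseChange C) := by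
  let E : Algebra.Extension A B := (Algebra.Generators.self A B).toExtension
  have : Algebra.FormallySmooth A E.Ring := (inferInstance : Algebra.FormallySmooth A (MvPolynomial B A))
  let : Algebra E.Ring C := ((algebraMap B C).comp (algebraMap E.Ring B)).toAlgebra
  have : IsScalarTower E.Ring B C := .of_algebraMap_eq' rfl
  have : IsScalarTower A E.Ring C := .of_algebraMap_eq fun a => by
    rw [RingHom.algebraMap_toAlgebra, RingHom.comp_apply, ← IsScalarTower.algebraMap_apply A E.Ring B,
      ← IsScalarTower.algebraMap_apply]
  obtain ⟨Q, _, _, π, _, hπs, hker⟩ := exists_etale_lift (P := E.Ring) (C := C) E.algebraMap_surjective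
  let : Algebra A Q := ((algebraMap E.Ring Q).comp (algebraMap A E.Ring)).toAlgebra
  have : IsScalarTower A E.Ring Q := .of_algebraMap_eq' rfl
  let E' : Algebra.Extension A C := .ofSurjective (π.restrictScalars A) hπs
  let f : E.Hom E' :=
    { toRingHom := algebraMap E.Ring Q
      toRingHom_algebraMap := fun _ => rfl
      algebraMap_toRingHom := fun x => (π.commutes x).trans rfl }
  let : Algebra E.Ring E'.Ring := ‹Algebra E.Ring Q›
  have H₁ : f.toRingHom.FormallyEtale :=
    RingHom.formallyEtale_algebraMap.2 (inferInstanceAs (Algebra.FormallyEtale E.Ring Q))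
  have hspan : E'.ker = (E.ker).map (algebraMap E.Ring Q) := hker
  have H₂ : Function.Bijective ((f.mapKer rfl).liftBaseChange E'.Ring) := by
    have : Module.Flat E.Ring E'.Ring := inferInstanceAs (Module.Flat E.Ring Q)
    constructor
    · have h0 := Module.Flat.lTensor_preserves_injective_linearMap (M := E'.Ring) E.ker.subtype
        Subtype.val_injective
      refine Function.Injective.of_comp (f := (Subtype.val : E'.ker → E'.Ring)) ?_
      convert (TensorProduct.rid E.Ring E'.Ring).injective.comp h0 using 1
      ext x
      induction x with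
      | zero => simp
      | add x y h₁ h₂ => simp only [Function.comp_apply, map_add, Submodule.coe_add] at *; rw [h₁, h₂]
      | tmul q i => simp [Algebra.smul_def, mul_comm]; rfl
    · rintro ⟨q, hq⟩
      rw [hspan] at hq
      have : q ∈ Submodule.span Q (algebraMap E.Ring Q '' E.ker) := hq
      induction this using Submodule.span_induction with
      | mem x hx =>
        obtain ⟨i, hi, rfl⟩ := hx
        exact ⟨1 ⊗ₜ ⟨i, hi⟩, Subtype.ext (by simp; rfl)⟩
      | zero => exact ⟨0, Subtype.ext (by simp; rfl)⟩
      | add x y hx hy h₁ h₂ =>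
        obtain ⟨a, ha⟩ := h₁ (hspan ▸ hx) hx
        obtain ⟨b, hb⟩ := h₂ (hspan ▸ hy) hy
        exact ⟨a + b, by rw [map_add, ha, hb]; rfl⟩
      | smul r x hx h =>
        obtain ⟨a, ha⟩ := h (hspan ▸ hx) hx
        let r' : E'.Ring := r
        exact ⟨r' • a, by rw [map_smul, ha]; rfl⟩
  have : Algebra.FormallySmooth A E'.Ring := Algebra.FormallySmooth.comp A E.Ring Q
  have : Algebra.FormallySmooth A (Algebra.Generators.self A C).toExtension.Ring :=
    (inferInstance : Algebra.FormallySmooth A (MvPolynomial C A))
  let h : (Algebra.Generators.self A C).toExtension.Hom E' :=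
    { toRingHom := (MvPolynomial.aeval E'.σ).toRingHom
      toRingHom_algebraMap := (MvPolynomial.aeval E'.σ).commutes
      algebraMap_toRingHom := fun x => by
        have : (IsScalarTower.toAlgHom A E'.Ring C).comp (MvPolynomial.aeval E'.σ) =
            (MvPolynomial.aeval (fun i : C => i) : MvPolynomial C A →ₐ[A] C) := by
          ext i
          simp
        exact DFunLike.congr_fun this x }
  let e₁ := Algebra.Extension.tensorH1CotangentOfFormallyEtale f rfl H₁ H₂
  let e₂ := Algebra.Extension.H1Cotangent.equivOfFormallySmooth (Algebra.Generators.self A C).toExtension E'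
  have key : ∀ t, e₂ ((Algebra.H1Cotangent.map A A B C).liftBaseChange C t) = e₁ t := by
    intro t
    induction t with
    | zero => simp
    | add x y hx hy => simp only [map_add, hx, hy]
    | tmul c x =>
      rw [LinearMap.liftBaseChange_tmul, map_smul]
      show _ = ((Algebra.Extension.H1Cotangent.map f).liftBaseChange C) (c ⊗ₜ x)
      rw [LinearMap.liftBaseChange_tmul]
      congr 1
      rw [Algebra.Extension.H1Cotangent.equivOfFormallySmooth_apply h, Algebra.H1Cotangent.map,
        ← (Algebra.Extension.H1Cotangent.map h).coe_restrictScalars B,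
        ← LinearMap.comp_apply, ← Algebra.Extension.H1Cotangent.map_comp,
        Algebra.Extension.H1Cotangent.map_eq]
  have hc : ((Algebra.H1Cotangent.map A A B C).liftBaseChange C : _ → _) = e₂.symm ∘ e₁ := by
    funext t
    rw [Function.comp_apply, ← key t, LinearEquiv.symm_apply_apply]
  rw [hc]
  exact e₂.symm.bijective.comp e₁.bijective

end Groth.ArtfunDeform.EtaleH1
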