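import Groth.Agent.ArtfunDeform.Hulls
import Groth.Agent.SGA7.PowerSeries
import Groth.Agent.Calg6.PowerSeries

/-!
Power series over coefficient rings.
-/

set_option linter.style.haveILetI false
set_option linter.style.longLine false
set_option linter.unusedSectionVars false

universe u v

open CategoryTheory

namespace Groth.ArtfunDeform

open ArtFun ArtFun.Art MvPowerSeries Groth.SGA7.PS

local notation "𝔪" => IsLocalRing.maximalIdeal

section Local

variable {A : Type u} [CommRing A] [IsLocalRing A] {σ : Type} [Fintype σ]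

lemma mem_maximalIdeal_ps (f : MvPowerSeries σ A) :
    f ∈ 𝔪 (MvPowerSeries σ A) ↔ constantCoeff f ∈ 𝔪 A := by
  rw [IsLocalRing.mem_maximalIdeal, IsLocalRing.mem_maximalIdeal, mem_nonunits_iff, mem_nonunits_iff,
    isUnit_iff_constantCoeff]

lemma coeff_mem_of_mem_pow {n : ℕ} {f : MvPowerSeries σ A} (hf : f ∈ (𝔪 (MvPowerSeries σ A)) ^ n)
    (d : σ →₀ ℕ) : coeff d f ∈ (𝔪 A) ^ (n - d.degree) := by
  classical
  induction n generalizing f d with
  | zero => simp
  | succ n ih =>
    rw [pow_succ] at hf
    induction hf using Submodule.mul_induction_on' with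
    | mem_mul_mem x hx y hy =>
      rw [coeff_mul]
      refine Ideal.sum_mem _ fun p hp => ?_
      rw [Finset.HasAntidiagonal.mem_antidiagonal] at hp
      have hdeg : p.1.degree + p.2.degree = d.degree := by rw [← map_add, hp]
      have h1 := ih hx p.1
      by_cases h0 : p.2 = 0
      · have h2 : coeff p.2 y ∈ 𝔪 A := by
          rw [h0, coeff_zero_eq_constantCoeff_apply]
          exact (mem_maximalIdeal_ps y).1 hy
        have h3 := Ideal.mul_mem_mul h1 h2
        rw [← pow_succ] at h3
        exact Ideal.pow_le_pow_right (by rw [h0, map_zero] at hdeg; omega) h3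
      · refine Ideal.mul_mem_right _ _ (Ideal.pow_le_pow_right ?_ h1)
        have : p.2.degree ≠ 0 := fun h => h0 ((Finsupp.degree_eq_zero_iff p.2).1 h)
        omega
    | add x _ y _ hx hy =>
      rw [map_add]
      exact add_mem hx hy

lemma mem_pow_of_coeff : ∀ (n : ℕ) {f : MvPowerSeries σ A},
    (∀ d : σ →₀ ℕ, coeff d f ∈ (𝔪 A) ^ (n - d.degree)) → f ∈ (𝔪 (MvPowerSeries σ A)) ^ n := by
  classical
  intro n
  induction n with
  | zero => intro f _; simp
  | succ n ih =>
    intro f hf
    obtain ⟨h, hh, hc⟩ := exists_sum_X_mul (f - C (constantCoeff f)) (by simp)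
    have hC : C (constantCoeff f) ∈ (𝔪 (MvPowerSeries σ A)) ^ (n + 1) := by
      have h0 := hf 0
      rw [map_zero, Nat.sub_zero, coeff_zero_eq_constantCoeff_apply] at h0
      have h1 := Ideal.mem_map_of_mem (C : A →+* MvPowerSeries σ A) h0
      rw [Ideal.map_pow] at h1
      refine Ideal.pow_right_mono (Ideal.map_le_iff_le_comap.2 fun a ha => ?_) _ h1
      rw [Ideal.mem_comap, mem_maximalIdeal_ps, constantCoeff_C]
      exact ha
    rw [← sub_add_cancel f (C (constantCoeff f)), hh]
    refine add_mem (Ideal.sum_mem _ fun i _ => ?_) hC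
    rw [pow_succ']
    refine Ideal.mul_mem_mul ?_ (ih fun e => ?_)
    · rw [mem_maximalIdeal_ps, constantCoeff_X]
      exact zero_mem _
    · rcases hc i e with h1 | h1
      · rw [h1, map_sub, coeff_C, if_neg, sub_zero]
        · have := hf (e + Finsupp.single i 1)
          rwa [map_add, Finsupp.degree_single, Nat.add_sub_add_right] at this
        · intro h2
          have := congrArg (fun t : σ →₀ ℕ => t i) h2
          simp at this
      · rw [h1]
        exact zero_mem _

lemma isAdicComplete_ps [IsNoetherianRing A] [IsAdicComplete (𝔪 A) A] :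
    IsAdicComplete (𝔪 (MvPowerSeries σ A)) (MvPowerSeries σ A) := by
  haveI : IsPrecomplete (𝔪 (MvPowerSeries σ A)) (MvPowerSeries σ A) := by
    refine ⟨fun f hf => ?_⟩
    have hdiff : ∀ {m n : ℕ}, m ≤ n → ∀ d : σ →₀ ℕ,
        coeff d (f m) - coeff d (f n) ∈ (𝔪 A) ^ (m - d.degree) := by
      intro m n hmn d
      have h := hf hmn
      rw [SModEq.sub_mem, smul_eq_mul, Ideal.mul_top] at h
      rw [← map_sub]
      exact coeff_mem_of_mem_pow h d
    have hl : ∀ d : σ →₀ ℕ, ∃ L : A, ∀ i, coeff d (f (i + d.degree)) - L ∈ (𝔪 A) ^ i := by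
      intro d
      obtain ⟨L, hL⟩ := IsPrecomplete.prec' (I := 𝔪 A) (M := A) (fun i => coeff d (f (i + d.degree)))
        (fun {m n} hmn => by
          rw [SModEq.sub_mem, smul_eq_mul, Ideal.mul_top]
          have := hdiff (Nat.add_le_add_right hmn d.degree) d
          rwa [Nat.add_sub_cancel] at this)
      refine ⟨L, fun i => ?_⟩
      have := hL i
      rwa [SModEq.sub_mem, smul_eq_mul, Ideal.mul_top] at this
    choose L hL using hl
    refine ⟨(L : MvPowerSeries σ A), fun n => ?_⟩
    rw [SModEq.sub_mem, smul_eq_mul, Ideal.mul_top]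
    refine mem_pow_of_coeff n fun d => ?_
    rw [map_sub]
    change coeff d (f n) - L d ∈ _
    rcases Nat.lt_or_ge n d.degree with h | h
    · rw [Nat.sub_eq_zero_of_le h.le]
      simp
    · have h1 := hL d (n - d.degree)
      rwa [Nat.sub_add_cancel h] at h1
  exact { toIsHausdorff := inferInstance, toIsPrecomplete := inferInstance }

/-- A ring map out of power series is determined by constants and variables. -/
lemma psHom_ext {T : Type u} [CommRing T] [IsLocalRing T] [IsNoetherianRing T]
    {θ θ' : MvPowerSeries σ A →+* T} (hC : ∀ a, θ (C a) = θ' (C a)) (hX : ∀ i, θ (X i) = θ' (X i))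
    (hm : ∀ i, θ (X i) ∈ 𝔪 T) : θ = θ' := by
  classical
  have key : ∀ (n : ℕ) (p : MvPowerSeries σ A), θ p - θ' p ∈ (𝔪 T) ^ n := by
    intro n
    induction n with
    | zero => intro p; simp
    | succ n ih =>
      intro p
      obtain ⟨h, hh, -⟩ := exists_sum_X_mul (p - C (constantCoeff p)) (by simp)
      rw [← sub_add_cancel p (C (constantCoeff p)), hh, map_add, map_add, map_sum, map_sum, hC,
        add_sub_add_right_eq_sub, ← Finset.sum_sub_distrib]
      refine Ideal.sum_mem _ fun i _ => ?_
      rw [map_mul, map_mul, ← hX, ← mul_sub, pow_succ']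
      exact Ideal.mul_mem_mul (hm i) (ih _)
  refine RingHom.ext fun p => sub_eq_zero.1 (IsHausdorff.haus' (I := 𝔪 T) _ fun n => ?_)
  rw [SModEq.sub_mem, sub_zero, smul_eq_mul, Ideal.mul_top]
  exact key n p

end Local

/-- An Artinian local ring is complete. -/
lemma isAdicComplete_artinian (T : Type u) [CommRing T] [IsLocalRing T] [IsArtinianRing T] :
    IsAdicComplete (𝔪 T) T := by
  obtain ⟨N, hN⟩ := (isArtinianRing_iff_isNilpotent_maximalIdeal T).1 inferInstance
  haveI : IsPrecomplete (𝔪 T) T := by
    refine ⟨fun f hf => ⟨f N, fun n => ?_⟩⟩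
    rcases le_total n N with h | h
    · exact hf h
    · have h1 := (hf h).symm
      rw [SModEq.sub_mem, hN, Submodule.zero_eq_bot, Submodule.bot_smul, Submodule.mem_bot, sub_eq_zero] at h1
      rw [h1]
  exact { toIsHausdorff := inferInstance, toIsPrecomplete := inferInstance }

variable {Λ : Type u} {k : Type u} [CommRing Λ] [Field k] [Algebra Λ k]

/-- The power series ring over a coefficient ring, as a coefficient ring. -/
noncomputable def psRing (R : CRing Λ k) (n : ℕ) : CRing Λ k where
  carrier := MvPowerSeries (Fin n) R.carrier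
  res :=
    { toRingHom := R.res.toRingHom.comp constantCoeff
      commutes' := fun r => by
        change R.res (constantCoeff (algebraMap Λ (MvPowerSeries (Fin n) R.carrier) r)) = _
        rw [MvPowerSeries.algebraMap_apply, constantCoeff_C, AlgHom.commutes] }
  res_surjective := fun c => (R.res_surjective c).elim fun a ha => ⟨C a, by
    change R.res (constantCoeff (C a)) = c
    rw [constantCoeff_C, ha]⟩
  isAdicComplete := isAdicComplete_ps

/-- The constants. -/
noncomputable def psC (R : CRing Λ k) (n : ℕ) : R.carrier →ₐ[Λ] (psRing R n).carrier :=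
  { toRingHom := (C : R.carrier →+* MvPowerSeries (Fin n) R.carrier)
    commutes' := fun r => (MvPowerSeries.algebraMap_apply (r := r)).symm }

lemma psC_res (R : CRing Λ k) (n : ℕ) : (psRing R n).res.comp (psC R n) = R.res :=
  AlgHom.ext fun r => by
    change R.res (constantCoeff (C r)) = R.res r
    rw [constantCoeff_C]

/-- The variables. -/
noncomputable def psX (R : CRing Λ k) {n : ℕ} (i : Fin n) : (psRing R n).carrier :=
  (X i : MvPowerSeries (Fin n) R.carrier)

lemma psX_mem (R : CRing Λ k) {n : ℕ} (i : Fin n) : psX R i ∈ 𝔪 (psRing R n).carrier :=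
  (mem_maximalIdeal_ps _).2 (by rw [psX, constantCoeff_X]; exact zero_mem _)

lemma ps_decomp (R : CRing Λ k) {n : ℕ} (p : (psRing R n).carrier) :
    ∃ h : Fin n → (psRing R n).carrier,
      p = psC R n (constantCoeff (p : MvPowerSeries (Fin n) R.carrier)) + ∑ i, psX R i * h i := by
  let q : MvPowerSeries (Fin n) R.carrier := p
  obtain ⟨h, hh, -⟩ := exists_sum_X_mul (q - C (constantCoeff q)) (by simp)
  exact ⟨h, eq_add_of_sub_eq' hh⟩

/-- Evaluation of power series. -/
theorem exists_eval (R : CRing Λ k) {n : ℕ} {T : Type u} [CommRing T] [Algebra Λ T] [IsLocalRing T]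
    [IsNoetherianRing T] [IsAdicComplete (𝔪 T) T] (c : R.carrier →ₐ[Λ] T) (z : Fin n → T) (hz : ∀ i, z i ∈ 𝔪 T) :
    ∃ θ : (psRing R n).carrier →ₐ[Λ] T, θ.comp (psC R n) = c ∧ ∀ i, θ (psX R i) = z i := by
  letI : Algebra R.carrier T := c.toRingHom.toAlgebra
  let θ : MvPowerSeries (Fin n) R.carrier →ₐ[R.carrier] T := Groth.Calg6.evalAdic (𝔪 T) z hz
  have hθ : ∀ a, θ (C a) = c a := fun a => θ.commutes a
  refine ⟨{ toRingHom := θ.toRingHom, commutes' := fun r => ?_ }, AlgHom.ext hθ,
    fun i => Groth.Calg6.evalAdic_X (𝔪 T) z hz i⟩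
  change θ (algebraMap Λ (MvPowerSeries (Fin n) R.carrier) r) = _
  rw [MvPowerSeries.algebraMap_apply, hθ, AlgHom.commutes]

/-- Morphisms out of power series are determined by constants and variables. -/
theorem eval_ext (R : CRing Λ k) {n : ℕ} {T : Type u} [CommRing T] [Algebra Λ T] [IsLocalRing T]
    [IsNoetherianRing T] {θ θ' : (psRing R n).carrier →ₐ[Λ] T} (hC : θ.comp (psC R n) = θ'.comp (psC R n))
    (hX : ∀ i, θ (psX R i) = θ' (psX R i)) (hm : ∀ i, θ (psX R i) ∈ 𝔪 T) : θ = θ' := by
  have h : θ.toRingHom = θ'.toRingHom :=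
    psHom_ext (fun a => congrArg (fun t : R.carrier →ₐ[Λ] T => t a) hC) hX hm
  exact AlgHom.ext fun p => congrArg (fun t : (psRing R n).carrier →+* T => t p) h

end Groth.ArtfunDeform
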