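import Groth.Prelude.Def_Exal2
import Groth.Agent.ArtfunDeform.PowerSeries
import Mathlib.RingTheory.SimpleModule.Basic
import Mathlib.RingTheory.Noetherian.OfPrime
import Mathlib.RingTheory.Filtration
import Mathlib.RingTheory.HopkinsLevitzki
import Mathlib.Tactic.LinearCombination

/-!
Extensions of a local ring by a simple module: the middle ring is local, Noetherian, and is the fibre
product of the ring with one of its Artinian truncations.
-/

set_option linter.style.longLine false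
set_option linter.style.haveILetI false

universe u v

namespace Groth.ArtfunDeform.ExalLocal

local notation "𝔪" => IsLocalRing.maximalIdeal

variable {Λ : Type u} {R L : Type v} [CommRing Λ] [CommRing R] [Algebra Λ R] [AddCommGroup L] [Module R L]

lemma exists_smul_eq [IsSimpleModule R L] {z₀ : L} (h : z₀ ≠ 0) (z : L) : ∃ r : R, r • z₀ = z :=
  IsSimpleModule.toSpanSingleton_surjective R h z

lemma smul_eq_zero [IsLocalRing R] [IsSimpleModule R L] {r : R} (hr : r ∈ 𝔪 R) (z : L) : r • z = 0 := by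
  obtain ⟨I, hI, ⟨e⟩⟩ := isSimpleModule_iff_quot_maximal.1 (inferInstance : IsSimpleModule R L)
  have : I = 𝔪 R := IsLocalRing.eq_maximalIdeal hI
  refine e.injective ?_
  obtain ⟨y, hy⟩ := Ideal.Quotient.mk_surjective (e z)
  rw [map_smul, map_zero, ← hy, Algebra.smul_def, Ideal.Quotient.algebraMap_eq, ← map_mul,
    Ideal.Quotient.eq_zero_iff_mem]
  exact I.mul_mem_right _ (this ▸ hr)

lemma exists_ne_zero [IsSimpleModule R L] : ∃ z : L, z ≠ 0 :=
  haveI := IsSimpleModule.nontrivial R L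
  exists_ne 0

variable (X : Exal.Ext Λ R L)

lemma proj_incl (z : L) : X.proj (X.incl z) = 0 := (X.isExtension.exact _).2 ⟨z, rfl⟩

lemma mul_eq_zero_of_proj {x y : X.E} (hx : X.proj x = 0) (hy : X.proj y = 0) : x * y = 0 := by
  obtain ⟨z, rfl⟩ := (X.isExtension.exact y).1 hy
  rw [X.isExtension.mul_incl, hx, zero_smul, map_zero]

lemma isUnit_iff {e : X.E} : IsUnit e ↔ IsUnit (X.proj e) := by
  refine ⟨fun h => h.map X.proj, fun he => ?_⟩
  obtain ⟨w, hw⟩ := he.exists_right_inv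
  obtain ⟨f, rfl⟩ := X.isExtension.proj_surjective w
  have h1 : X.proj (e * f - 1) = 0 := by rw [map_sub, map_mul, map_one, hw, sub_self]
  refine IsUnit.of_mul_eq_one (f * (1 - (e * f - 1))) ?_
  linear_combination -(mul_eq_zero_of_proj X h1 h1)

theorem isLocalRing_E [IsLocalRing R] (X : Exal.Ext Λ R L) : IsLocalRing X.E := by
  haveI : Nontrivial X.E := X.proj.toRingHom.domain_nontrivial
  refine IsLocalRing.of_isUnit_or_isUnit_one_sub_self fun e => ?_
  rcases IsLocalRing.isUnit_or_isUnit_one_sub_self (X.proj e) with h1 | h1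
  · exact Or.inl ((isUnit_iff X).2 h1)
  · exact Or.inr ((isUnit_iff X).2 (by rwa [map_sub, map_one]))

variable [IsLocalRing R] [IsLocalRing X.E]

lemma mem_maximal_iff {e : X.E} : e ∈ 𝔪 X.E ↔ X.proj e ∈ 𝔪 R := by
  rw [IsLocalRing.mem_maximalIdeal, IsLocalRing.mem_maximalIdeal, mem_nonunits_iff, mem_nonunits_iff,
    isUnit_iff X]

lemma map_pow_eq (n : ℕ) : (𝔪 X.E ^ n).map X.proj = 𝔪 R ^ n := by
  rw [Ideal.map_pow]
  congr 1
  refine le_antisymm (Ideal.map_le_iff_le_comap.2 fun e he => (mem_maximal_iff X).1 he) fun r hr => ?_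
  obtain ⟨e, rfl⟩ := X.isExtension.proj_surjective r
  exact Ideal.mem_map_of_mem _ ((mem_maximal_iff X).2 hr)

variable [IsSimpleModule R L]

lemma mul_incl_eq_zero {e : X.E} (he : e ∈ 𝔪 X.E) (z : L) : e * X.incl z = 0 := by
  rw [X.isExtension.mul_incl, smul_eq_zero ((mem_maximal_iff X).1 he), map_zero]

lemma mul_eq_zero_of_mem {e x : X.E} (he : e ∈ 𝔪 X.E) (hx : X.proj x = 0) : e * x = 0 := by
  obtain ⟨z, rfl⟩ := (X.isExtension.exact x).1 hx
  exact mul_incl_eq_zero X he z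

lemma exists_mul_incl {z₀ : L} (h : z₀ ≠ 0) {x : X.E} (hx : X.proj x = 0) : ∃ a : X.E, a * X.incl z₀ = x := by
  obtain ⟨z, rfl⟩ := (X.isExtension.exact x).1 hx
  obtain ⟨r, rfl⟩ := exists_smul_eq (R := R) h z
  obtain ⟨a, rfl⟩ := X.isExtension.proj_surjective r
  exact ⟨a, X.isExtension.mul_incl a z₀⟩

/-- The middle ring is Noetherian. -/
theorem isNoetherianRing_E [IsNoetherianRing R] : IsNoetherianRing X.E := by
  classical
  obtain ⟨z₀, hz₀⟩ := exists_ne_zero (R := R) (L := L)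
  have hpr := X.isExtension.proj_surjective
  refine IsNoetherianRing.of_prime fun p hp => ?_
  have hεp : X.incl z₀ ∈ p := hp.mem_of_pow_mem 2 (by
    rw [pow_two, mul_eq_zero_of_proj X (proj_incl X z₀) (proj_incl X z₀)]; exact zero_mem _)
  have hker : ∀ J : Ideal X.E, X.incl z₀ ∈ J → ∀ x, X.proj x = 0 → x ∈ J := fun J hJ x hx => by
    obtain ⟨a, rfl⟩ := exists_mul_incl X hz₀ hx
    exact J.mul_mem_left a hJ
  obtain ⟨s, hs⟩ := IsNoetherian.noetherian (p.map X.proj)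
  choose l hl using fun r : R => hpr r
  refine ⟨insert (X.incl z₀) (s.image l), le_antisymm (Ideal.span_le.2 ?_) fun x hx => ?_⟩
  · intro x hx
    rw [Finset.coe_insert, Finset.coe_image] at hx
    rcases hx with rfl | ⟨r, hr, rfl⟩
    · exact hεp
    · have h1 : r ∈ p.map X.proj := hs ▸ Ideal.subset_span hr
      obtain ⟨y, hy, hyr⟩ := (Ideal.mem_map_iff_of_surjective _ hpr).1 h1
      simpa using add_mem (hker p hεp (l r - y) (by rw [map_sub, hl, hyr, sub_self])) hy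
  · let K : Ideal X.E := Ideal.span ↑(insert (X.incl z₀) (s.image l))
    have hεK : X.incl z₀ ∈ K := Ideal.subset_span (by simp)
    have h1 : p.map X.proj ≤ K.map X.proj := by
      rw [← hs]
      exact Ideal.span_le.2 fun r hr => hl r ▸ Ideal.mem_map_of_mem _ (Ideal.subset_span (by simp; exact Or.inr ⟨r, hr, rfl⟩))
    obtain ⟨y, hy, hyx⟩ := (Ideal.mem_map_iff_of_surjective _ hpr).1 (h1 (Ideal.mem_map_of_mem _ hx))
    change x ∈ K
    simpa using add_mem (hker K hεK (x - y) (by rw [map_sub, hyx, sub_self])) hy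

/-- High powers of the maximal ideal meet the kernel only in zero. -/
theorem exists_pow_inf [IsNoetherianRing R] :
    ∃ n₀ : ℕ, ∀ n, n₀ ≤ n → ∀ x ∈ 𝔪 X.E ^ n, X.proj x = 0 → x = 0 := by
  haveI := isNoetherianRing_E X
  obtain ⟨z₀, hz₀⟩ := exists_ne_zero (R := R) (L := L)
  have hε : X.incl z₀ ≠ 0 := fun e => hz₀ (X.isExtension.incl_injective (e.trans (map_zero X.incl).symm))
  obtain ⟨n₀, hn₀⟩ : ∃ n, X.incl z₀ ∉ 𝔪 X.E ^ n := by
    by_contra hno
    push Not at hno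
    refine hε ?_
    rw [← Ideal.mem_bot, ← Ideal.iInf_pow_eq_bot_of_isLocalRing (𝔪 X.E) (IsLocalRing.maximalIdeal.isMaximal X.E).ne_top,
      Submodule.mem_iInf]
    exact hno
  refine ⟨n₀, fun n hn x hx hx0 => ?_⟩
  obtain ⟨a, rfl⟩ := exists_mul_incl X hz₀ hx0
  by_cases ha : IsUnit a
  · exact absurd (Ideal.pow_le_pow_right hn ((Ideal.unit_mul_mem_iff_mem _ ha).1 hx)) hn₀
  · exact mul_incl_eq_zero X ((IsLocalRing.mem_maximalIdeal _).2 ha) z₀

variable {N : Ideal X.E}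

lemma eq_of_proj_mk (hN : ∀ x ∈ N, X.proj x = 0 → x = 0) {x y : X.E} (h₁ : X.proj x = X.proj y)
    (h₂ : Ideal.Quotient.mk N x = Ideal.Quotient.mk N y) : x = y :=
  sub_eq_zero.1 (hN _ (Ideal.Quotient.eq.1 h₂) (by rw [map_sub, h₁, sub_self]))

lemma exists_proj_mk {r : R} {b : X.E ⧸ N}
    (h : ∃ e, X.proj e = r ∧ Ideal.Quotient.mk N e - b ∈ (RingHom.ker X.proj).map (Ideal.Quotient.mk N)) :
    ∃ x, X.proj x = r ∧ Ideal.Quotient.mk N x = b := by
  obtain ⟨e, he, hb⟩ := h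
  obtain ⟨i, hi, hib⟩ := (Ideal.mem_map_iff_of_surjective _ Ideal.Quotient.mk_surjective).1 hb
  exact ⟨e - i, by rw [map_sub, he, show X.proj i = 0 from hi, sub_zero], by rw [map_sub, hib, sub_sub_cancel]⟩

/-- Maps into the middle ring are pairs of compatible maps. -/
theorem exists_hom (hN : ∀ x ∈ N, X.proj x = 0 → x = 0) {Q : Type*} [CommRing Q] [Algebra Λ Q]
    (g : Q →ₐ[Λ] R) (h : Q →ₐ[Λ] X.E ⧸ N)
    (hgh : ∀ q, ∃ e, X.proj e = g q ∧ Ideal.Quotient.mk N e - h q ∈ (RingHom.ker X.proj).map (Ideal.Quotient.mk N)) :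
    ∃ u : Q →ₐ[Λ] X.E, (∀ q, X.proj (u q) = g q) ∧ ∀ q, Ideal.Quotient.mk N (u q) = h q := by
  choose u hu₁ hu₂ using fun q => exists_proj_mk X (hgh q)
  refine ⟨{ toFun := u, map_one' := ?_, map_mul' := ?_, map_zero' := ?_, map_add' := ?_, commutes' := ?_ },
    hu₁, hu₂⟩
  · exact eq_of_proj_mk X hN (by rw [hu₁, map_one, map_one]) (by rw [hu₂, map_one, map_one])
  · exact fun a b => eq_of_proj_mk X hN (by rw [hu₁, map_mul, map_mul, hu₁, hu₁])
      (by rw [hu₂, map_mul, map_mul, hu₂, hu₂])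
  · exact eq_of_proj_mk X hN (by rw [hu₁, map_zero, map_zero]) (by rw [hu₂, map_zero, map_zero])
  · exact fun a b => eq_of_proj_mk X hN (by rw [hu₁, map_add, map_add, hu₁, hu₁])
      (by rw [hu₂, map_add, map_add, hu₂, hu₂])
  · intro a
    exact eq_of_proj_mk X hN (by rw [hu₁, AlgHom.commutes, AlgHom.commutes])
      ((hu₂ _).trans ((h.commutes a).trans ((Ideal.Quotient.mkₐ Λ N).commutes a).symm))

/-- The map `E/m^n → R/m^n`. -/
noncomputable def truncProj (X : Exal.Ext Λ R L) [IsLocalRing X.E] (n : ℕ) :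
    X.E ⧸ 𝔪 X.E ^ n →ₐ[Λ] R ⧸ 𝔪 R ^ n :=
  Ideal.Quotient.liftₐ _ ((Ideal.Quotient.mkₐ Λ (𝔪 R ^ n)).comp X.proj) fun x hx =>
    Ideal.Quotient.eq_zero_iff_mem.2 ((map_pow_eq X n).le (Ideal.mem_map_of_mem _ hx))

omit [IsSimpleModule R L] in
lemma truncProj_mk (n : ℕ) (e : X.E) :
    truncProj X n (Ideal.Quotient.mk _ e) = Ideal.Quotient.mk _ (X.proj e) := rfl

omit [IsSimpleModule R L] in
lemma compat_of_truncProj {n : ℕ} {r : R} {b : X.E ⧸ 𝔪 X.E ^ n} (h : truncProj X n b = Ideal.Quotient.mk _ r) :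
    ∃ e, X.proj e = r ∧ Ideal.Quotient.mk (𝔪 X.E ^ n) e - b ∈ (RingHom.ker X.proj).map (Ideal.Quotient.mk _) := by
  obtain ⟨e₀, rfl⟩ := Ideal.Quotient.mk_surjective b
  rw [truncProj_mk, Ideal.Quotient.eq, ← map_pow_eq X n] at h
  obtain ⟨w, hw, hwe⟩ := (Ideal.mem_map_iff_of_surjective _ X.isExtension.proj_surjective).1 h
  refine ⟨e₀ - w, by rw [map_sub, hwe, sub_sub_cancel], ?_⟩
  rw [map_sub, Ideal.Quotient.eq_zero_iff_mem.2 hw, sub_zero, sub_self]
  exact zero_mem _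

/-- Truncations of the middle ring are Artinian local. -/
theorem isArtinian_quot [IsNoetherianRing R] {n : ℕ} (hn : n ≠ 0) :
    ∃ _ : IsLocalRing (X.E ⧸ 𝔪 X.E ^ n), IsArtinianRing (X.E ⧸ 𝔪 X.E ^ n) ∧
      ∀ e, Ideal.Quotient.mk (𝔪 X.E ^ n) e ∈ 𝔪 (X.E ⧸ 𝔪 X.E ^ n) ↔ e ∈ 𝔪 X.E := by
  haveI := isNoetherianRing_E X
  let N := 𝔪 X.E ^ n
  have hNm : N ≤ 𝔪 X.E := Ideal.pow_le_self hn
  haveI : Nontrivial (X.E ⧸ N) := Ideal.Quotient.nontrivial_iff.2
    fun e => (IsLocalRing.maximalIdeal.isMaximal X.E).ne_top (top_le_iff.1 (e ▸ hNm))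
  haveI : IsLocalRing (X.E ⧸ N) := IsLocalRing.of_surjective' (Ideal.Quotient.mk N) Ideal.Quotient.mk_surjective
  have hmq : ∀ e, Ideal.Quotient.mk N e ∈ 𝔪 (X.E ⧸ N) ↔ e ∈ 𝔪 X.E := fun e => by
    rw [IsLocalRing.mem_maximalIdeal, IsLocalRing.mem_maximalIdeal, mem_nonunits_iff, mem_nonunits_iff, not_iff_not]
    refine ⟨fun hu => ?_, fun hu => hu.map (Ideal.Quotient.mk N)⟩
    by_contra hne
    obtain ⟨w, hw⟩ := hu.exists_right_inv
    obtain ⟨w, rfl⟩ := Ideal.Quotient.mk_surjective w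
    rw [← map_mul, ← map_one (Ideal.Quotient.mk N), Ideal.Quotient.eq] at hw
    have h1 := sub_mem (Ideal.mul_mem_right w (𝔪 X.E) ((IsLocalRing.mem_maximalIdeal _).2 hne)) (hNm hw)
    rw [sub_sub_cancel] at h1
    exact (IsLocalRing.maximalIdeal.isMaximal X.E).ne_top ((Ideal.eq_top_iff_one _).2 h1)
  refine ⟨inferInstance, ?_, hmq⟩
  rw [isArtinianRing_iff_isNilpotent_maximalIdeal]
  refine ⟨n, ?_⟩
  rw [Ideal.zero_eq_bot, ← le_bot_iff]
  calc 𝔪 (X.E ⧸ N) ^ n ≤ ((𝔪 X.E).map (Ideal.Quotient.mk N)) ^ n :=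
        Ideal.pow_right_mono (fun x hx => by
          obtain ⟨e, rfl⟩ := Ideal.Quotient.mk_surjective x
          exact Ideal.mem_map_of_mem _ ((hmq e).1 hx)) _
    _ = N.map (Ideal.Quotient.mk N) := by rw [← Ideal.map_pow]
    _ ≤ ⊥ := (Ideal.map_quotient_self _).le

end Groth.ArtfunDeform.ExalLocal
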