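import Groth.Prelude.Def_Exal2
import Mathlib.Tactic.LinearCombination

/-!
Split extensions are equivalent.
-/

set_option linter.style.longLine false

universe u v

namespace Groth.ArtfunDeform.ExalSplit

variable {A : Type u} {B L : Type v} [CommRing A] [CommRing B] [Algebra A B] [AddCommGroup L] [Module B L]

theorem equiv_of_sections (X Y : Exal.Ext A B L) (s : B →ₐ[A] X.E) (hs : ∀ b, X.proj (s b) = b)
    (t : B →ₐ[A] Y.E) (ht : ∀ b, Y.proj (t b) = b) : Nonempty (X.Equiv Y) := by
  have hX : ∀ z, X.proj (X.incl z) = 0 := fun z => (X.isExtension.exact _).2 ⟨z, rfl⟩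
  have hY : ∀ z, Y.proj (Y.incl z) = 0 := fun z => (Y.isExtension.exact _).2 ⟨z, rfl⟩
  have hrep : ∀ x, ∃ z, X.incl z = x - s (X.proj x) := fun x =>
    (X.isExtension.exact _).1 (by rw [map_sub, hs, sub_self])
  choose ζ hζ using hrep
  have huniq : ∀ x b z, x = s b + X.incl z → X.proj x = b ∧ ζ x = z := fun x b z h => by
    have hb : X.proj x = b := by rw [h, map_add, hs, hX, add_zero]
    exact ⟨hb, X.isExtension.incl_injective (by rw [hζ, hb, h]; ring)⟩
  let F : X.E → Y.E := fun x => t (X.proj x) + Y.incl (ζ x)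
  have hF : ∀ b z, F (s b + X.incl z) = t b + Y.incl z := fun b z => by
    obtain ⟨h1, h2⟩ := huniq _ b z rfl
    simp only [F, h1, h2]
  have hx : ∀ x, s (X.proj x) + X.incl (ζ x) = x := fun x => by rw [hζ]; ring
  have hmul : ∀ (Z : Exal.Ext A B L) (r : B →ₐ[A] Z.E), (∀ b, Z.proj (r b) = b) → ∀ b c z w,
      (r b + Z.incl z) * (r c + Z.incl w) = r (b * c) + Z.incl (b • w + c • z) := fun Z r hr b c z w => by
    have h1 := Z.isExtension.mul_incl (r b) w
    have h2 := Z.isExtension.mul_incl (r c) z
    have h3 := Z.isExtension.mul_incl (Z.incl z) w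
    rw [(Z.isExtension.exact _).2 ⟨z, rfl⟩, zero_smul, map_zero] at h3
    rw [hr] at h1 h2
    rw [map_mul, map_add]
    linear_combination h1 + h2 + h3
  let Fh : X.E →ₐ[A] Y.E :=
    { toFun := F
      map_one' := by
        have := hF 1 0
        rwa [map_one, map_one, map_zero, map_zero, add_zero, add_zero] at this
      map_zero' := by
        have := hF 0 0
        rwa [map_zero, map_zero, map_zero, map_zero, add_zero, add_zero] at this
      map_add' := fun x y => by
        have := hF (X.proj x + X.proj y) (ζ x + ζ y)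
        rw [map_add, map_add, add_add_add_comm, hx, hx] at this
        rw [this, map_add, map_add, add_add_add_comm]
      map_mul' := fun x y => by
        have := hF (X.proj x * X.proj y) (X.proj x • ζ y + X.proj y • ζ x)
        rw [← hmul X s hs, hx, hx, ← hmul Y t ht] at this
        exact this
      commutes' := fun a => by
        have := hF (algebraMap A B a) 0
        rwa [s.commutes, t.commutes, map_zero, map_zero, add_zero, add_zero] at this }
  have hp : ∀ x, Y.proj (Fh x) = X.proj x := fun x => by
    change Y.proj (t (X.proj x) + Y.incl (ζ x)) = _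
    rw [map_add, ht, hY, add_zero]
  have hi : ∀ z, Fh (X.incl z) = Y.incl z := fun z => by
    have := hF 0 z
    rwa [map_zero, map_zero, zero_add, zero_add] at this
  have hbij : Function.Bijective Fh := by
    refine ⟨(injective_iff_map_eq_zero Fh).2 fun x hx' => ?_, fun y => ?_⟩
    · obtain ⟨z, rfl⟩ := (X.isExtension.exact x).1 (by rw [← hp, hx', map_zero])
      rw [hi] at hx'
      rw [Y.isExtension.incl_injective (hx'.trans (map_zero Y.incl).symm), map_zero]
    · obtain ⟨z, hz⟩ := (Y.isExtension.exact (y - t (Y.proj y))).1 (by rw [map_sub, ht, sub_self])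
      exact ⟨s (Y.proj y) + X.incl z, (hF _ _).trans (by rw [hz, add_sub_cancel])⟩
  exact ⟨⟨AlgEquiv.ofBijective Fh hbij, hp, hi⟩⟩

theorem isTrivial_of_equiv {X Y : Exal.Ext A B L} (e : X.Equiv Y) (h : Y.IsTrivial) : X.IsTrivial := by
  obtain ⟨s, hs⟩ := h
  refine ⟨e.toAlgEquiv.symm.toAlgHom.comp s, fun b => ?_⟩
  exact (e.symm.proj_apply (s b)).trans (hs b)

theorem exists_section_trivial :
    ∃ s : B →ₐ[A] (Exal.Ext.trivial A B L).E, ∀ b, (Exal.Ext.trivial A B L).proj (s b) = b := by
  letI := Exal.opModule B L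
  haveI := Exal.isCentralScalar_opModule B L
  exact ⟨{ toFun := TrivSqZeroExt.inl
           map_one' := rfl
           map_mul' := fun a b => (TrivSqZeroExt.inlHom B L).map_mul a b
           map_zero' := rfl
           map_add' := fun a b => TrivSqZeroExt.inl_add L a b
           commutes' := fun _ => rfl }, fun _ => rfl⟩

end Groth.ArtfunDeform.ExalSplit
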