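import Groth.Agent.ArtfunDeform.Schlessinger
import Mathlib.LinearAlgebra.TensorProduct.Pi

/-!
Under `H̄`, `H_ε` and `H`, a nonempty fibre of `F(B) → F(A)` along a semismall extension with kernel `J`
is in bijection with `t_F ⊗ J`.
-/

set_option linter.style.longLine false

universe u v

open CategoryTheory
open scoped TensorProduct

namespace Groth.ArtfunDeform.FibreTorsor

open ArtFun ArtFun.Art

variable {k : Type u} [Field k] {F : Art k k ⥤ Type v}

theorem elt_tsze_injective (h0 : H0 F) (h2 : Heps F) :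
    ∀ (n : ℕ), Function.Injective fun (w : F.obj (tszeArt k k (Fin n → k))) (i : Fin n) =>
      F.map (tszeHom (Λ := k) (M := Fin n → k) (N := k) (LinearMap.proj i) :
        tszeArt k k (Fin n → k) ⟶ dual k k) w := by
  intro n
  induction n with
  | zero =>
    have : IsIso (toBase (tszeArt k k (Fin 0 → k))) := isIso_of_bijective _
      ⟨fun a b h => TrivSqZeroExt.ext h (Subsingleton.elim _ _), (tszeArt k k (Fin 0 → k)).res_surjective⟩
    have := h0.2
    exact fun w w' _ => (bijective_map_of_isIso F (toBase (tszeArt k k (Fin 0 → k)))).1 (Subsingleton.elim _ _)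
  | succ n ih =>
    let head : tszeArt k k (Fin (n + 1) → k) ⟶ dual k k :=
      tszeHom (Λ := k) (M := Fin (n + 1) → k) (N := k) (LinearMap.proj 0)
    let tail : tszeArt k k (Fin (n + 1) → k) ⟶ tszeArt k k (Fin n → k) :=
      tszeHom (LinearMap.funLeft k k Fin.succ)
    have hfp : IsFibreProd tail head (toBase _) (toBase (dual k k)) := by
      refine ⟨by rw [eq_toBase (tail ≫ toBase _), eq_toBase (head ≫ toBase _)], fun x y e₁ e₂ => ?_, fun a b e => ?_⟩
      · refine TrivSqZeroExt.ext (congrArg (fun t : DualNumber k => TrivSqZeroExt.fst t) e₂) (funext fun i => ?_)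
        refine Fin.cases ?_ (fun j => ?_) i
        · exact congrArg (fun t : DualNumber k => TrivSqZeroExt.snd t) e₂
        · exact congrFun (congrArg (fun t : TrivSqZeroExt k (Fin n → k) => TrivSqZeroExt.snd t) e₁) j
      · refine ⟨((TrivSqZeroExt.fst (show TrivSqZeroExt k (Fin n → k) from a),
            Fin.cons (TrivSqZeroExt.snd (show DualNumber k from b))
              (TrivSqZeroExt.snd (show TrivSqZeroExt k (Fin n → k) from a))) :
              TrivSqZeroExt k (Fin (n + 1) → k)), TrivSqZeroExt.ext rfl ?_, TrivSqZeroExt.ext e rfl⟩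
        funext j
        exact Fin.cons_succ (α := fun _ => k) (TrivSqZeroExt.snd (show DualNumber k from b))
          (TrivSqZeroExt.snd (show TrivSqZeroExt k (Fin n → k) from a)) j
    intro w w' hw
    refine (cmp_injective_iff hfp).1 (h2 _ _ hfp).1 w w' (ih (funext fun j => ?_)) (congrFun hw 0)
    refine Eq.trans ?_ ((congrFun hw j.succ).trans ?_)
    · refine (map_map F _ _ w).trans ?_
      exact congrArg (fun t => F.map t w) (hom_ext_apply fun z => TrivSqZeroExt.ext rfl rfl)
    · refine Eq.trans ?_ (map_map F _ _ w').symm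
      exact congrArg (fun t => F.map t w') (hom_ext_apply fun z => TrivSqZeroExt.ext rfl rfl)

/-- Multiplication on the kernel of a semismall extension only depends on the residue. -/
theorem mul_ker_eq {B A : Art k k} {p : B ⟶ A} (hp : IsSemismallExt p) (b : B) {j : B} (hj : p j = 0) :
    b * j = algebraMap k B (B.res b) * j := by
  rw [← sub_eq_zero, ← sub_mul]
  have h : b - algebraMap k B (B.res b) ∈ IsLocalRing.maximalIdeal B := by
    rw [B.mem_maximalIdeal_iff, map_sub, AlgHom.commutes, Algebra.algebraMap_self, RingHom.id_apply, sub_self]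
  have := Ideal.mul_mem_mul h (show j ∈ RingHom.ker p.toAlgHom from hj)
  rwa [hp.2, Ideal.mem_bot] at this

theorem tsze_mul_eq_zero {n : ℕ} (a b : TrivSqZeroExt k (Fin n → k)) (ha : a.fst = 0) (hb : b.fst = 0) :
    a * b = 0 := by
  refine TrivSqZeroExt.ext ?_ ?_
  · rw [TrivSqZeroExt.fst_mul, ha, zero_mul, TrivSqZeroExt.fst_zero]
  · rw [TrivSqZeroExt.snd_mul, ha, hb, zero_smul, MulOpposite.op_zero, zero_smul, add_zero, TrivSqZeroExt.snd_zero]

/-- The fibre of a semismall extension. -/
theorem nonempty_fibre_equiv (h0 : H0 F) (h1 : Hbar F) (h2 : Heps F) (h4 : HSq F) [TangentStr F]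
    {B A : Art k k} (p : B ⟶ A) (hp : IsSemismallExt p) (x : F.obj A) (hne : ∃ y, F.map p y = x) :
    Nonempty ({y : F.obj B // F.map p y = x} ≃ (TangentSpace F ⊗[k] ↥(RingHom.ker p.toAlgHom))) := by
  classical
  obtain ⟨y₀, hy₀⟩ := hne
  let J : Submodule k B := LinearMap.ker p.toAlgHom.toLinearMap
  have : Module.Finite k J := inferInstance
  let n := Module.finrank k J
  let β : J ≃ₗ[k] (Fin n → k) := (Module.finBasis k J).equivFun
  obtain ⟨P, π₁, π₂, hP⟩ := exists_isFibreProd p p hp.1
  have hd : ∀ z : P, π₂ z - π₁ z ∈ J := fun z => by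
    show p.toAlgHom (π₂ z - π₁ z) = 0
    rw [map_sub, sub_eq_zero]
    exact (hP.w_apply z).symm
  let d : P →ₗ[k] J := (π₂.toAlgHom.toLinearMap - π₁.toAlgHom.toLinearMap).codRestrict J hd
  let g₀ : P →ₐ[k] TrivSqZeroExt k (Fin n → k) :=
    { toFun := fun z => (P.res z, β (d z))
      map_one' := TrivSqZeroExt.ext (map_one P.res) (by
        show β (d 1) = 0
        rw [show d 1 = 0 from Subtype.ext (show π₂ (1 : P) - π₁ (1 : P) = 0 by rw [map_one, map_one, sub_self])]
        exact map_zero β)
      map_mul' := fun z w => TrivSqZeroExt.ext (map_mul P.res z w) (by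
        show β (d (z * w)) = P.res z • β (d w) + MulOpposite.op (P.res w) • β (d z)
        rw [op_smul_eq_smul]
        refine (congrArg β (Subtype.ext ?_ : d (z * w) = P.res z • d w + P.res w • d z)).trans
          (by rw [map_add, map_smul, map_smul])
        show π₂ (z * w) - π₁ (z * w) = P.res z • (π₂ w - π₁ w) + P.res w • (π₂ z - π₁ z)
        rw [map_mul, map_mul, Algebra.smul_def, Algebra.smul_def, ← res_app π₂ z, ← res_app π₁ w,
          ← mul_ker_eq hp _ (hd w), ← mul_ker_eq hp _ (hd z)]
        ring)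
      map_zero' := TrivSqZeroExt.ext (map_zero P.res) (by
        show β (d 0) = 0
        rw [map_zero, map_zero])
      map_add' := fun z w => TrivSqZeroExt.ext (map_add P.res z w) (by
        show β (d (z + w)) = β (d z) + β (d w)
        rw [map_add, map_add])
      commutes' := fun c => TrivSqZeroExt.ext (P.res.commutes c) (by
        show β (d (algebraMap k P c)) = 0
        rw [show d (algebraMap k P c) = 0 from Subtype.ext (show π₂ (algebraMap k P c) - π₁ (algebraMap k P c) = 0 by rw [AlgHom.commutes, AlgHom.commutes, sub_self])]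
        exact map_zero β) }
  let g : P ⟶ tszeArt k k (Fin n → k) := ⟨g₀, AlgHom.ext fun _ => rfl⟩
  have hg : IsFibreProd π₁ g (toBase B) (toBase (tszeArt k k (Fin n → k))) := by
    refine ⟨by rw [eq_toBase (π₁ ≫ toBase _), eq_toBase (g ≫ toBase _)], fun z w e₁ e₂ => hP.inj z w e₁ ?_,
      fun b e hbe => ?_⟩
    · have h3 : d z = d w := β.injective (congrArg (fun t : TrivSqZeroExt k (Fin n → k) => t.snd) e₂)
      have h4 : π₂ z - π₁ z = π₂ w - π₁ w := congrArg Subtype.val h3
      rw [e₁] at h4
      exact sub_left_injective h4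
    · let e' : TrivSqZeroExt k (Fin n → k) := e
      let j : J := β.symm e'.snd
      obtain ⟨z, hz1, hz2⟩ := hP.surj b (b + j) (by
        rw [map_add, show p (j : B) = 0 from j.2, add_zero])
      refine ⟨z, hz1, TrivSqZeroExt.ext ?_ ?_⟩
      · show P.res z = e'.fst
        rw [← res_app π₁ z, hz1]
        exact hbe
      · show β (d z) = e'.snd
        rw [show d z = j from Subtype.ext (show π₂ z - π₁ z = (j : B) by rw [hz1, hz2, add_sub_cancel_left])]
        exact β.apply_symm_apply _
  have hPb := cmp_bijective_of_hsq h1 h2 h4 hP hp.1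
  have hgb : Function.Bijective (cmp F hg) := by
    refine cmp_bijective_of_heps h2 (baseToTsze n) ?_ hg
    refine eq_bot_iff.2 ?_
    rw [sq, Ideal.mul_le]
    intro a ha b hb
    rw [Ideal.mem_bot]
    have ha' : TrivSqZeroExt.fst (R := k) (M := Fin n → k) a = 0 := (mem_maximalIdeal_iff _ a).1 ha
    have hb' : TrivSqZeroExt.fst (R := k) (M := Fin n → k) b = 0 := (mem_maximalIdeal_iff _ b).1 hb
    exact tsze_mul_eq_zero (n := n) _ _ ha' hb'
  -- the translations of `y₀`
  let Z := {z : F.obj P // F.map π₁ z = y₀}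
  let toFib : Z → {y : F.obj B // F.map p y = x} := fun z => ⟨F.map π₂ z.1, by
    rw [map_map, ← hP.w, ← map_map, z.2, hy₀]⟩
  have hbij1 : Function.Bijective toFib := by
    refine ⟨fun z w e => Subtype.ext ((cmp_injective_iff hP).1 hPb.1 _ _ (z.2.trans w.2.symm)
      (congrArg Subtype.val e)), fun y => ?_⟩
    obtain ⟨z, hz1, hz2⟩ := (cmp_surjective_iff hP).1 hPb.2 y₀ y.1 (hy₀.trans y.2.symm)
    exact ⟨⟨z, hz1⟩, Subtype.ext hz2⟩
  have hbij2 : Function.Bijective fun z : Z => F.map g z.1 := by
    refine ⟨fun z w e => Subtype.ext ((cmp_injective_iff hg).1 hgb.1 _ _ (z.2.trans w.2.symm) e), fun e => ?_⟩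
    obtain ⟨z, hz1, hz2⟩ := (cmp_surjective_iff hg).1 hgb.2 y₀ e (@Subsingleton.elim _ h0.2 _ _)
    exact ⟨⟨z, hz1⟩, hz2⟩
  have hbij3 : Function.Bijective fun (w : F.obj (tszeArt k k (Fin n → k))) (i : Fin n) =>
      (TangentSpace.mk (F.map (tszeHom (Λ := k) (M := Fin n → k) (N := k) (LinearMap.proj i) :
        tszeArt k k (Fin n → k) ⟶ dual k k) w) : TangentSpace F) :=
    ⟨elt_tsze_injective h0 h2 n, fun θ => (exists_elt_tsze h0 h2 n θ).imp fun _ h => funext h⟩
  have e : J ≃ₗ[k] ↥(RingHom.ker p.toAlgHom) :=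
    { toFun := fun j => ⟨j.1, j.2⟩, invFun := fun j => ⟨j.1, j.2⟩, map_add' := fun _ _ => rfl,
      map_smul' := fun _ _ => rfl, left_inv := fun _ => rfl, right_inv := fun _ => rfl }
  exact ⟨(((Equiv.ofBijective _ hbij1).symm.trans (Equiv.ofBijective _ hbij2)).trans
    (Equiv.ofBijective _ hbij3)).trans
      ((TensorProduct.piScalarRight k k (TangentSpace F) (Fin n)).symm.trans
        (TensorProduct.congr (LinearEquiv.refl k _) (β.symm.trans e))).toEquiv⟩

end Groth.ArtfunDeform.FibreTorsor
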