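import Groth.Agent.ArtfunDeform.RegFlat
import Mathlib.RingTheory.Nakayama

/-!
Quotients of flat modules over an Artinian local ring: `M/K` is flat once `K ∩ mM = mK`.
-/

set_option autoImplicit false

noncomputable section

universe u v w

open TensorProduct IsLocalRing

namespace Groth.ArtfunDeform.FlatQuot

variable {R : Type u} [CommRing R] [IsLocalRing R]
variable {M : Type v} [AddCommGroup M] [Module R M] [Module.Flat R M]
  {M₁ : Type w} [AddCommGroup M₁] [Module R M₁] (f : M₁ →ₗ[R] M)

/-- injective after tensoring with a module killed by the maximal ideal -/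
theorem injective_killed (hk : Function.Injective (LinearMap.lTensor (ResidueField R) f))
    (N : Type u) [AddCommGroup N] [Module R N] (hN : ∀ a ∈ maximalIdeal R, ∀ x : N, a • x = 0) :
    Function.Injective (LinearMap.lTensor N f) := by
  classical
  letI : Module (ResidueField R) N := Module.IsTorsionBySet.module (I := maximalIdeal R) (fun x a => hN a a.2 x)
  haveI : IsScalarTower R (ResidueField R) N := IsScalarTower.of_algebraMap_smul fun _ _ => rfl
  let e := AlgebraTensorModule.cancelBaseChange R (ResidueField R) (ResidueField R) N M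
  let e₁ := AlgebraTensorModule.cancelBaseChange R (ResidueField R) (ResidueField R) N M₁
  have hb : Function.Injective (LinearMap.lTensor N (f.baseChange (ResidueField R))) := by
    haveI : Module.Free (ResidueField R) N := Module.Free.of_divisionRing _ _
    haveI : Module.Flat (ResidueField R) N := Module.Flat.of_free
    refine Module.Flat.lTensor_preserves_injective_linearMap _ ?_
    intro a b h
    exact hk h
  have hc : ∀ z, LinearMap.lTensor N f (e₁ z) = e (LinearMap.lTensor N (f.baseChange (ResidueField R)) z) := by
    intro z
    induction z using TensorProduct.induction_on with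
    | zero => simp
    | tmul n w =>
      induction w using TensorProduct.induction_on with
      | zero => simp
      | tmul a m => simp [e, e₁]
      | add a b ha hb => simp only [tmul_add, map_add, ha, hb]
    | add a b ha hb => simp only [map_add, ha, hb]
  intro a b hab
  obtain ⟨a, rfl⟩ := e₁.surjective a
  obtain ⟨b, rfl⟩ := e₁.surjective b
  rw [hc, hc] at hab
  rw [hb (e.injective hab)]

theorem injective_all [IsArtinianRing R] (hk : Function.Injective (LinearMap.lTensor (ResidueField R) f))
    (N : Type u) [AddCommGroup N] [Module R N] : Function.Injective (LinearMap.lTensor N f) := by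
  obtain ⟨n, hn⟩ := IsArtinianRing.isNilpotent_jacobson_bot (R := R)
  rw [IsLocalRing.jacobson_eq_maximalIdeal ⊥ bot_ne_top] at hn
  suffices H : ∀ (n : ℕ) (N : Type u) [AddCommGroup N] [Module R N],
      maximalIdeal R ^ n • (⊤ : Submodule R N) = ⊥ → Function.Injective (LinearMap.lTensor N f) from
    H n N (by rw [hn]; exact Submodule.bot_smul _)
  intro n
  induction n with
  | zero =>
    intro N _ _ h
    refine injective_killed f hk N fun a _ x => ?_
    have hx : a • x ∈ maximalIdeal R ^ 0 • (⊤ : Submodule R N) := by simp
    rwa [h, Submodule.mem_bot] at hx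
  | succ n ih =>
    intro N _ _ h
    set N1 : Submodule R N := maximalIdeal R • ⊤ with hN1
    have h1 : Function.Injective (LinearMap.lTensor N1 f) := by
      refine ih N1 ?_
      apply Submodule.map_injective_of_injective N1.injective_subtype
      rw [Submodule.map_smul'', Submodule.map_subtype_top, Submodule.map_bot]
      rw [hN1, ← Submodule.smul_assoc, Ideal.smul_eq_mul, ← pow_succ]
      exact h
    have h2 : Function.Injective (LinearMap.lTensor (N ⧸ N1) f) := by
      refine injective_killed f hk _ fun a ha x => ?_
      obtain ⟨y, rfl⟩ := N1.mkQ_surjective x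
      rw [← map_smul]
      exact (Submodule.Quotient.mk_eq_zero _).mpr (Submodule.smul_mem_smul ha trivial)
    rw [injective_iff_map_eq_zero]
    intro z hz
    have hπ : LinearMap.rTensor M₁ N1.mkQ z = 0 := by
      apply h2
      rw [map_zero]
      have := LinearMap.congr_fun ((LinearMap.lTensor_comp_rTensor _ N1.mkQ f).trans (LinearMap.rTensor_comp_lTensor _ N1.mkQ f).symm) z
      simp only [LinearMap.comp_apply, hz, map_zero] at this
      exact this
    obtain ⟨w, rfl⟩ := (rTensor_exact M₁ (LinearMap.exact_subtype_mkQ N1) N1.mkQ_surjective z).mp hπ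
    have := LinearMap.congr_fun ((LinearMap.lTensor_comp_rTensor _ N1.subtype f).trans (LinearMap.rTensor_comp_lTensor _ N1.subtype f).symm) w
    simp only [LinearMap.comp_apply] at this
    rw [this] at hz
    have hw := Module.Flat.rTensor_preserves_injective_linearMap (M := M) N1.subtype N1.injective_subtype
      (hz.trans (map_zero _).symm)
    rw [h1 (hw.trans (map_zero _).symm), map_zero]

/-- the cokernel of a universally injective endomorphism of a flat module is flat -/
theorem flat_coker (hall : ∀ (N : Type u) [AddCommGroup N] [Module R N], Function.Injective (LinearMap.lTensor N f)) :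
    Module.Flat R (M ⧸ LinearMap.range f) := by
  rw [Module.Flat.iff_rTensor_preserves_injective_linearMap'.{u}]
  intro N' N _ _ _ _ ι hι
  rw [injective_iff_map_eq_zero]
  intro z hz
  obtain ⟨w, rfl⟩ := LinearMap.lTensor_surjective N' (LinearMap.range f).mkQ_surjective z
  have hcomm : ∀ (A B : Type u) [AddCommGroup A] [Module R A] [AddCommGroup B] [Module R B] (h : A →ₗ[R] B)
      (g : M₁ →ₗ[R] M) (v : A ⊗[R] M₁),
      LinearMap.lTensor B g (LinearMap.rTensor M₁ h v) = LinearMap.rTensor M h (LinearMap.lTensor A g v) := by
    intro A B _ _ _ _ h g v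
    rw [← LinearMap.comp_apply, ← LinearMap.comp_apply, LinearMap.lTensor_comp_rTensor, LinearMap.rTensor_comp_lTensor]
  have hex : Function.Exact f (LinearMap.range f).mkQ := LinearMap.exact_map_mkQ_range f
  have h0 : LinearMap.lTensor N (LinearMap.range f).mkQ (LinearMap.rTensor M ι w) = 0 := by
    have := LinearMap.congr_fun ((LinearMap.lTensor_comp_rTensor _ ι (LinearMap.range f).mkQ).trans
      (LinearMap.rTensor_comp_lTensor _ ι (LinearMap.range f).mkQ).symm) w
    simp only [LinearMap.comp_apply] at this
    rw [this, hz]
  obtain ⟨v, hv⟩ := (lTensor_exact N hex (LinearMap.range f).mkQ_surjective _).mp h0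
  have hv2 : LinearMap.rTensor M₁ (LinearMap.range ι).mkQ v = 0 := by
    apply hall (N ⧸ LinearMap.range ι)
    rw [map_zero, hcomm, hv, ← LinearMap.rTensor_comp_apply, (LinearMap.exact_map_mkQ_range ι).linearMap_comp_eq_zero]
    simp
  obtain ⟨v', hv'⟩ := (rTensor_exact M₁ (LinearMap.exact_map_mkQ_range ι) (LinearMap.range ι).mkQ_surjective v).mp hv2
  rw [← hv', hcomm] at hv
  have hw := Module.Flat.rTensor_preserves_injective_linearMap (M := M) ι hι hv
  rw [← hw, ← LinearMap.lTensor_comp_apply, hex.linearMap_comp_eq_zero]
  simp

/-- the criterion -/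
theorem flat_quotient [IsArtinianRing R] (K : Submodule R M)
    (h : ∀ x ∈ K, x ∈ maximalIdeal R • (⊤ : Submodule R M) → x ∈ maximalIdeal R • K) :
    Module.Flat R (M ⧸ K) := by
  have hk : Function.Injective (LinearMap.lTensor (R ⧸ maximalIdeal R) K.subtype) := by
    rw [injective_iff_map_eq_zero]
    intro z hz
    let e := TensorProduct.quotTensorEquivQuotSMul K (maximalIdeal R)
    obtain ⟨x, hx⟩ := Submodule.Quotient.mk_surjective _ (e z)
    have hz' : z = (1 : R ⧸ maximalIdeal R) ⊗ₜ[R] x := by
      apply e.injective
      rw [← hx]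
      change _ = e (Ideal.Quotient.mk (maximalIdeal R) 1 ⊗ₜ[R] x)
      rw [TensorProduct.quotTensorEquivQuotSMul_mk_tmul, one_smul]
    rw [hz', LinearMap.lTensor_tmul] at hz
    let e' := TensorProduct.quotTensorEquivQuotSMul M (maximalIdeal R)
    have h1 : e' ((Ideal.Quotient.mk (maximalIdeal R) 1) ⊗ₜ[R] K.subtype x) = 0 := by
      rw [map_one]
      erw [hz]
      exact map_zero e'
    rw [TensorProduct.quotTensorEquivQuotSMul_mk_tmul, one_smul, Submodule.Quotient.mk_eq_zero] at h1
    have h2 := h _ x.2 h1
    have hK : maximalIdeal R • K = (maximalIdeal R • (⊤ : Submodule R K)).map K.subtype := by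
      rw [Submodule.map_smul'', Submodule.map_subtype_top]
    rw [hK] at h2
    obtain ⟨y, hy, hyx⟩ := h2
    apply e.injective
    rw [map_zero, ← hx, Submodule.Quotient.mk_eq_zero]
    rwa [← Subtype.ext (hyx : (y : M) = x)]
  have := flat_coker K.subtype (fun N [AddCommGroup N] [Module R N] => injective_all K.subtype hk N)
  exact Module.Flat.of_linearEquiv (Submodule.quotEquivOfEq _ _ K.range_subtype.symm)

end Groth.ArtfunDeform.FlatQuot
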