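import Groth.Agent.ArtfunDeform.Smooth
import Groth.Prelude.Def_ArtFun5
import Mathlib.RingTheory.AdicCompletion.RingHom

/-!
Formal elements and families; maps into complete coefficient rings; versal families.
-/

set_option linter.style.haveILetI false
set_option linter.style.longLine false

universe u v

open CategoryTheory

namespace Groth.ArtfunDeform

open ArtFun ArtFun.Art

variable {Λ : Type u} {k : Type u} [CommRing Λ] [Field k] [Algebra Λ k]

local notation "𝔪" => IsLocalRing.maximalIdeal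

instance (R : CRing Λ k) : IsAdicComplete (𝔪 R.carrier) R.carrier := R.isAdicComplete

section HomSet

variable {R : Type u} [CommRing R] [Algebra Λ R] {resR : R →ₐ[Λ] k}

lemma homSet_res {A : Art Λ k} (φ : HomSet R resR A) (r : R) : A.res (φ.1 r) = resR r :=
  congrArg (fun f : R →ₐ[Λ] k => f r) φ.2

lemma homSet_ext {A : Art Λ k} {φ ψ : HomSet R resR A} (h : ∀ r, φ.1 r = ψ.1 r) : φ = ψ :=
  Subtype.ext (AlgHom.ext h)

lemma homSet_map_map {A B C : Art Λ k} (f : A ⟶ B) (g : B ⟶ C) (φ : HomSet R resR A) :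
    HomSet.map g (HomSet.map f φ) = HomSet.map (f ≫ g) φ := rfl

lemma homSet_map_id {A : Art Λ k} (φ : HomSet R resR A) : HomSet.map (𝟙 A) φ = φ :=
  homSet_ext fun _ => rfl

instance subsingleton_homSet_base : Subsingleton (HomSet R resR (base Λ k)) :=
  ⟨fun φ ψ => homSet_ext fun r => (homSet_res φ r).trans (homSet_res ψ r).symm⟩

/-- The point of `h_R(k)`. -/
def homSetBase : HomSet R resR (base Λ k) := ⟨resR, AlgHom.id_comp _⟩

/-- `h_R` takes fibre products to fibre products. -/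
lemma homSet_lift {B A A' A'' : Art Λ k} {p' : B ⟶ A'} {p'' : B ⟶ A''} {f' : A' ⟶ A} {f'' : A'' ⟶ A}
    (h : IsFibreProd p' p'' f' f'') (φ' : HomSet R resR A') (φ'' : HomSet R resR A'')
    (e : HomSet.map f' φ' = HomSet.map f'' φ'') :
    ∃ φ : HomSet R resR B, HomSet.map p' φ = φ' ∧ HomSet.map p'' φ = φ'' := by
  have e' : ∀ r, f' (φ'.1 r) = f'' (φ''.1 r) := fun r =>
    congrArg (fun t : HomSet R resR A => t.1 r) e
  choose β h1 h2 using fun r => h.surj (φ'.1 r) (φ''.1 r) (e' r)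
  refine ⟨⟨{ toFun := β
             map_one' := h.inj _ _ (by rw [h1]; simp) (by rw [h2]; simp)
             map_mul' := fun x y => h.inj _ _ (by rw [h1, map_mul, map_mul, h1, h1])
               (by rw [h2, map_mul, map_mul, h2, h2])
             map_zero' := h.inj _ _ (by rw [h1]; simp) (by rw [h2]; simp)
             map_add' := fun x y => h.inj _ _ (by rw [h1, map_add, map_add, h1, h1])
               (by rw [h2, map_add, map_add, h2, h2])
             commutes' := fun r => h.inj _ _ (by rw [h1]; simp) (by rw [h2]; simp) },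
           AlgHom.ext fun r => ?_⟩, homSet_ext h1, homSet_ext h2⟩
  change B.res (β r) = resR r
  rw [← res_app p', h1, homSet_res]

lemma homSet_map_injective {B A A' A'' : Art Λ k} {p' : B ⟶ A'} {p'' : B ⟶ A''} {f' : A' ⟶ A}
    {f'' : A'' ⟶ A} (h : IsFibreProd p' p'' f' f'') {φ ψ : HomSet R resR B}
    (h₁ : HomSet.map p' φ = HomSet.map p' ψ) (h₂ : HomSet.map p'' φ = HomSet.map p'' ψ) : φ = ψ :=
  homSet_ext fun r => h.inj _ _ (congrArg (fun t : HomSet R resR A' => t.1 r) h₁)
    (congrArg (fun t : HomSet R resR A'' => t.1 r) h₂)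

lemma app_natural {F : Art Λ k ⥤ Type v} (ξ : Family R resR F) {A B : Art Λ k} (f : A ⟶ B)
    (φ : HomSet R resR A) : F.map f (ξ.app A φ) = ξ.app B (HomSet.map f φ) := (ξ.natural f φ).symm

lemma family_ext {F : Art Λ k ⥤ Type v} {ξ η : Family R resR F}
    (h : ∀ A φ, ξ.app A φ = η.app A φ) : ξ = η := by
  cases ξ; cases η; congr; funext A φ; exact h A φ

end HomSet

section Trunc

variable (R : CRing Λ k)

/-- The truncation morphisms `R/m^(n+1) → R/m^(m+1)`. -/
noncomputable def truncLE {m n : ℕ} (h : m ≤ n) : R.trunc n ⟶ R.trunc m :=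
  ⟨Ideal.Quotient.liftₐ (CRing.mpow R n) (Ideal.Quotient.mkₐ Λ (CRing.mpow R m)) (fun _ ha =>
      Ideal.Quotient.eq_zero_iff_mem.2 (Ideal.pow_le_pow_right (Nat.succ_le_succ h) ha)), by
    apply AlgHom.ext
    intro x
    obtain ⟨a, rfl⟩ := Ideal.Quotient.mk_surjective x
    rfl⟩

lemma truncHom_surjective (n : ℕ) : Function.Surjective (R.truncHom n).1 :=
  Ideal.Quotient.mk_surjective

lemma truncHom_eq_zero_iff (n : ℕ) (r : R.carrier) :
    (R.truncHom n).1 r = 0 ↔ r ∈ CRing.mpow R n :=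
  Ideal.Quotient.eq_zero_iff_mem

lemma truncHom_cancel {n : ℕ} {A : Art Λ k} {u v : R.trunc n ⟶ A}
    (h : HomSet.map u (R.truncHom n) = HomSet.map v (R.truncHom n)) : u = v :=
  hom_ext_apply fun x => by
    obtain ⟨r, rfl⟩ := truncHom_surjective R n x
    exact congrArg (fun t : HomSet R.carrier R.res A => t.1 r) h

lemma map_truncLE_truncHom {m n : ℕ} (h : m ≤ n) : HomSet.map (truncLE R h) (R.truncHom n) = R.truncHom m :=
  homSet_ext fun _ => rfl

lemma truncMap_eq_truncLE (n : ℕ) : R.truncMap n = truncLE R (Nat.le_succ n) :=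
  truncHom_cancel R (by rw [CRing.truncMap_truncHom, map_truncLE_truncHom])

lemma truncLE_surjective {m n : ℕ} (h : m ≤ n) : Function.Surjective (truncLE R h) := fun x => by
  obtain ⟨r, rfl⟩ := truncHom_surjective R m x
  exact ⟨(R.truncHom n).1 r, rfl⟩

lemma truncMap_surjective (n : ℕ) : Function.Surjective (R.truncMap n) := by
  rw [truncMap_eq_truncLE]
  exact truncLE_surjective R _

lemma truncLE_refl (n : ℕ) : truncLE R (le_refl n) = 𝟙 _ :=
  truncHom_cancel R (by rw [map_truncLE_truncHom, homSet_map_id])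

lemma truncLE_comp {l m n : ℕ} (h : l ≤ m) (h' : m ≤ n) :
    truncLE R h' ≫ truncLE R h = truncLE R (h.trans h') :=
  truncHom_cancel R (by rw [← homSet_map_map, map_truncLE_truncHom, map_truncLE_truncHom, map_truncLE_truncHom])

lemma isIso_toBase_trunc_zero : IsIso (toBase (R.trunc 0)) := by
  refine isIso_of_bijective _ ⟨fun x y h => ?_, (R.trunc 0).res_surjective⟩
  obtain ⟨a, rfl⟩ := truncHom_surjective R 0 x
  obtain ⟨b, rfl⟩ := truncHom_surjective R 0 y
  have h' : R.res a = R.res b := h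
  rw [← sub_eq_zero, ← map_sub, truncHom_eq_zero_iff]
  simp only [CRing.mpow, zero_add, pow_one]
  rw [CRing.mem_maximalIdeal_iff, map_sub, h', sub_self]

lemma map_toBase_trunc_injective (F : Art Λ k ⥤ Type v) :
    Function.Injective (F.map (toBase (R.trunc 0))) :=
  haveI := isIso_toBase_trunc_zero R
  (bijective_map_of_isIso F _).1

variable {R}

lemma exists_factor_trunc {A : Art Λ k} (φ : HomSet R.carrier R.res A) :
    ∃ (n : ℕ) (u : R.trunc n ⟶ A), HomSet.map u (R.truncHom n) = φ := by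
  obtain ⟨n, hn⟩ := exists_pow_maximalIdeal_eq_bot A
  have hm : (𝔪 R.carrier).map φ.1 ≤ 𝔪 A := Ideal.map_le_iff_le_comap.2 fun r hr => by
    rw [Ideal.mem_comap, A.mem_maximalIdeal_iff, homSet_res, ← CRing.mem_maximalIdeal_iff]
    exact hr
  have hk : ∀ r ∈ CRing.mpow R n, φ.1 r = 0 := fun r hr => by
    have : φ.1 r ∈ (𝔪 A) ^ (n + 1) := Ideal.pow_right_mono hm (n + 1)
      (by rw [← Ideal.map_pow]; exact Ideal.mem_map_of_mem _ hr)
    rwa [hn, Ideal.mem_bot] at this
  refine ⟨n, ⟨Ideal.Quotient.liftₐ (CRing.mpow R n) φ.1 hk, ?_⟩, homSet_ext fun _ => rfl⟩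
  apply AlgHom.ext
  intro x
  obtain ⟨a, rfl⟩ := Ideal.Quotient.mk_surjective x
  exact homSet_res φ a

variable {F : Art Λ k ⥤ Type v}

lemma formalElt_map_le (u : FormalElt F R) {m n : ℕ} (h : m ≤ n) :
    F.map (truncLE R h) (u.elt n) = u.elt m := by
  induction n, h using Nat.le_induction with
  | base => rw [truncLE_refl, map_id']
  | succ n h ih => rw [← truncLE_comp R h (Nat.le_succ n), ← map_map, ← truncMap_eq_truncLE, u.compat, ih]

lemma formalElt_indep (u : FormalElt F R) {A : Art Λ k} {m n : ℕ} (a : R.trunc m ⟶ A) (b : R.trunc n ⟶ A)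
    (h : HomSet.map a (R.truncHom m) = HomSet.map b (R.truncHom n)) :
    F.map a (u.elt m) = F.map b (u.elt n) := by
  wlog hmn : m ≤ n generalizing m n a b
  · exact (this b a h.symm (le_of_not_ge hmn)).symm
  rw [← formalElt_map_le u hmn, map_map]
  exact congrArg (fun w => F.map w (u.elt n)) (truncHom_cancel R (by rw [← homSet_map_map, map_truncLE_truncHom, h]))

/-- The family of a formal element. -/
noncomputable def familyOf (u : FormalElt F R) : Family R.carrier R.res F where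
  app A φ := F.map (exists_factor_trunc φ).choose_spec.choose (u.elt (exists_factor_trunc φ).choose)
  natural {A B} f φ := by
    rw [map_map]
    refine formalElt_indep u _ _ ?_
    rw [(exists_factor_trunc (HomSet.map f φ)).choose_spec.choose_spec, ← homSet_map_map,
      (exists_factor_trunc φ).choose_spec.choose_spec]

lemma familyOf_toFormalElt (u : FormalElt F R) : (familyOf u).toFormalElt = u := by
  refine FormalElt.ext' fun n => ?_
  change F.map (exists_factor_trunc (R.truncHom n)).choose_spec.choose _ = _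
  rw [formalElt_indep u _ (𝟙 (R.trunc n))
    ((exists_factor_trunc (R.truncHom n)).choose_spec.choose_spec.trans (homSet_map_id _).symm), map_id']

lemma toFormalElt_injective : Function.Injective (fun ξ : Family R.carrier R.res F => ξ.toFormalElt) := by
  intro ξ η h
  refine family_ext fun A φ => ?_
  obtain ⟨n, w, rfl⟩ := exists_factor_trunc φ
  rw [← app_natural, ← app_natural]
  exact congrArg (F.map w) (congrArg (fun t : FormalElt F R => t.elt n) h)

lemma toFormalElt_bijective : Function.Bijective (fun ξ : Family R.carrier R.res F => ξ.toFormalElt) :=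
  ⟨toFormalElt_injective, fun u => ⟨familyOf u, familyOf_toFormalElt u⟩⟩

end Trunc

section IntoCRing

variable {R : Type u} [CommRing R] [Algebra Λ R] {resR : R →ₐ[Λ] k} {S : CRing Λ k}

/-- A map into a coefficient ring, seen in its truncations. -/
noncomputable def truncOfHom (g : R →ₐ[Λ] S.carrier) (hg : S.res.comp g = resR) (n : ℕ) :
    HomSet R resR (S.trunc n) :=
  ⟨(S.truncHom n).1.comp g, by rw [← AlgHom.comp_assoc, (S.truncHom n).2, hg]⟩

lemma hom_ext_trunc {g₁ g₂ : R →ₐ[Λ] S.carrier}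
    (h : ∀ n, (S.truncHom n).1.comp g₁ = (S.truncHom n).1.comp g₂) : g₁ = g₂ := by
  refine IsAdicComplete.algHom_ext (𝔪 S.carrier) fun n => AlgHom.ext fun r => ?_
  have : (S.truncHom n).1 (g₁ r - g₂ r) = 0 := by
    rw [map_sub, show (S.truncHom n).1 (g₁ r) = (S.truncHom n).1 (g₂ r) from
      congrArg (fun f : R →ₐ[Λ] S.trunc n => f r) (h n), sub_self]
  rw [truncHom_eq_zero_iff] at this
  exact Ideal.Quotient.eq.2 (Ideal.pow_le_pow_right (Nat.le_succ n) this)

theorem exists_hom_of_truncs (φ : ∀ n, HomSet R resR (S.trunc n))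
    (h : ∀ n, HomSet.map (S.truncMap n) (φ (n + 1)) = φ n) :
    ∃ (g : R →ₐ[Λ] S.carrier) (hg : S.res.comp g = resR), ∀ n, truncOfHom g hg n = φ n := by
  have hle : ∀ {m n : ℕ} (hmn : m ≤ n), HomSet.map (truncLE S hmn) (φ n) = φ m := by
    intro m n hmn
    induction n, hmn using Nat.le_induction with
    | base => rw [truncLE_refl, homSet_map_id]
    | succ n hmn ih =>
      rw [← truncLE_comp S hmn (Nat.le_succ n), ← homSet_map_map, ← truncMap_eq_truncLE, h, ih]
  let f : (n : ℕ) → R →ₐ[Λ] S.carrier ⧸ (𝔪 S.carrier) ^ n := fun n =>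
    (Ideal.Quotient.factorₐ Λ (Ideal.pow_le_pow_right (Nat.le_succ n))).comp
      ((φ n).1 : R →ₐ[Λ] S.carrier ⧸ CRing.mpow S n)
  have hf : ∀ {m n : ℕ} (hmn : m ≤ n),
      (Ideal.Quotient.factorₐ Λ (Ideal.pow_le_pow_right hmn)).comp (f n) = f m := by
    intro m n hmn
    refine AlgHom.ext fun r => ?_
    simp only [f, ← hle hmn]
    obtain ⟨a, ha⟩ := truncHom_surjective S n ((φ n).1 r)
    change Ideal.Quotient.factorₐ Λ (Ideal.pow_le_pow_right hmn)
        (Ideal.Quotient.factorₐ Λ (Ideal.pow_le_pow_right (Nat.le_succ n))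
          ((φ n).1 r : S.carrier ⧸ CRing.mpow S n)) =
      Ideal.Quotient.factorₐ Λ (Ideal.pow_le_pow_right (Nat.le_succ m))
        ((truncLE S hmn) ((φ n).1 r) : S.carrier ⧸ CRing.mpow S m)
    rw [← ha]
    rfl
  let g := IsAdicComplete.liftAlgHom (𝔪 S.carrier) f hf
  have key : ∀ (n : ℕ) (r : R), (S.truncHom n).1 (g r) = (φ n).1 r := fun n r => by
    obtain ⟨a, ha⟩ := truncHom_surjective S (n + 1) ((φ (n + 1)).1 r)
    have h1 : Ideal.Quotient.mk ((𝔪 S.carrier) ^ (n + 1)) (g r) = f (n + 1) r :=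
      IsAdicComplete.mk_liftAlgHom _ f hf (n + 1) r
    rw [← h n]
    change _ = S.truncMap n ((φ (n + 1)).1 r)
    rw [← ha]
    refine h1.trans ?_
    change Ideal.Quotient.factorₐ Λ (Ideal.pow_le_pow_right (Nat.le_succ (n + 1)))
      ((φ (n + 1)).1 r : S.carrier ⧸ CRing.mpow S (n + 1)) = _
    rw [← ha]
    rfl
  have hg : S.res.comp g = resR := AlgHom.ext fun r => by
    have h1 : (S.trunc 0).res ((S.truncHom 0).1 (g r)) = S.res (g r) := homSet_res (S.truncHom 0) (g r)
    change S.res (g r) = resR r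
    rw [← h1, key, homSet_res]
  exact ⟨g, hg, fun n => homSet_ext (key n)⟩

variable {F : Art Λ k ⥤ Type v}

lemma along_toFormalElt (ξ : Family R resR F) (g : R →ₐ[Λ] S.carrier) (hg : S.res.comp g = resR) (n : ℕ) :
    (ξ.along g hg).toFormalElt.elt n = ξ.app _ (truncOfHom g hg n) := rfl

/-- Formal elements are induced from versal families. -/
theorem exists_along_of_versal (ξ : Family R resR F) (hξ : IsVersal ξ)
    (h0 : Subsingleton (F.obj (base Λ k))) (η : FormalElt F S) :
    ∃ (g : R →ₐ[Λ] S.carrier) (hg : S.res.comp g = resR), (ξ.along g hg).toFormalElt = η := by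
  haveI := isIso_toBase_trunc_zero S
  have base' : ∃ φ : HomSet R resR (S.trunc 0), ξ.app _ φ = η.elt 0 :=
    ⟨HomSet.map (inv (toBase (S.trunc 0))) homSetBase,
      map_toBase_trunc_injective S F (Subsingleton.elim _ _)⟩
  have step : ∀ n, ∀ φ : HomSet R resR (S.trunc n), ξ.app _ φ = η.elt n →
      ∃ ψ : HomSet R resR (S.trunc (n + 1)), HomSet.map (S.truncMap n) ψ = φ ∧ ξ.app _ ψ = η.elt (n + 1) :=
    fun n φ hφ => hξ (S.truncMap n) (truncMap_surjective S n) φ _ (by rw [η.compat, hφ])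
  let seq : ∀ n, {φ : HomSet R resR (S.trunc n) // ξ.app _ φ = η.elt n} := fun n =>
    Nat.rec ⟨base'.choose, base'.choose_spec⟩
      (fun n p => ⟨(step n p.1 p.2).choose, (step n p.1 p.2).choose_spec.2⟩) n
  obtain ⟨g, hg, hgn⟩ := exists_hom_of_truncs (fun n => (seq n).1)
    (fun n => (step n (seq n).1 (seq n).2).choose_spec.1)
  refine ⟨g, hg, FormalElt.ext' fun n => ?_⟩
  rw [along_toFormalElt, hgn]
  exact (seq n).2

end IntoCRing

section Versal

variable {R : Type u} [CommRing R] [Algebra Λ R] {resR : R →ₐ[Λ] k} {F : Art Λ k ⥤ Type v}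

lemma versal_app_surjective (ξ : Family R resR F) (hξ : IsVersal ξ)
    (h0 : Subsingleton (F.obj (base Λ k))) (A : Art Λ k) : Function.Surjective (ξ.app A) := fun y => by
  obtain ⟨ψ, -, hψ⟩ := hξ (toBase A) A.res_surjective homSetBase y (Subsingleton.elim _ _)
  exact ⟨ψ, hψ⟩

lemma h0_of_surjective_app (ξ : Family R resR F) (h : Function.Surjective (ξ.app (base Λ k))) : H0 F :=
  ⟨⟨ξ.app _ homSetBase⟩, h.subsingleton⟩

lemma s1_of_versal (ξ : Family R resR F) (hξ : IsVersal ξ)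
    (hs : ∀ A, Function.Surjective (ξ.app A)) : S1 F := by
  intro B A A' A'' p' p'' f' f'' h hf
  refine (cmp_surjective_iff h).2 fun x' x'' e => ?_
  obtain ⟨φ', rfl⟩ := hs A' x'
  obtain ⟨ψ, h1, h2⟩ := hξ f'' hf (HomSet.map f' φ') x'' (by rw [← app_natural]; exact e.symm)
  obtain ⟨φ, h3, h4⟩ := homSet_lift h φ' ψ h1.symm
  exact ⟨ξ.app B φ, by rw [app_natural, h3], by rw [app_natural, h4, h2]⟩

lemma heps_of_miniversal (ξ : Family R resR F) (hξ : IsMiniversal ξ)
    (hs : ∀ A, Function.Surjective (ξ.app A)) : Heps F := by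
  intro B A p' p'' h
  refine ⟨(cmp_injective_iff h).2 fun z₁ z₂ e₁ e₂ => ?_,
    s1_of_versal ξ hξ.1 hs p' p'' _ _ h (dual Λ k).res_surjective⟩
  obtain ⟨φ₁, rfl⟩ := hs B z₁
  obtain ⟨φ₂, h1, h2⟩ := hξ.1 p' (surjective_fst h (dual Λ k).res_surjective) (HomSet.map p' φ₁) z₂
    (by rw [← e₁, app_natural])
  rw [← h2, app_natural, app_natural] at e₂
  rw [← h2, homSet_map_injective h h1 (hξ.2.1 e₂).symm]

/-- Criterion for versality. -/
theorem isVersal_of_criterion [Module.Finite Λ k] (h1 : Hbar F) (h2 : Heps F) (ξ : Family R resR F)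
    (ht : Function.Surjective (ξ.app (dual Λ k)))
    (hl : ∀ ⦃B A : Art Λ k⦄ (μ : B ⟶ A), IsSmallExt μ → ∀ (φ : HomSet R resR A) (y : F.obj B),
      F.map μ y = ξ.app A φ → ∃ ψ : HomSet R resR B, HomSet.map μ ψ = φ) :
    IsVersal ξ := by
  have small : ∀ ⦃A B : Art Λ k⦄ (μ : B ⟶ A), IsSmallExt μ → ∀ (φ : HomSet R resR A) (y : F.obj B),
      F.map μ y = ξ.app A φ → ∃ ψ : HomSet R resR B, HomSet.map μ ψ = φ ∧ ξ.app B ψ = y := by
    intro A B μ hμ φ y e
    obtain ⟨ψ₀, hψ₀⟩ := hl μ hμ φ y e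
    obtain ⟨P, q₁, q₂, hP⟩ := exists_isFibreProd μ μ hμ.1
    obtain ⟨t, hker⟩ := hμ.2.2.1.principal
    change RingHom.ker μ.toAlgHom = Ideal.span {t} at hker
    obtain ⟨g, hg⟩ := exists_isDiff hμ hker hP
    have hfp := isFibreProd_diff hμ hker hP hg
    obtain ⟨w, hw1, hw2⟩ := exists_action h1 hμ hP (ξ.app B ψ₀) y
      (by rw [app_natural, hψ₀, e])
    obtain ⟨δ, hδ⟩ := ht (F.map g w)
    obtain ⟨χ, hχ1, hχ2⟩ := homSet_lift hfp ψ₀ δ (Subsingleton.elim _ _)
    refine ⟨HomSet.map q₂ χ, ?_, ?_⟩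
    · rw [homSet_map_map, ← hP.w, ← homSet_map_map, hχ1, hψ₀]
    · have hw : ξ.app P χ = w := by
        refine (cmp_injective_iff hfp).1 (h2 _ _ hfp).1 _ _ ?_ ?_
        · rw [app_natural, hχ1, hw1]
        · rw [app_natural, hχ2, hδ]
      rw [← app_natural, hw, hw2]
  intro B A μ hμ
  refine (surj_induction (P := fun A B μ => Function.Surjective μ ∧ ∀ (φ : HomSet R resR A) (y : F.obj B),
    F.map μ y = ξ.app A φ → ∃ ψ : HomSet R resR B, HomSet.map μ ψ = φ ∧ ξ.app B ψ = y) ?_
    (fun A B μ h => ⟨h.1, small μ h⟩) ?_ μ hμ).2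
  · intro A B e he
    refine ⟨(bijective_of_isIso e).2, fun φ y h => ⟨HomSet.map (inv e) φ, ?_, ?_⟩⟩
    · rw [homSet_map_map, IsIso.inv_hom_id, homSet_map_id]
    · rw [← app_natural, ← h, map_map, IsIso.hom_inv_id, map_id']
  · rintro A B C p q ⟨hps, hp⟩ ⟨hqs, hq⟩
    refine ⟨hqs.comp hps, fun φ y h => ?_⟩
    obtain ⟨ψ₁, hψ₁, hy₁⟩ := hq φ (F.map p y) (by rw [map_map, h])
    obtain ⟨ψ, hψ, hy⟩ := hp ψ₁ y hy₁.symm
    exact ⟨ψ, by rw [← homSet_map_map, hψ, hψ₁], hy⟩

end Versal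

end Groth.ArtfunDeform
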