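import Groth.Agent.ArtfunDeform.Formal
import Groth.Prelude.Def_CAlgX
import Mathlib.RingTheory.FiniteType
import Mathlib.RingTheory.HopkinsLevitzki
import Mathlib.RingTheory.Polynomial.Basic

/-!
`h_R` is smooth iff `R` is formally smooth for the adic topology.
-/

set_option linter.style.haveILetI false
set_option linter.style.longLine false
set_option linter.unusedSectionVars false

universe u v

open CategoryTheory

namespace Groth.ArtfunDeform

open ArtFun ArtFun.Art

variable {Λ : Type u} {k : Type u} [CommRing Λ] [Field k] [Algebra Λ k]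
variable [IsNoetherianRing Λ] [Module.Finite Λ k]

local notation "𝔪" => IsLocalRing.maximalIdeal

/-- A universal square-zero extension of an object, inside the category. -/
theorem exists_universal_sq_zero (T : Art Λ k) :
    ∃ (B : Art Λ k) (μ : B ⟶ T), Function.Surjective μ ∧
      ∀ (A : Type u) [CommRing A] [Algebra Λ A] (J : Ideal A), J ^ 2 = ⊥ →
        ∀ g : T →ₐ[Λ] A ⧸ J, ∃ h : B →ₐ[Λ] A, ∀ b, Ideal.Quotient.mk J (h b) = g (μ b) := by
  classical
  obtain ⟨n, f, hf⟩ := Algebra.FiniteType.iff_quotient_mvPolynomial''.1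
    (inferInstance : Algebra.FiniteType Λ T)
  let P := MvPolynomial (Fin n) Λ
  let K : Ideal P := RingHom.ker f
  let B := P ⧸ K ^ 2
  let μ : B →ₐ[Λ] T := Ideal.Quotient.liftₐ (K ^ 2) f fun a ha => Ideal.pow_le_self (by decide) ha
  have hμ : Function.Surjective μ := fun t => (hf t).elim fun p hp => ⟨Ideal.Quotient.mk _ p, hp⟩
  let res : B →ₐ[Λ] k := T.res.comp μ
  have hres : Function.Surjective res := T.res_surjective.comp hμ
  have hnil : ∀ b, res b = 0 → IsNilpotent b := by
    intro b hb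
    obtain ⟨m, hm⟩ := (isNilpotent_iff (μ b)).2 hb
    obtain ⟨p, rfl⟩ := Ideal.Quotient.mk_surjective b
    have hp : p ^ m ∈ K := by
      change f (p ^ m) = 0
      rw [map_pow]
      exact hm
    refine ⟨m * 2, ?_⟩
    rw [← map_pow, pow_mul]
    exact Ideal.Quotient.eq_zero_iff_mem.2 (Ideal.pow_mem_pow hp 2)
  have hu : ∀ b, IsUnit b ↔ res b ≠ 0 := by
    intro b
    refine ⟨fun h => (h.map res).ne_zero, fun h => ?_⟩
    obtain ⟨c, hc⟩ := hres (res b)⁻¹
    have h1 : IsNilpotent (b * c - 1) := hnil _ (by rw [map_sub, map_mul, hc, map_one, mul_inv_cancel₀ h, sub_self])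
    have h2 := h1.isUnit_add_one
    rw [sub_add_cancel] at h2
    exact isUnit_of_mul_isUnit_left h2
  haveI : Nontrivial B := res.toRingHom.domain_nontrivial
  haveI : IsLocalRing B := IsLocalRing.of_nonunits_add fun a b ha hb => by
    simp only [mem_nonunits_iff, hu, not_not] at ha hb ⊢
    rw [map_add, ha, hb, add_zero]
  haveI : IsNoetherianRing P := inferInstance
  haveI : IsNoetherianRing B := inferInstance
  haveI : IsArtinianRing B := by
    rw [isArtinianRing_iff_isNilpotent_maximalIdeal]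
    obtain ⟨N, hN⟩ := Ideal.exists_radical_pow_le_of_fg (⊥ : Ideal B) (IsNoetherian.noetherian _)
    refine ⟨N, le_bot_iff.1 (le_trans ?_ hN)⟩
    refine Ideal.pow_right_mono (fun b hb => ?_) N
    obtain ⟨m, hm⟩ := hnil b (by rw [IsLocalRing.mem_maximalIdeal, mem_nonunits_iff, hu, not_not] at hb; exact hb)
    exact ⟨m, Ideal.mem_bot.2 hm⟩
  let Bo : Art Λ k := { carrier := B, res := res, res_surjective := hres }
  refine ⟨Bo, ⟨μ, rfl⟩, hμ, fun A _ _ J hJ g => ?_⟩
  choose a ha using fun i => Ideal.Quotient.mk_surjective (I := J) (g (f (MvPolynomial.X i)))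
  let h' : P →ₐ[Λ] A := MvPolynomial.aeval a
  have hh : (Ideal.Quotient.mkₐ Λ J).comp h' = g.comp f := MvPolynomial.algHom_ext fun i => by
    change Ideal.Quotient.mk J (h' (MvPolynomial.X i)) = _
    rw [MvPolynomial.aeval_X, ha]
    rfl
  have hK : ∀ p ∈ K ^ 2, h' p = 0 := by
    intro p hp
    have h1 : K.map h'.toRingHom ≤ J := Ideal.map_le_iff_le_comap.2 fun q hq => by
      rw [Ideal.mem_comap, ← Ideal.Quotient.eq_zero_iff_mem]
      refine (congrArg (fun t : P →ₐ[Λ] A ⧸ J => t q) hh).trans ?_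
      change g (f q) = 0
      rw [show f q = 0 from hq, map_zero]
    have h2 := Ideal.mem_map_of_mem h'.toRingHom hp
    rw [Ideal.map_pow] at h2
    have h3 := Ideal.pow_right_mono h1 2 h2
    rwa [hJ, Ideal.mem_bot] at h3
  refine ⟨Ideal.Quotient.liftₐ (K ^ 2) h' hK, fun b => ?_⟩
  obtain ⟨p, rfl⟩ := Ideal.Quotient.mk_surjective b
  exact congrArg (fun t : P →ₐ[Λ] A ⧸ J => t p) hh

/-- Smoothness of `h_R` is formal smoothness for the adic topology. -/
theorem isSmoothFunctor_hR_iff (R : CRing Λ k) :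
    IsSmoothFunctor (hR R.carrier R.res) ↔ CAlgX.IsAdicFormallySmooth Λ R.carrier (𝔪 R.carrier) := by
  constructor
  · intro h A _ _ J hJ ψ hψ
    obtain ⟨N, hN⟩ := hψ
    let ψ' : R.trunc N →ₐ[Λ] A ⧸ J :=
      Ideal.Quotient.liftₐ (CRing.mpow R N) ψ fun x hx => hN x (Ideal.pow_le_pow_right (Nat.le_succ N) hx)
    obtain ⟨B, μ, hμ, huniv⟩ := exists_universal_sq_zero (R.trunc N)
    obtain ⟨g, hg⟩ := huniv A J hJ ψ'
    obtain ⟨χ, hχ⟩ := h μ hμ (R.truncHom N)
    refine ⟨g.comp (χ : HomSet R.carrier R.res B).1, AlgHom.ext fun r => ?_⟩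
    change Ideal.Quotient.mk J (g ((χ : HomSet R.carrier R.res B).1 r)) = ψ r
    rw [hg, show μ ((χ : HomSet R.carrier R.res B).1 r) = (R.truncHom N).1 r from
      congrArg (fun t : HomSet R.carrier R.res (R.trunc N) => t.1 r) hχ]
    rfl
  · intro h B A μ hμ
    refine (surj_induction (P := fun A B μ => Function.Surjective μ ∧ ∀ φ : HomSet R.carrier R.res A,
      ∃ ψ : HomSet R.carrier R.res B, HomSet.map μ ψ = φ) ?_ ?_ ?_ μ hμ).2
    · intro A B e he
      exact ⟨(bijective_of_isIso e).2, fun φ => ⟨HomSet.map (inv e) φ, by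
        rw [homSet_map_map, IsIso.inv_hom_id, homSet_map_id]⟩⟩
    · intro A B p hp
      refine ⟨hp.1, fun φ => ?_⟩
      let J := RingHom.ker p.toAlgHom
      have hJ : J ^ 2 = ⊥ := by
        rw [eq_bot_iff, pow_two]
        exact (Ideal.mul_mono_left (ker_le_maximalIdeal p)).trans hp.2.2.2.le
      let e := Ideal.quotientKerAlgEquivOfSurjective hp.1
      let ψ : R.carrier →ₐ[Λ] B ⧸ J := e.symm.toAlgHom.comp φ.1
      obtain ⟨n, u, hn⟩ := exists_factor_trunc φ
      obtain ⟨χ, hχ⟩ := h B J hJ ψ ⟨n + 1, fun x hx => by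
        change e.symm (φ.1 x) = 0
        rw [← hn, show (HomSet.map u (R.truncHom n)).1 x = u ((R.truncHom n).1 x) from rfl,
          (truncHom_eq_zero_iff R n x).2 hx, map_zero, map_zero]⟩
      have hp' : ∀ r, p (χ r) = φ.1 r := fun r => by
        have h1 : Ideal.Quotient.mk J (χ r) = e.symm (φ.1 r) := congrArg (fun t : R.carrier →ₐ[Λ] B ⧸ J => t r) hχ
        have h2 := congrArg e h1
        rwa [AlgEquiv.apply_symm_apply] at h2
      exact ⟨⟨χ, AlgHom.ext fun r => by
        change B.res (χ r) = R.res r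
        rw [← res_app p, hp', homSet_res]⟩, homSet_ext hp'⟩
    · rintro A B C p q ⟨hps, hp⟩ ⟨hqs, hq⟩
      refine ⟨hqs.comp hps, fun φ => ?_⟩
      obtain ⟨ψ₁, h1⟩ := hq φ
      obtain ⟨ψ, h2⟩ := hp ψ₁
      exact ⟨ψ, by rw [← homSet_map_map, h2, h1]⟩

end Groth.ArtfunDeform
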