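import Groth.Agent.ArtfunDeform.ArtBasic
import Groth.Prelude.Def_ArtFun2

/-!
Conditions on functors of Artin rings: reduction to small extensions, the tangent action along a
small extension, square-zero objects and the vector space structure on the tangent space.
-/

set_option linter.style.haveILetI false
set_option linter.style.longLine false

universe u v

open CategoryTheory

namespace Groth.ArtfunDeform

open ArtFun ArtFun.Art

variable {Λ : Type u} {k : Type u} [CommRing Λ] [Field k] [Algebra Λ k]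

local notation "𝔪" => IsLocalRing.maximalIdeal

section Maps

variable (F : Art Λ k ⥤ Type v)

lemma map_map {A B C : Art Λ k} (f : A ⟶ B) (g : B ⟶ C) (x : F.obj A) :
    F.map g (F.map f x) = F.map (f ≫ g) x := (Functor.map_comp_apply F f g x).symm

lemma map_id' {A : Art Λ k} (x : F.obj A) : F.map (𝟙 A) x = x := Functor.map_id_apply F _ x

lemma map_map_eq {A B B' C : Art Λ k} {f : A ⟶ B} {g : B ⟶ C} {f' : A ⟶ B'} {g' : B' ⟶ C}
    (h : f ≫ g = f' ≫ g') (x : F.obj A) : F.map g (F.map f x) = F.map g' (F.map f' x) := by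
  rw [map_map, map_map, h]

lemma bijective_map_of_isIso {A B : Art Λ k} (f : A ⟶ B) [IsIso f] : Function.Bijective (F.map f) := by
  refine ⟨fun a b h => ?_, fun b => ⟨F.map (inv f) b, by rw [map_map, IsIso.inv_hom_id, map_id']⟩⟩
  have h' := congrArg (fun x => F.map (inv f) x) h
  simp only [map_map, IsIso.hom_inv_id, map_id'] at h'
  exact h'

end Maps

section Squares

variable {F : Art Λ k ⥤ Type v} {B A A' A'' : Art Λ k} {p' : B ⟶ A'} {p'' : B ⟶ A''} {f' : A' ⟶ A}
  {f'' : A'' ⟶ A}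

lemma cmp_eq_iff (h : IsFibreProd p' p'' f' f'') (z : F.obj B) (x : FibProd F f' f'') :
    cmp F h z = x ↔ F.map p' z = x.1.1 ∧ F.map p'' z = x.1.2 :=
  ⟨fun e => by subst e; exact ⟨rfl, rfl⟩, fun e => FibProd.ext e.1 e.2⟩

lemma cmp_surjective_iff (h : IsFibreProd p' p'' f' f'') :
    Function.Surjective (cmp F h) ↔ ∀ (x' : F.obj A') (x'' : F.obj A''),
      F.map f' x' = F.map f'' x'' → ∃ z, F.map p' z = x' ∧ F.map p'' z = x'' :=
  ⟨fun hs x' x'' e => (hs ⟨(x', x''), e⟩).imp fun z hz => (cmp_eq_iff h z _).1 hz,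
    fun hs x => (hs x.1.1 x.1.2 x.2).imp fun z hz => (cmp_eq_iff h z _).2 hz⟩

lemma cmp_injective_iff (h : IsFibreProd p' p'' f' f'') :
    Function.Injective (cmp F h) ↔ ∀ z₁ z₂ : F.obj B,
      F.map p' z₁ = F.map p' z₂ → F.map p'' z₁ = F.map p'' z₂ → z₁ = z₂ :=
  ⟨fun hi z₁ z₂ e₁ e₂ => hi (FibProd.ext e₁ e₂), fun hi z₁ z₂ e =>
    hi z₁ z₂ (congrArg (fun x => x.1.1) e) (congrArg (fun x => x.1.2) e)⟩

lemma cmp_bijective_of_isIso (h : IsFibreProd p' p'' f' f'') [IsIso f''] :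
    Function.Bijective (cmp F h) := by
  haveI : IsIso p' := isIso_of_bijective _ ⟨fun a b e => h.inj a b e
    ((bijective_of_isIso f'').1 (by rw [← h.w_apply, ← h.w_apply, e])),
    surjective_fst h (bijective_of_isIso f'').2⟩
  refine ⟨(cmp_injective_iff h).2 fun z₁ z₂ e _ => (bijective_map_of_isIso F p').1 e,
    (cmp_surjective_iff h).2 fun x' x'' e => ?_⟩
  obtain ⟨z, hz⟩ := (bijective_map_of_isIso F p').2 x'
  refine ⟨z, hz, (bijective_map_of_isIso F f'').1 ?_⟩
  rw [map_map, ← h.w, ← map_map, hz, e]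

variable [Module.Finite Λ k]

/-- Propagation of (injectivity, resp. surjectivity) of comparison maps to composites. -/
lemma exists_decompose {C : Art Λ k} {a : A'' ⟶ C} {b : C ⟶ A}
    (h : IsFibreProd p' p'' f' (a ≫ b)) (hb : Function.Surjective b) :
    ∃ (D : Art Λ k) (d' : D ⟶ A') (d : D ⟶ C) (r : B ⟶ D),
      IsFibreProd d' d f' b ∧ IsFibreProd r p'' d a ∧ r ≫ d' = p' := by
  obtain ⟨D, d', d, hD⟩ := exists_isFibreProd f' b hb
  let r := fpLift hD p' (p'' ≫ a) (by rw [Category.assoc, h.w])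
  have r1 : r ≫ d' = p' := fpLift_fst hD _ _ _
  have r2 : r ≫ d = p'' ≫ a := fpLift_snd hD _ _ _
  refine ⟨D, d', d, r, hD, ⟨r2, fun x y e₁ e₂ => h.inj x y ?_ e₂, fun δ a'' e => ?_⟩, r1⟩
  · rw [← r1, Art.comp_apply, Art.comp_apply, e₁]
  · obtain ⟨x, h1, h2⟩ := h.surj (d' δ) a'' (by rw [Art.comp_apply, ← e, hD.w_apply])
    refine ⟨x, hD.inj _ _ ?_ ?_, h2⟩
    · rw [← Art.comp_apply r d', r1, h1]
    · rw [← Art.comp_apply r d, r2, Art.comp_apply, h2, e]

/-- Surjectivity of all comparison maps follows from the case of small extensions. -/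
theorem cmp_surjective_of_surjective (F : Art Λ k ⥤ Type v) (H : Hbar F)
    (h : IsFibreProd p' p'' f' f'') (hf : Function.Surjective f'') :
    Function.Surjective (cmp F h) := by
  suffices key : ∀ ⦃A A'' : Art Λ k⦄ (f'' : A'' ⟶ A), Function.Surjective f'' →
      Function.Surjective f'' ∧ ∀ ⦃B A' : Art Λ k⦄ (p' : B ⟶ A') (p'' : B ⟶ A'') (f' : A' ⟶ A)
        (h : IsFibreProd p' p'' f' f''), Function.Surjective (cmp F h) from
    (key f'' hf).2 p' p'' f' h
  refine surj_induction (P := fun A A'' f'' => Function.Surjective f'' ∧ ∀ ⦃B A' : Art Λ k⦄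
    (p' : B ⟶ A') (p'' : B ⟶ A'') (f' : A' ⟶ A) (h : IsFibreProd p' p'' f' f''),
      Function.Surjective (cmp F h)) ?_ ?_ ?_
  · intro A A'' e he
    exact ⟨(bijective_of_isIso e).2, fun B A' p' p'' f' h => (cmp_bijective_of_isIso h).2⟩
  · exact fun A A'' p hp => ⟨hp.1, fun B A' p' p'' f' h => H p' p'' f' p h hp⟩
  · rintro A C A'' a b ⟨has, ha⟩ ⟨hbs, hb⟩
    refine ⟨hbs.comp has, fun B A' p' p'' f' h => ?_⟩
    obtain ⟨D, d', d, r, hD, hr, rfl⟩ := exists_decompose h hbs
    refine (cmp_surjective_iff h).2 fun x' x'' e => ?_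
    obtain ⟨y, hy1, hy2⟩ := (cmp_surjective_iff hD).1 (hb _ _ _ hD) x' (F.map a x'')
      (by rw [e, map_map])
    obtain ⟨z, hz1, hz2⟩ := (cmp_surjective_iff hr).1 (ha _ _ _ hr) y x'' hy2
    exact ⟨z, by rw [← map_map, hz1, hy1], hz2⟩

/-- Injectivity of all comparison maps follows from the case of small extensions. -/
theorem cmp_injective_of_surjective (F : Art Λ k ⥤ Type v)
    (H : ∀ ⦃B A A' A'' : Art Λ k⦄ (p' : B ⟶ A') (p'' : B ⟶ A'') (f' : A' ⟶ A) (f'' : A'' ⟶ A)
      (h : IsFibreProd p' p'' f' f''), IsSmallExt f'' → Function.Injective (cmp F h))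
    (h : IsFibreProd p' p'' f' f'') (hf : Function.Surjective f'') :
    Function.Injective (cmp F h) := by
  suffices key : ∀ ⦃A A'' : Art Λ k⦄ (f'' : A'' ⟶ A), Function.Surjective f'' →
      Function.Surjective f'' ∧ ∀ ⦃B A' : Art Λ k⦄ (p' : B ⟶ A') (p'' : B ⟶ A'') (f' : A' ⟶ A)
        (h : IsFibreProd p' p'' f' f''), Function.Injective (cmp F h) from
    (key f'' hf).2 p' p'' f' h
  refine surj_induction (P := fun A A'' f'' => Function.Surjective f'' ∧ ∀ ⦃B A' : Art Λ k⦄
    (p' : B ⟶ A') (p'' : B ⟶ A'') (f' : A' ⟶ A) (h : IsFibreProd p' p'' f' f''),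
      Function.Injective (cmp F h)) ?_ ?_ ?_
  · intro A A'' e he
    exact ⟨(bijective_of_isIso e).2, fun B A' p' p'' f' h => (cmp_bijective_of_isIso h).1⟩
  · exact fun A A'' p hp => ⟨hp.1, fun B A' p' p'' f' h => H p' p'' f' p h hp⟩
  · rintro A C A'' a b ⟨has, ha⟩ ⟨hbs, hb⟩
    refine ⟨hbs.comp has, fun B A' p' p'' f' h => ?_⟩
    obtain ⟨D, d', d, r, hD, hr, rfl⟩ := exists_decompose h hbs
    refine (cmp_injective_iff h).2 fun z₁ z₂ e₁ e₂ => (cmp_injective_iff hr).1 (ha _ _ _ hr) z₁ z₂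
      ((cmp_injective_iff hD).1 (hb _ _ _ hD) _ _ ?_ ?_) e₂
    · rw [map_map, map_map, e₁]
    · rw [map_map, map_map, hr.w, ← map_map, ← map_map, e₂]

theorem s1_of_hbar (F : Art Λ k ⥤ Type v) (H : Hbar F) : S1 F :=
  fun _ _ _ _ _ _ _ _ h hf => cmp_surjective_of_surjective F H h hf

end Squares

section DualHom

/-- A morphism to `k[ε]` from a derivation-like map. -/
def dualHom {A : Art Λ k} (ℓ : A → k) (hadd : ∀ x y, ℓ (x + y) = ℓ x + ℓ y)
    (hmul : ∀ x y, ℓ (x * y) = A.res x * ℓ y + A.res y * ℓ x) (halg : ∀ r, ℓ (algebraMap Λ A r) = 0) :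
    A ⟶ dual Λ k :=
  homMk
    { toFun := fun x => ((A.res x, ℓ x) : DualNumber k)
      map_one' := TrivSqZeroExt.ext (map_one A.res) (by
        have h := halg 1
        rw [map_one] at h
        exact h)
      map_mul' := fun x y => TrivSqZeroExt.ext (map_mul A.res x y) (by
        change ℓ (x * y) = A.res x • ℓ y + MulOpposite.op (A.res y) • ℓ x
        rw [hmul, op_smul_eq_smul, smul_eq_mul, smul_eq_mul])
      map_zero' := TrivSqZeroExt.ext (map_zero A.res) (by
        have h := halg 0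
        rw [map_zero] at h
        exact h)
      map_add' := fun x y => TrivSqZeroExt.ext (map_add A.res x y) (hadd x y)
      commutes' := fun r => TrivSqZeroExt.ext (A.res.commutes r) (halg r) }
    (AlgHom.ext fun _ => rfl)

lemma snd_dualHom {A : Art Λ k} (ℓ : A → k) (hadd : ∀ x y, ℓ (x + y) = ℓ x + ℓ y)
    (hmul : ∀ x y, ℓ (x * y) = A.res x * ℓ y + A.res y * ℓ x) (halg : ∀ r, ℓ (algebraMap Λ A r) = 0)
    (x : A) : TrivSqZeroExt.snd (dualHom ℓ hadd hmul halg x) = ℓ x := rfl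

end DualHom

section Diff

variable {B A P : Art Λ k}

/-- `g : P → k[ε]` records the coefficient of `p₂ - p₁` along `t`. -/
def IsDiff (p₁ p₂ : P ⟶ B) (t : B) (g : P ⟶ dual Λ k) : Prop :=
  ∀ (z : P) (b : B), B.res b = TrivSqZeroExt.snd (g z) → b * t = p₂ z - p₁ z

variable {p : B ⟶ A} {t : B}

lemma socle_mul {f : B ⟶ A} (hf : IsSmallExt f) {x : B} (hx : f x = 0) {m : B} (hm : m ∈ 𝔪 B) :
    m * x = 0 := by
  have h' : m * x ∈ 𝔪 B * RingHom.ker f.toAlgHom := Ideal.mul_mem_mul hm hx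
  rwa [hf.2.2.2, Ideal.mem_bot] at h'

lemma mul_eq_mul_of_res (hp : IsSmallExt p) (ht : p t = 0) {b b' : B} (h : B.res b = B.res b') :
    b * t = b' * t := by
  rw [← sub_eq_zero, ← sub_mul]
  exact socle_mul hp ht ((B.mem_maximalIdeal_iff _).2 (by rw [map_sub, h, sub_self]))

lemma res_eq_of_mul_eq (ht0 : t ≠ 0) {b b' : B} (h : b * t = b' * t) : B.res b = B.res b' := by
  by_contra hne
  refine ht0 (((isUnit_iff (b - b')).2 (by rw [map_sub, sub_ne_zero]; exact hne)).mul_right_eq_zero.1 ?_)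
  rw [sub_mul, h, sub_self]

lemma ne_zero_of_span (hp : IsSmallExt p) (ht : RingHom.ker p.toAlgHom = Ideal.span {t}) : t ≠ 0 :=
  fun h => hp.2.1 (by rw [ht, Ideal.span_singleton_eq_bot.2 h])

lemma map_gen (ht : RingHom.ker p.toAlgHom = Ideal.span {t}) : p t = 0 :=
  ht.ge (Ideal.mem_span_singleton_self t)

variable {p₁ p₂ : P ⟶ B}

lemma exists_coeff (ht : RingHom.ker p.toAlgHom = Ideal.span {t}) (h : IsFibreProd p₁ p₂ p p) (z : P) :
    ∃ b : B, b * t = p₂ z - p₁ z := by
  refine Ideal.mem_span_singleton'.1 (ht.le ?_)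
  change p.toAlgHom (p₂ z - p₁ z) = 0
  rw [map_sub, sub_eq_zero]
  exact (h.w_apply z).symm

lemma exists_isDiff (hp : IsSmallExt p) (ht : RingHom.ker p.toAlgHom = Ideal.span {t})
    (h : IsFibreProd p₁ p₂ p p) : ∃ g : P ⟶ dual Λ k, IsDiff p₁ p₂ t g := by
  choose β hβ using exists_coeff ht h
  have ht0 := ne_zero_of_span hp ht
  have ht' := map_gen ht
  have add' : ∀ x y, B.res (β (x + y)) = B.res (β x) + B.res (β y) := fun x y => by
    rw [← map_add]
    refine res_eq_of_mul_eq ht0 ?_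
    rw [add_mul, hβ, hβ, hβ, map_add, map_add]
    ring
  have mul' : ∀ x y, B.res (β (x * y)) = P.res x * B.res (β y) + P.res y * B.res (β x) := fun x y => by
    rw [← res_app p₁ x, ← res_app p₂ y, ← map_mul, ← map_mul, ← map_add]
    refine res_eq_of_mul_eq ht0 ?_
    rw [add_mul, mul_assoc, mul_assoc, hβ, hβ, hβ, map_mul, map_mul]
    ring
  have alg' : ∀ r, B.res (β (algebraMap Λ P r)) = 0 := fun r => by
    rw [← map_zero B.res]
    refine res_eq_of_mul_eq ht0 ?_
    rw [hβ, AlgHom.commutes, AlgHom.commutes, sub_self, zero_mul]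
  refine ⟨dualHom (fun z => B.res (β z)) add' mul' alg', fun z b hb => ?_⟩
  rw [snd_dualHom] at hb
  rw [← hβ z]
  exact mul_eq_mul_of_res hp ht' hb

lemma isFibreProd_diff (hp : IsSmallExt p) (ht : RingHom.ker p.toAlgHom = Ideal.span {t})
    (h : IsFibreProd p₁ p₂ p p) {g : P ⟶ dual Λ k} (hg : IsDiff p₁ p₂ t g) :
    IsFibreProd p₁ g (toBase B) (toBase (dual Λ k)) where
  w := by rw [eq_toBase (p₁ ≫ toBase B), eq_toBase (g ≫ toBase _)]
  inj x y h₁ h₂ := by
    refine h.inj x y h₁ ?_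
    obtain ⟨b, hb⟩ := B.res_surjective (TrivSqZeroExt.snd (g x))
    have e₁ := hg x b hb
    have e₂ := hg y b (by rw [← h₂]; exact hb)
    rw [e₁, h₁, sub_left_inj] at e₂
    exact e₂
  surj b d e := by
    obtain ⟨c, hc⟩ := B.res_surjective (TrivSqZeroExt.snd (show DualNumber k from d))
    obtain ⟨z, hz1, hz2⟩ := h.surj b (b + c * t) (by rw [map_add, map_mul, map_gen ht, mul_zero, add_zero])
    refine ⟨z, hz1, TrivSqZeroExt.ext ?_ ?_⟩
    · have h1 : (dual Λ k).res (g z) = (dual Λ k).res d := by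
        rw [res_app, ← res_app p₁, hz1]
        exact e
      exact h1
    · obtain ⟨c', hc'⟩ := B.res_surjective (TrivSqZeroExt.snd (g z))
      have e1 := hg z c' hc'
      rw [hz1, hz2, add_sub_cancel_left] at e1
      have := res_eq_of_mul_eq (ne_zero_of_span hp ht) e1
      rw [hc', hc] at this
      exact this

lemma isDiff_natural {B₂ P₂ : Art Λ k} {q₁ q₂ : P₂ ⟶ B₂} {g : P ⟶ dual Λ k} (hg : IsDiff p₁ p₂ t g)
    (π : B ⟶ B₂) (r : P ⟶ P₂) (hr₁ : r ≫ q₁ = p₁ ≫ π) (hr₂ : r ≫ q₂ = p₂ ≫ π) (ht0 : π t ≠ 0)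
    {g₂ : P₂ ⟶ dual Λ k} (hg₂ : IsDiff q₁ q₂ (π t) g₂) : r ≫ g₂ = g := by
  apply hom_ext_apply
  intro z
  refine TrivSqZeroExt.ext ?_ ?_
  · have : (dual Λ k).res ((r ≫ g₂) z) = (dual Λ k).res (g z) := by rw [res_app, res_app]
    exact this
  · obtain ⟨b, hb⟩ := B.res_surjective (TrivSqZeroExt.snd (g z))
    obtain ⟨b₂, hb₂⟩ := B₂.res_surjective (TrivSqZeroExt.snd ((r ≫ g₂) z))
    have e := congrArg π.toAlgHom (hg z b hb)
    rw [map_mul, map_sub] at e
    have e₂ := hg₂ (r z) b₂ hb₂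
    rw [← Art.comp_apply r q₁, ← Art.comp_apply r q₂, hr₁, hr₂, Art.comp_apply, Art.comp_apply, ← e] at e₂
    have := res_eq_of_mul_eq ht0 e₂
    rw [hb₂, res_app, hb] at this
    exact this

variable {F : Art Λ k ⥤ Type v} [Module.Finite Λ k]

/-- Under `Hbar`, `Heps`, `HSq` the comparison maps along small extensions are injective. -/
theorem cmp_injective_of_hsq (h1 : Hbar F) (h2 : Heps F) (h4 : HSq F) {A' A'' : Art Λ k} {p' : B ⟶ A'}
    {p'' : B ⟶ A''} {f' : A' ⟶ A} {f'' : A'' ⟶ A} (h : IsFibreProd p' p'' f' f'') (hf : IsSmallExt f'') :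
    Function.Injective (cmp F h) := by
  refine (cmp_injective_iff h).2 fun z₁ z₂ e' e'' => ?_
  have hp' := isSmallExt_fst h hf
  obtain ⟨s, hs⟩ := hp'.2.2.1.principal
  change RingHom.ker p'.toAlgHom = Ideal.span {s} at hs
  have hker : RingHom.ker f''.toAlgHom = Ideal.span {p'' s} := by
    refine le_antisymm (fun x hx => ?_) ?_
    · obtain ⟨b, hb1, hb2⟩ := h.surj 0 x (by rw [map_zero]; exact hx.symm)
      obtain ⟨c, hc⟩ := Ideal.mem_span_singleton'.1 (hs.le (hb1 : b ∈ RingHom.ker p'.toAlgHom))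
      exact Ideal.mem_span_singleton'.2 ⟨p'' c, by rw [← map_mul, hc, hb2]⟩
    · rw [Ideal.span_le, Set.singleton_subset_iff]
      change f'' (p'' s) = 0
      rw [← h.w_apply, map_gen hs, map_zero]
  obtain ⟨P, q₁, q₂, hP⟩ := exists_isFibreProd p' p' hp'.1
  obtain ⟨Q, r₁, r₂, hQ⟩ := exists_isFibreProd f'' f'' hf.1
  obtain ⟨g, hg⟩ := exists_isDiff hp' hs hP
  obtain ⟨g₂, hg₂⟩ := exists_isDiff hf hker hQ
  have w : (q₁ ≫ p'') ≫ f'' = (q₂ ≫ p'') ≫ f'' := by
    rw [Category.assoc, ← h.w, ← Category.assoc, hP.w, Category.assoc, h.w, Category.assoc]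
  let r := fpLift hQ (q₁ ≫ p'') (q₂ ≫ p'') w
  have hrg : r ≫ g₂ = g :=
    isDiff_natural hg p'' r (fpLift_fst hQ _ _ _) (fpLift_snd hQ _ _ _) (ne_zero_of_span hf hker) hg₂
  obtain ⟨w₂, hw1, hw2⟩ := (cmp_surjective_iff hP).1 (h1 _ _ _ _ hP hp') z₁ z₂ e'
  let δ := fpLift hP (𝟙 B) (𝟙 B) rfl
  have hd1 : F.map q₁ (F.map δ z₁) = z₁ := by rw [map_map, fpLift_fst, map_id']
  have hd2 : F.map q₂ (F.map δ z₁) = z₁ := by rw [map_map, fpLift_snd, map_id']
  have hr : F.map r w₂ = F.map r (F.map δ z₁) := by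
    refine (cmp_injective_iff hQ).1 (h4 _ _ _ hQ hf).1 _ _ ?_ ?_
    · rw [map_map, map_map (f := r), fpLift_fst, ← map_map, ← map_map, hw1, hd1]
    · rw [map_map, map_map (f := r), fpLift_snd, ← map_map, ← map_map, hw2, hd2]
      exact e''.symm
  have : w₂ = F.map δ z₁ := by
    refine (cmp_injective_iff (isFibreProd_diff hp' hs hP hg)).1 (h2 _ _ _).1 _ _ (by rw [hw1, hd1]) ?_
    rw [← hrg, ← map_map, ← map_map, hr]
  rw [← hw2, this, hd2]

/-- `Hbar`, `Heps`, `HSq` give the condition (RS). -/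
theorem cmp_bijective_of_hsq (h1 : Hbar F) (h2 : Heps F) (h4 : HSq F) {A' A'' : Art Λ k} {p' : B ⟶ A'}
    {p'' : B ⟶ A''} {f' : A' ⟶ A} {f'' : A'' ⟶ A} (h : IsFibreProd p' p'' f' f'')
    (hf : Function.Surjective f'') : Function.Bijective (cmp F h) :=
  ⟨cmp_injective_of_surjective F (fun _ _ _ _ _ _ _ _ h' hf' => cmp_injective_of_hsq h1 h2 h4 h' hf') h hf,
    cmp_surjective_of_surjective F h1 h hf⟩

/-- Transitivity: two elements over the same element differ by the tangent action. -/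
theorem exists_action (h1 : Hbar F) (hp : IsSmallExt p) (hP : IsFibreProd p₁ p₂ p p) (y y' : F.obj B)
    (e : F.map p y = F.map p y') : ∃ w : F.obj P, F.map p₁ w = y ∧ F.map p₂ w = y' :=
  (cmp_surjective_iff hP).1 (h1 _ _ _ _ hP hp) y y' e

end Diff

section SqZero

variable [Module.Finite Λ k]

/-- The splitting off of one tangent direction from a square-zero object with a section. -/
lemma exists_split_dual {E E' : Art Λ k} (σ : base Λ k ⟶ E) (hE : 𝔪 E ^ 2 = ⊥) (q : E ⟶ E')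
    (hq : IsSmallExt q) : ∃ g : E ⟶ dual Λ k, IsFibreProd q g (toBase E') (toBase (dual Λ k)) := by
  obtain ⟨t, ht⟩ := hq.2.2.1.principal
  change RingHom.ker q.toAlgHom = Ideal.span {t} at ht
  have ht0 := ne_zero_of_span hq ht
  let s : k →+* E := σ.toAlgHom.toRingHom
  have hs : ∀ c, E.res (s c) = c := fun c => res_app σ c
  letI : Algebra k E := s.toAlgebra
  obtain ⟨l, hl⟩ := (LinearMap.toSpanSingleton k E t).exists_leftInverse_of_injective
    (LinearMap.ker_eq_bot_of_injective (smul_left_injective k ht0))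
  have hlt : l t = 1 := by
    have := LinearMap.congr_fun hl 1
    simpa using this
  have hsq : ∀ x y : E, x - s (E.res x) ∈ 𝔪 E ∧ (x - s (E.res x)) * (y - s (E.res y)) = 0 := fun x y => by
    have hm : ∀ z : E, z - s (E.res z) ∈ 𝔪 E := fun z => by
      rw [E.mem_maximalIdeal_iff, map_sub, hs, sub_self]
    refine ⟨hm x, ?_⟩
    have : (x - s (E.res x)) * (y - s (E.res y)) ∈ 𝔪 E ^ 2 := by rw [sq]; exact Ideal.mul_mem_mul (hm x) (hm y)
    rwa [hE, Ideal.mem_bot] at this
  let ℓ : E → k := fun x => l (x - s (E.res x))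
  have ladd : ∀ x y, ℓ (x + y) = ℓ x + ℓ y := fun x y => by
    simp only [ℓ, ← map_add]
    congr 1
    rw [map_add, map_add]
    ring
  have lmul : ∀ x y, ℓ (x * y) = E.res x * ℓ y + E.res y * ℓ x := fun x y => by
    simp only [ℓ]
    rw [← smul_eq_mul (E.res x), ← smul_eq_mul (E.res y), ← map_smul, ← map_smul, ← map_add]
    congr 1
    rw [Algebra.smul_def, Algebra.smul_def]
    change _ = s _ * _ + s _ * _
    have := (hsq x y).2
    rw [map_mul, map_mul]
    linear_combination this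
  have lalg : ∀ r, ℓ (algebraMap Λ E r) = 0 := fun r => by
    simp only [ℓ]
    rw [AlgHom.commutes, show s (algebraMap Λ k r) = algebraMap Λ E r from σ.toAlgHom.commutes r, sub_self,
      map_zero]
  let g : E ⟶ dual Λ k := dualHom ℓ ladd lmul lalg
  have hgsnd : ∀ x, TrivSqZeroExt.snd (g x) = ℓ x := fun x => rfl
  have hℓt : ∀ c : k, ℓ (s c * t) = c := fun c => by
    simp only [ℓ]
    rw [map_mul, show E.res t = 0 from (E.mem_maximalIdeal_iff t).1 (ker_le_maximalIdeal q (map_gen ht)),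
      mul_zero, map_zero, sub_zero, show s c * t = c • t from (Algebra.smul_def c t).symm, map_smul, hlt,
      smul_eq_mul, mul_one]
  refine ⟨g, ⟨by rw [eq_toBase (q ≫ toBase E'), eq_toBase (g ≫ toBase _)], fun x y h₁ h₂ => ?_,
    fun a d e => ?_⟩⟩
  · have hxy : x - y ∈ RingHom.ker q.toAlgHom := by
      rw [RingHom.mem_ker, map_sub, h₁, sub_self]
    obtain ⟨c, hc⟩ := Ideal.mem_span_singleton'.1 (ht.le hxy)
    rw [mul_eq_mul_of_res hq (map_gen ht) (hs (E.res c)).symm] at hc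
    have hl' := congrArg ℓ hc
    rw [hℓt] at hl'
    have h2' : ℓ x = ℓ y := by rw [← hgsnd, ← hgsnd, h₂]
    have hsub : ℓ (x - y) = 0 := by
      have h3 := ladd (x - y) y
      rw [sub_add_cancel, h2'] at h3
      simpa using h3
    rw [hsub] at hl'
    rw [hl', map_zero, zero_mul] at hc
    exact sub_eq_zero.1 hc.symm
  · obtain ⟨x, rfl⟩ := hq.1 a
    refine ⟨x + s (TrivSqZeroExt.snd (show DualNumber k from d) - ℓ x) * t, ?_, TrivSqZeroExt.ext ?_ ?_⟩
    · rw [map_add, map_mul, map_gen ht, mul_zero, add_zero]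
    · have h1 : (dual Λ k).res (g (x + s (TrivSqZeroExt.snd (show DualNumber k from d) - ℓ x) * t)) =
          (dual Λ k).res d := by
        rw [res_app, map_add, map_mul,
          show E.res t = 0 from (E.mem_maximalIdeal_iff t).1 (ker_le_maximalIdeal q (map_gen ht)),
          mul_zero, add_zero, ← res_app q]
        exact e
      exact h1
    · rw [hgsnd, ladd, hℓt, add_sub_cancel]

/-- `Heps` gives bijectivity for squares over `k` with a split square-zero corner. -/
theorem cmp_bijective_of_heps {F : Art Λ k ⥤ Type v} (hF : Heps F) {E : Art Λ k}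
    (σ : base Λ k ⟶ E) (hE : 𝔪 E ^ 2 = ⊥) {B A : Art Λ k} {p' : B ⟶ A} {p'' : B ⟶ E}
    (h : IsFibreProd p' p'' (toBase A) (toBase E)) : Function.Bijective (cmp F h) := by
  suffices key : ∀ ⦃E' E : Art Λ k⦄ (f : E ⟶ E'), Function.Surjective f → Function.Surjective f ∧
      ((base Λ k ⟶ E) → 𝔪 E ^ 2 = ⊥ →
        (∀ ⦃B A : Art Λ k⦄ (p' : B ⟶ A) (p'' : B ⟶ E') (h : IsFibreProd p' p'' (toBase A) (toBase E')),
          Function.Bijective (cmp F h)) →
        ∀ ⦃B A : Art Λ k⦄ (p' : B ⟶ A) (p'' : B ⟶ E) (h : IsFibreProd p' p'' (toBase A) (toBase E)),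
          Function.Bijective (cmp F h)) by
    refine (key (toBase E) E.res_surjective).2 σ hE ?_ p' p'' h
    intro B A p' p'' h
    haveI : IsIso (toBase (base Λ k)) := isIso_of_bijective _ Function.bijective_id
    exact cmp_bijective_of_isIso h
  refine surj_induction (P := fun E' E f => Function.Surjective f ∧
      ((base Λ k ⟶ E) → 𝔪 E ^ 2 = ⊥ →
        (∀ ⦃B A : Art Λ k⦄ (p' : B ⟶ A) (p'' : B ⟶ E') (h : IsFibreProd p' p'' (toBase A) (toBase E')),
          Function.Bijective (cmp F h)) →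
        ∀ ⦃B A : Art Λ k⦄ (p' : B ⟶ A) (p'' : B ⟶ E) (h : IsFibreProd p' p'' (toBase A) (toBase E)),
          Function.Bijective (cmp F h))) ?_ ?_ ?_
  · intro E' E e he
    refine ⟨(bijective_of_isIso e).2, fun _ _ hgood B A p' p'' h => ?_⟩
    have h' : IsFibreProd p' (p'' ≫ e) (toBase A) (toBase E') :=
      ⟨by rw [eq_toBase (p' ≫ toBase A), eq_toBase ((p'' ≫ e) ≫ toBase E')],
        fun x y e₁ e₂ => h.inj x y e₁ ((bijective_of_isIso e).1 (by rwa [Art.comp_apply, Art.comp_apply] at e₂)),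
        fun a b hab => by
          obtain ⟨c, rfl⟩ := (bijective_of_isIso e).2 b
          obtain ⟨x, h1, h2⟩ := h.surj a c (hab.trans (res_app e c))
          exact ⟨x, h1, by rw [Art.comp_apply, h2]⟩⟩
    have hb := hgood p' (p'' ≫ e) h'
    refine ⟨(cmp_injective_iff h).2 fun z₁ z₂ e₁ e₂ =>
      (cmp_injective_iff h').1 hb.1 z₁ z₂ e₁ (by rw [← map_map, ← map_map, e₂]),
      (cmp_surjective_iff h).2 fun x' x'' hx => ?_⟩
    obtain ⟨z, h1, h2⟩ := (cmp_surjective_iff h').1 hb.2 x' (F.map e x'')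
      (by rw [hx, map_map, eq_toBase (e ≫ _)])
    exact ⟨z, h1, (bijective_map_of_isIso F e).1 (by rw [map_map, h2])⟩
  · intro E' E q hq
    refine ⟨hq.1, fun σ hE hgood B A p' p'' h => ?_⟩
    obtain ⟨g, hg⟩ := exists_split_dual σ hE q hq
    obtain ⟨D, d', d, hD⟩ := exists_isFibreProd (toBase A) (toBase E') E'.res_surjective
    let r := fpLift hD p' (p'' ≫ q)
      (by rw [eq_toBase (p' ≫ toBase A), eq_toBase ((p'' ≫ q) ≫ toBase E')])
    have r1 : r ≫ d' = p' := fpLift_fst hD _ _ _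
    have r2 : r ≫ d = p'' ≫ q := fpLift_snd hD _ _ _
    have hr : IsFibreProd r (p'' ≫ g) (toBase D) (toBase (dual Λ k)) := by
      refine ⟨by rw [eq_toBase (r ≫ toBase D), eq_toBase ((p'' ≫ g) ≫ toBase _)], fun x y e₁ e₂ => ?_,
        fun δ c e => ?_⟩
      · refine h.inj x y (by rw [← r1, Art.comp_apply, Art.comp_apply, e₁]) (hg.inj _ _ ?_ e₂)
        rw [← Art.comp_apply p'' q, ← Art.comp_apply p'' q, ← r2, Art.comp_apply, Art.comp_apply, e₁]
      · obtain ⟨ε, he1, he2⟩ := hg.surj (d δ) c ((res_app d δ).trans e)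
        obtain ⟨x, hx1, hx2⟩ := h.surj (d' δ) ε
          ((hD.w_apply δ).trans ((congrArg (toBase E').toAlgHom he1.symm).trans (res_app q ε)))
        refine ⟨x, hD.inj _ _ (by rw [← Art.comp_apply r d', r1, hx1])
          (by rw [← Art.comp_apply r d, r2, Art.comp_apply, hx2, he1]), ?_⟩
        rw [Art.comp_apply, hx2, he2]
    have bD := hgood d' d hD
    have br := hF r (p'' ≫ g) hr
    refine ⟨(cmp_injective_iff h).2 fun z₁ z₂ e₁ e₂ => (cmp_injective_iff hr).1 br.1 z₁ z₂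
        ((cmp_injective_iff hD).1 bD.1 _ _ (by rw [map_map, map_map, r1, e₁])
          (by rw [map_map, map_map, r2, ← map_map, ← map_map, e₂]))
        (by rw [← map_map, ← map_map, e₂]),
      (cmp_surjective_iff h).2 fun x' x'' hx => ?_⟩
    obtain ⟨y, hy1, hy2⟩ := (cmp_surjective_iff hD).1 bD.2 x' (F.map q x'')
      (by rw [hx, map_map, eq_toBase (q ≫ _)])
    obtain ⟨z, hz1, hz2⟩ := (cmp_surjective_iff hr).1 br.2 y (F.map g x'')
      (by rw [← eq_toBase (d' ≫ toBase A), ← map_map, hy1, hx, map_map, eq_toBase (g ≫ _)])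
    refine ⟨z, by rw [← r1, ← map_map, hz1, hy1], ?_⟩
    have hgE : Function.Bijective (cmp F hg) := hF q g hg
    refine (cmp_injective_iff hg).1 hgE.1 _ _ ?_ ?_
    · rw [map_map, ← r2, ← map_map, hz1, hy2]
    · rw [map_map, hz2]
  · rintro E₀ E₁ E₂ a b ⟨has, ha⟩ ⟨hbs, hb⟩
    refine ⟨hbs.comp has, fun σ hE hgood => ha σ hE (hb (σ ≫ a) ?_ hgood)⟩
    rw [← map_maximalIdeal_eq a has, ← Ideal.map_pow, hE, Ideal.map_bot]

end SqZero

section Tsze

variable (M : Type u) [AddCommGroup M] [Module k M] [Module kᵐᵒᵖ M] [IsCentralScalar k M] [Module Λ M]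
  [IsScalarTower Λ k M] [IsScalarTower Λ kᵐᵒᵖ M] [Module.Finite k M]

variable (Λ k) in
/-- `k ⊕ M`. -/
def tszeArt : Art Λ k :=
  { carrier := TrivSqZeroExt k M
    isLocalRing := isLocalRing_tsze k M
    isArtinianRing := isArtinianRing_tsze k M
    res := TrivSqZeroExt.fstHom Λ k M
    res_surjective := fun a => ⟨TrivSqZeroExt.inl a, rfl⟩ }

variable {M} {N : Type u} [AddCommGroup N] [Module k N] [Module kᵐᵒᵖ N] [IsCentralScalar k N] [Module Λ N]
  [IsScalarTower Λ k N] [IsScalarTower Λ kᵐᵒᵖ N] [Module.Finite k N]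

/-- The morphism `k ⊕ M → k ⊕ N` of a linear map. -/
def tszeHom (f : M →ₗ[k] N) : tszeArt Λ k M ⟶ tszeArt Λ k N :=
  ⟨tszeMap f, AlgHom.ext fun _ => rfl⟩

omit [Module.Finite k N] in
lemma tszeHom_ext {f g : tszeArt Λ k M ⟶ dual Λ k}
    (h : ∀ x : TrivSqZeroExt k M, TrivSqZeroExt.snd (f.toAlgHom x) = TrivSqZeroExt.snd (g.toAlgHom x)) :
    f = g := by
  refine hom_ext_apply fun x => TrivSqZeroExt.ext ?_ (h x)
  have : (dual Λ k).res (f x) = (dual Λ k).res (g x) := by rw [res_app, res_app]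
  exact this

end Tsze

section Tangent

variable [Module.Finite Λ k]

local notation "k3" => (k × k) × k

/-- First two coordinates. -/
def pr₁₂ : tszeArt Λ k k3 ⟶ dual2 Λ k := ⟨tszeMap (LinearMap.fst k (k × k) k), AlgHom.ext fun _ => rfl⟩
/-- Third coordinate. -/
def pr₃ : tszeArt Λ k k3 ⟶ dual Λ k := ⟨tszeMap (LinearMap.snd k (k × k) k), AlgHom.ext fun _ => rfl⟩

lemma isFibreProd_k3 : IsFibreProd (pr₁₂ : tszeArt Λ k k3 ⟶ _) pr₃ (toBase (dual2 Λ k)) (toBase (dual Λ k)) where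
  w := by rw [eq_toBase (pr₁₂ ≫ toBase _), eq_toBase (pr₃ ≫ toBase _)]
  inj x y h₁ h₂ := by
    have e₁ := congrArg TrivSqZeroExt.fst h₁
    have e₂ := congrArg TrivSqZeroExt.snd h₁
    have e₃ := congrArg TrivSqZeroExt.snd h₂
    exact TrivSqZeroExt.ext e₁ (Prod.ext e₂ e₃)
  surj a b e := ⟨(a.fst, (a.snd, b.snd)), TrivSqZeroExt.ext rfl rfl, TrivSqZeroExt.ext e rfl⟩

variable {F : Art Λ k ⥤ Type v}

/-- An element of `F(k[ε₁, ε₂])` with given components. -/
lemma existsUnique_pair (h0 : H0 F) (h2 : Heps F) (x y : F.obj (dual Λ k)) :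
    ∃! z : F.obj (dual2 Λ k), F.map pr₁ z = x ∧ F.map pr₂ z = y := by
  have hb := h2 _ _ (isFibreProd_dual2 (Λ := Λ) (k := k))
  obtain ⟨z, hz⟩ := (cmp_surjective_iff _).1 hb.2 x y (@Subsingleton.elim _ h0.2 _ _)
  exact ⟨z, hz, fun z' hz' =>
    (cmp_injective_iff _).1 hb.1 _ _ (hz'.1.trans hz.1.symm) (hz'.2.trans hz.2.symm)⟩

/-- The vector space structure on the tangent space. -/
noncomputable def tangentStr (h0 : H0 F) (h2 : Heps F) : TangentStr F := by
  classical
  let T := F.obj (dual Λ k)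
  let x₀ : F.obj (base Λ k) := h0.1.some
  haveI : Subsingleton (F.obj (base Λ k)) := h0.2
  let pair : T → T → F.obj (dual2 Λ k) := fun x y => (existsUnique_pair h0 h2 x y).choose
  have pair1 : ∀ x y, F.map pr₁ (pair x y) = x := fun x y =>
    (existsUnique_pair h0 h2 x y).choose_spec.1.1
  have pair2 : ∀ x y, F.map pr₂ (pair x y) = y := fun x y =>
    (existsUnique_pair h0 h2 x y).choose_spec.1.2
  have pair_eq : ∀ z, pair (F.map pr₁ z) (F.map pr₂ z) = z := fun z =>
    ((existsUnique_pair h0 h2 _ _).unique ⟨pair1 _ _, pair2 _ _⟩ ⟨rfl, rfl⟩)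
  let add : T → T → T := fun x y => F.map plus (pair x y)
  let smul : k → T → T := fun c x => F.map (scale c) x
  have add_map : ∀ {E : Art Λ k} (w : F.obj E) (u : E ⟶ dual2 Λ k),
      add (F.map (u ≫ pr₁) w) (F.map (u ≫ pr₂) w) = F.map (u ≫ plus) w := fun w u => by
    simp only [add, ← map_map, pair_eq]
  -- diagonal maps
  let δ : ∀ c d : k, dual Λ k ⟶ dual2 Λ k := fun c d =>
    ⟨tszeMap ((c • LinearMap.id).prod (d • LinearMap.id)), AlgHom.ext fun _ => rfl⟩
  have hscale : ∀ c d x, add (smul c x) (smul d x) = smul (c + d) x := fun c d x => by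
    have h := add_map x (δ c d)
    rw [show δ c d ≫ pr₁ = scale c from hom_ext_apply fun z => TrivSqZeroExt.ext rfl rfl,
      show δ c d ≫ pr₂ = scale d from hom_ext_apply fun z => TrivSqZeroExt.ext rfl rfl,
      show δ c d ≫ plus = scale (c + d) from hom_ext_apply fun z =>
        TrivSqZeroExt.ext rfl (add_mul c d _).symm] at h
    exact h
  have hone : ∀ x, smul 1 x = x := fun x => by
    simp only [smul]
    rw [show (scale 1 : dual Λ k ⟶ _) = 𝟙 _ from hom_ext_apply fun z => TrivSqZeroExt.ext rfl (one_mul _),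
      map_id']
  have hmul : ∀ c d x, smul (c * d) x = smul c (smul d x) := fun c d x => by
    simp only [smul]
    rw [map_map, show scale d ≫ scale c = (scale (c * d) : dual Λ k ⟶ _) from
      hom_ext_apply fun z => TrivSqZeroExt.ext rfl (mul_assoc c d _).symm]
  let zero : T := F.map baseToDual x₀
  have hzero : ∀ x, smul 0 x = zero := fun x => by
    simp only [smul, zero]
    rw [show (scale 0 : dual Λ k ⟶ _) = toBase _ ≫ baseToDual from
      hom_ext_apply fun z => TrivSqZeroExt.ext rfl (zero_mul _), ← map_map]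
    exact congrArg _ (Subsingleton.elim _ _)
  have hsmul0 : ∀ c, smul c zero = zero := fun c => by
    rw [← hzero zero, ← hmul, mul_zero]
  have comm : ∀ x y, add x y = add y x := fun x y => by
    let sw : dual2 Λ k ⟶ dual2 Λ k :=
      ⟨tszeMap ((LinearMap.snd k k k).prod (LinearMap.fst k k k)), AlgHom.ext fun _ => rfl⟩
    have h := add_map (pair x y) sw
    rw [show sw ≫ pr₁ = pr₂ from hom_ext_apply fun z => TrivSqZeroExt.ext rfl rfl,
      show sw ≫ pr₂ = pr₁ from hom_ext_apply fun z => TrivSqZeroExt.ext rfl rfl,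
      show sw ≫ plus = plus from hom_ext_apply fun z => TrivSqZeroExt.ext rfl (add_comm _ _),
      pair1, pair2] at h
    exact h.symm
  have smul_add' : ∀ c x y, smul c (add x y) = add (smul c x) (smul c y) := fun c x y => by
    let sc : dual2 Λ k ⟶ dual2 Λ k :=
      ⟨tszeMap (c • LinearMap.id), AlgHom.ext fun _ => rfl⟩
    have h := add_map (pair x y) sc
    rw [show sc ≫ pr₁ = pr₁ ≫ scale c from hom_ext_apply fun z => TrivSqZeroExt.ext rfl rfl,
      show sc ≫ pr₂ = pr₂ ≫ scale c from hom_ext_apply fun z => TrivSqZeroExt.ext rfl rfl,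
      show sc ≫ plus = plus ≫ scale c from hom_ext_apply fun z => TrivSqZeroExt.ext rfl (mul_add c _ _).symm,
      ← map_map, ← map_map, ← map_map, pair1, pair2] at h
    exact h.symm
  have assoc : ∀ x y z, add (add x y) z = add x (add y z) := fun x y z => by
    obtain ⟨w, hw12, hw3⟩ := (cmp_surjective_iff isFibreProd_k3).1 (h2 _ _ isFibreProd_k3).2 (pair x y) z
      (Subsingleton.elim _ _)
    let L₁ : k3 →ₗ[k] k := (LinearMap.fst k k k).comp (LinearMap.fst k (k × k) k)
    let L₂ : k3 →ₗ[k] k := (LinearMap.snd k k k).comp (LinearMap.fst k (k × k) k)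
    let L₃ : k3 →ₗ[k] k := LinearMap.snd k (k × k) k
    let q : (k3 →ₗ[k] k) → (tszeArt Λ k k3 ⟶ dual Λ k) := fun L => ⟨tszeMap L, AlgHom.ext fun _ => rfl⟩
    have hq : ∀ L L' : k3 →ₗ[k] k, add (F.map (q L) w) (F.map (q L') w) = F.map (q (L + L')) w := fun L L' => by
      let u : tszeArt Λ k k3 ⟶ dual2 Λ k := ⟨tszeMap (L.prod L'), AlgHom.ext fun _ => rfl⟩
      have h := add_map w u
      rw [show u ≫ pr₁ = q L from hom_ext_apply fun z => TrivSqZeroExt.ext rfl rfl,
        show u ≫ pr₂ = q L' from hom_ext_apply fun z => TrivSqZeroExt.ext rfl rfl,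
        show u ≫ plus = q (L + L') from hom_ext_apply fun z => TrivSqZeroExt.ext rfl rfl] at h
      exact h
    have hx : F.map (q L₁) w = x := by
      rw [show q L₁ = pr₁₂ ≫ pr₁ from hom_ext_apply fun z => TrivSqZeroExt.ext rfl rfl, ← map_map, hw12, pair1]
    have hy : F.map (q L₂) w = y := by
      rw [show q L₂ = pr₁₂ ≫ pr₂ from hom_ext_apply fun z => TrivSqZeroExt.ext rfl rfl, ← map_map, hw12, pair2]
    have hz : F.map (q L₃) w = z := hw3
    rw [← hx, ← hy, ← hz, hq, hq, hq, hq, _root_.add_assoc]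
  have zero_add' : ∀ x, add zero x = x := fun x => by
    conv_lhs => rw [← hone x, ← hzero x, hscale, _root_.zero_add, hone]
  letI iA : AddCommGroup T :=
    { add := add
      zero := zero
      neg := smul (-1)
      add_assoc := assoc
      zero_add := zero_add'
      add_zero := fun x => (comm x zero).trans (zero_add' x)
      add_comm := comm
      neg_add_cancel := fun x => by
        change add (smul (-1) x) x = zero
        conv_lhs => arg 2; rw [← hone x]
        rw [hscale, neg_add_cancel, hzero]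
      nsmul := @nsmulRec T ⟨zero⟩ ⟨add⟩
      zsmul := @zsmulRec T ⟨zero⟩ ⟨add⟩ ⟨smul (-1)⟩ (@nsmulRec T ⟨zero⟩ ⟨add⟩) }
  exact
    { addCommGroup := iA
      module :=
        { smul := smul
          one_smul := hone
          mul_smul := hmul
          smul_zero := hsmul0
          smul_add := smul_add'
          add_smul := fun c d x => (hscale c d x).symm
          zero_smul := hzero }
      smul_eq := fun _ _ => rfl
      add_eq := fun z => congrArg (F.map plus) (pair_eq z) }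

/-- Functoriality: additivity of the tangent map. -/
lemma tangent_map_add [TangentStr F] {G : Art Λ k ⥤ Type v} [TangentStr G] (φ : F ⟶ G)
    (hF0 : H0 F) (hF2 : Heps F) (x y : TangentSpace F) :
    TangentSpace.map φ (x + y) = TangentSpace.map φ x + TangentSpace.map φ y := by
  obtain ⟨z, ⟨hx, hy⟩, -⟩ := existsUnique_pair hF0 hF2 x y
  subst hx hy
  have h := TangentStr.add_eq (F := G) (φ.app _ z)
  rw [← NatTrans.naturality_apply φ, ← NatTrans.naturality_apply φ, ← NatTrans.naturality_apply φ] at h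
  exact (congrArg (φ.app (dual Λ k)) (TangentStr.add_eq (F := F) z)).trans h.symm

lemma tangent_map_smul [TangentStr F] {G : Art Λ k ⥤ Type v} [TangentStr G] (φ : F ⟶ G)
    (c : k) (x : TangentSpace F) : TangentSpace.map φ (c • x) = c • TangentSpace.map φ x := by
  have h1 := TangentStr.smul_eq (F := F) c x
  have h2 := TangentStr.smul_eq (F := G) c (φ.app _ x)
  exact ((congrArg (φ.app (dual Λ k)) h1).trans (NatTrans.naturality_apply φ _ x)).trans h2.symm

end Tangent

end Groth.ArtfunDeform
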