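import Groth.Prelude.Def_ArtFun6
import Groth.Agent.ArtfunDeform.FunctorBasic
import Groth.Agent.Divisors.IdealComap
import Groth.Agent.FlatMor2.NilBaseChange
import Groth.Agent.Misc3Fib.Basic

/-!
The local Hilbert functor on affine charts: sections of `X ×_k Spec A` over the preimage of an affine
open of `X`, reduction maps along morphisms of Artin rings, flatness of closed subschemes chartwise.
-/

set_option linter.style.longLine false

universe u

open CategoryTheory CategoryTheory.Limits AlgebraicGeometry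
open ArtFun ArtFun.Art

namespace Groth.ArtfunDeform.HilbAffine

variable {k : Type u} [Field k] {X : Scheme.{u}} (x : X ⟶ specPt k)

/-- The preimage of an affine open in `X ×_k Spec A`. -/
noncomputable def pre (A : Art k k) (U : X.affineOpens) : (XA x A).affineOpens :=
  haveI : IsAffineHom (pullback.fst x (specOver A)) :=
    MorphismProperty.of_isPullback (P := @IsAffineHom) (IsPullback.of_hasPullback x (specOver A)).flip inferInstance
  ⟨pullback.fst x (specOver A) ⁻¹ᵁ U.1, U.2.preimage _⟩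

theorem incl_pre (A : Art k k) (U : X.affineOpens) : XAincl x A ⁻¹ᵁ (pre x A U).1 = U.1 :=
  (Scheme.Hom.comp_preimage _ _ _).symm.trans (by rw [XAincl_fst]; rfl)

theorem map_pre {A B : Art k k} (p : A ⟶ B) (U : X.affineOpens) :
    XAmap x p ⁻¹ᵁ (pre x A U).1 = (pre x B U).1 :=
  (Scheme.Hom.comp_preimage _ _ _).symm.trans (by rw [XAmap_fst]; rfl)

theorem exists_mem_pre (A : Art k k) (y : XA x A) : ∃ U, y ∈ (pre x A U).1 := by
  obtain ⟨U, hU, -⟩ := Groth.Divisors.exists_affine_le (pullback.fst x (specOver A) y) ⊤ trivial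
  exact ⟨U, hU⟩

/-- Sections over the preimage of an affine open. -/
noncomputable abbrev Sec (A : Art k k) (U : X.affineOpens) : Type u := Γ(XA x A, (pre x A U).1)

/-- The coefficient map. -/
noncomputable def coef (A : Art k k) (U : X.affineOpens) : A →+* Sec x A U :=
  ((Scheme.ΓSpecIso (CommRingCat.of A)).inv ≫ (XApr x A).appLE ⊤ (pre x A U).1 le_top).hom

/-- Restriction to the closed fibre. -/
noncomputable def fib (A : Art k k) (U : X.affineOpens) : Sec x A U →+* Γ(X, U.1) :=
  ((XAincl x A).appLE _ _ (incl_pre x A U).ge).hom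

/-- Reduction along a morphism of Artin rings. -/
noncomputable def red {A B : Art k k} (p : A ⟶ B) (U : X.affineOpens) : Sec x A U →+* Sec x B U :=
  ((XAmap x p).appLE _ _ (map_pre x p U).ge).hom

/-- The ring of global functions of `Spec` computes `Spec.map`. -/
theorem appLE_SpecMap {P Q : CommRingCat.{u}} (φ : P ⟶ Q) :
    (Scheme.ΓSpecIso P).inv ≫ (Spec.map φ).appLE ⊤ ⊤ le_top = φ ≫ (Scheme.ΓSpecIso Q).inv :=
  (congrArg ((Scheme.ΓSpecIso P).inv ≫ ·) (Spec.map φ).app_eq_appLE.symm).trans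
    (Scheme.ΓSpecIso_inv_naturality φ).symm

theorem appLE_square {P Q R S : Scheme.{u}} (g : P ⟶ Q) (f : Q ⟶ S) (h : P ⟶ R) (φ : R ⟶ S)
    (H : g ≫ f = h ≫ φ) (V : Q.Opens) (W : P.Opens) (e : W ≤ g ⁻¹ᵁ V) :
    f.appLE ⊤ V le_top ≫ g.appLE V W e = φ.appLE ⊤ ⊤ le_top ≫ h.appLE ⊤ W le_top := by
  have key : ∀ (q q' : P ⟶ S), q = q' → ∀ e₁ e₂, q.appLE ⊤ W e₁ = q'.appLE ⊤ W e₂ := by
    rintro q _ rfl _ _; rfl
  exact (Scheme.Hom.appLE_comp_appLE _ _ _ _ _ _ _).trans
    ((key _ _ H _ _).trans (Scheme.Hom.appLE_comp_appLE _ _ _ _ _ _ _).symm)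

theorem red_coef {A B : Art k k} (p : A ⟶ B) (U : X.affineOpens) (a : A) :
    red x p U (coef x A U a) = coef x B U (p a) := by
  have e : (Scheme.ΓSpecIso (CommRingCat.of A)).inv ≫
      (XApr x A).appLE ⊤ (pre x A U).1 le_top ≫ (XAmap x p).appLE _ (pre x B U).1 (map_pre x p U).ge =
      CommRingCat.ofHom p.toAlgHom.toRingHom ≫ (Scheme.ΓSpecIso (CommRingCat.of B)).inv ≫
        (XApr x B).appLE ⊤ (pre x B U).1 le_top := by
    refine (congrArg ((Scheme.ΓSpecIso (CommRingCat.of A)).inv ≫ ·)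
      (appLE_square (XAmap x p) (XApr x A) (XApr x B) (specMap p) (XAmap_snd x p) _ _ _)).trans ?_
    exact ((Category.assoc _ _ _).symm.trans
      (congrArg (· ≫ (XApr x B).appLE ⊤ (pre x B U).1 le_top) (appLE_SpecMap _))).trans (Category.assoc _ _ _)
  exact ConcreteCategory.congr_hom e a

theorem red_red {A B C : Art k k} (p : A ⟶ B) (q : B ⟶ C) (U : X.affineOpens) (s : Sec x A U) :
    red x q U (red x p U s) = red x (p ≫ q) U s := by
  have e : (XAmap x p).appLE _ (pre x B U).1 (map_pre x p U).ge ≫ (XAmap x q).appLE _ (pre x C U).1 (map_pre x q U).ge =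
      (XAmap x (p ≫ q)).appLE _ (pre x C U).1 (map_pre x (p ≫ q) U).ge := by
    rw [Scheme.Hom.appLE_comp_appLE]
    simp only [XAmap_comp]
  exact ConcreteCategory.congr_hom e s

theorem fib_red {A B : Art k k} (p : A ⟶ B) (U : X.affineOpens) (s : Sec x A U) :
    fib x B U (red x p U s) = fib x A U s := by
  have e : (XAmap x p).appLE _ (pre x B U).1 (map_pre x p U).ge ≫ (XAincl x B).appLE _ U.1 (incl_pre x B U).ge =
      (XAincl x A).appLE _ U.1 (incl_pre x A U).ge := by
    rw [Scheme.Hom.appLE_comp_appLE]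
    simp only [XAincl_XAmap]
  exact ConcreteCategory.congr_hom e s

theorem fib_spec (A : Art k k) (U : X.affineOpens) :
    Function.Surjective (fib x A U) ∧
      RingHom.ker (fib x A U) = (IsLocalRing.maximalIdeal A).map (coef x A U) := by
  have hUY : U.1 = XAincl x A ⁻¹ᵁ (pre x A U).1 ⊓ x ⁻¹ᵁ ⊤ := by
    rw [incl_pre]; exact (inf_top_eq _).symm
  have H := (isIso_pushoutSection_iff (isPullback_XAincl x A) (hUST := le_top) (hUSX := le_top) (hUY := hUY)).1
    (isIso_pushoutSection_of_isAffineOpen (isPullback_XAincl x A) le_top le_top hUY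
      (isAffineOpen_top _) (isAffineOpen_top _) (pre x A U).2)
  let eA : A ≃+* Γ(spec A, ⊤) := (Scheme.ΓSpecIso (CommRingCat.of A)).symm.commRingCatIsoToRingEquiv
  let ek : k ≃+* Γ(specPt k, ⊤) := (Scheme.ΓSpecIso (CommRingCat.of k)).symm.commRingCatIsoToRingEquiv
  have hres : ∀ a : A, ((specRes A).appLE ⊤ ⊤ le_top).hom (eA a) = ek (A.res a) := fun a =>
    ConcreteCategory.congr_hom (appLE_SpecMap (CommRingCat.ofHom A.res.toRingHom)) a
  have hs : Function.Surjective ((specRes A).appLE ⊤ ⊤ le_top).hom := fun c => by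
    obtain ⟨b, rfl⟩ := ek.surjective c
    obtain ⟨a, rfl⟩ := A.res_surjective b
    exact ⟨eA a, hres a⟩
  refine ⟨Groth.FlatMor2.surjective_of_isPushout H hs, ?_⟩
  refine (Groth.FlatMor2.ker_eq_map_of_isPushout H hs).trans ?_
  have hm : RingHom.ker ((specRes A).appLE ⊤ ⊤ le_top).hom = (IsLocalRing.maximalIdeal A).map eA.toRingHom := by
    ext c
    obtain ⟨a, rfl⟩ := eA.surjective c
    rw [RingHom.mem_ker, hres, map_eq_zero_iff _ ek.injective, ← A.mem_maximalIdeal_iff]
    exact ((Ideal.mem_map_iff_of_surjective eA.toRingHom eA.surjective).trans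
      ⟨fun ⟨b, hb, e⟩ => eA.injective e ▸ hb, fun h => ⟨a, h, rfl⟩⟩).symm
  rw [hm, Ideal.map_map]
  rfl

theorem red_spec {A B : Art k k} (p : A ⟶ B) (hp : Function.Surjective p) (U : X.affineOpens) :
    Function.Surjective (red x p U) ∧
      RingHom.ker (red x p U) = (RingHom.ker p.toAlgHom).map (coef x A U) := by
  have hUY : (pre x B U).1 = XAmap x p ⁻¹ᵁ (pre x A U).1 ⊓ XApr x B ⁻¹ᵁ ⊤ := by
    rw [map_pre]; exact (inf_top_eq _).symm
  have H := (isIso_pushoutSection_iff (isPullback_XAmap x p) (hUST := le_top) (hUSX := le_top) (hUY := hUY)).1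
    (isIso_pushoutSection_of_isAffineOpen (isPullback_XAmap x p) le_top le_top hUY
      (isAffineOpen_top _) (isAffineOpen_top _) (pre x A U).2)
  let eA : A ≃+* Γ(spec A, ⊤) := (Scheme.ΓSpecIso (CommRingCat.of A)).symm.commRingCatIsoToRingEquiv
  let eB : B ≃+* Γ(spec B, ⊤) := (Scheme.ΓSpecIso (CommRingCat.of B)).symm.commRingCatIsoToRingEquiv
  have hres : ∀ a : A, ((specMap p).appLE ⊤ ⊤ le_top).hom (eA a) = eB (p a) := fun a =>
    ConcreteCategory.congr_hom (appLE_SpecMap (CommRingCat.ofHom p.toAlgHom.toRingHom)) a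
  have hs : Function.Surjective ((specMap p).appLE ⊤ ⊤ le_top).hom := fun c => by
    obtain ⟨b, rfl⟩ := eB.surjective c
    obtain ⟨a, rfl⟩ := hp b
    exact ⟨eA a, hres a⟩
  refine ⟨Groth.FlatMor2.surjective_of_isPushout H hs, ?_⟩
  refine (Groth.FlatMor2.ker_eq_map_of_isPushout H hs).trans ?_
  have hm : RingHom.ker ((specMap p).appLE ⊤ ⊤ le_top).hom = (RingHom.ker p.toAlgHom).map eA.toRingHom := by
    ext c
    obtain ⟨a, rfl⟩ := eA.surjective c
    rw [RingHom.mem_ker, hres, map_eq_zero_iff _ eB.injective]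
    change a ∈ RingHom.ker p.toAlgHom ↔ _
    exact ((Ideal.mem_map_iff_of_surjective eA.toRingHom eA.surjective).trans
      ⟨fun ⟨b, hb, e⟩ => eA.injective e ▸ hb, fun h => ⟨a, h, rfl⟩⟩).symm
  rw [hm, Ideal.map_map]
  rfl

/-- `X ×_k Spec A` is flat over `Spec A`. -/
theorem coef_flat (A : Art k k) (U : X.affineOpens) : (coef x A U).Flat := by
  have : Flat x := Misc3Fib.flat_of_field x
  have hf : Flat (XApr x A) := inferInstance
  exact RingHom.Flat.comp
    (RingHom.Flat.of_bijective (Scheme.ΓSpecIso (CommRingCat.of A)).symm.commRingCatIsoToRingEquiv.bijective)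
    (HasRingHomProperty.appLE @Flat _ hf ⟨⊤, isAffineOpen_top _⟩ (pre x A U) le_top)

/-- Flatness of a closed subscheme chart by chart. -/
theorem flatOver_iff (A : Art k k) (L : (XA x A).IdealSheafData) :
    FlatOver X x A L ↔ ∀ U, ((Ideal.Quotient.mk (L.ideal (pre x A U))).comp (coef x A U)).Flat := by
  let e (U : X.affineOpens) : (Sec x A U) ⧸ L.ideal (pre x A U) ≃+* Γ(L.subscheme, L.subschemeι ⁻¹ᵁ (pre x A U).1) :=
    (Ideal.quotEquivOfEq (L.ker_subschemeι_app (pre x A U)).symm).trans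
      (RingHom.quotientKerEquivOfSurjective (f := (L.subschemeι.app (pre x A U).1).hom) (L.subschemeι_app_surjective _))
  let eA : A ≃+* Γ(spec A, ⊤) := (Scheme.ΓSpecIso (CommRingCat.of A)).symm.commRingCatIsoToRingEquiv
  have key : ∀ U, ((L.subschemeι ≫ XApr x A).appLE ⊤ (L.subschemeι ⁻¹ᵁ (pre x A U).1) le_top).hom =
      ((e U).toRingHom.comp ((Ideal.Quotient.mk (L.ideal (pre x A U))).comp (coef x A U))).comp eA.symm.toRingHom := by
    intro U
    ext c
    obtain ⟨a, rfl⟩ := eA.surjective c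
    rw [RingHom.comp_apply, show eA.symm.toRingHom (eA a) = a from eA.symm_apply_apply a]
    have h1 : (XApr x A).appLE ⊤ (pre x A U).1 le_top ≫ L.subschemeι.app (pre x A U).1 =
        (L.subschemeι ≫ XApr x A).appLE ⊤ (L.subschemeι ⁻¹ᵁ (pre x A U).1) le_top := by
      rw [Scheme.Hom.app_eq_appLE]
      exact Scheme.Hom.appLE_comp_appLE _ _ _ _ _ _ _
    exact (ConcreteCategory.congr_hom h1 (eA a)).symm
  constructor
  · intro h U
    have h1 : ((L.subschemeι ≫ XApr x A).appLE ⊤ (L.subschemeι ⁻¹ᵁ (pre x A U).1) le_top).hom.Flat :=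
      HasRingHomProperty.appLE @Flat _ h ⟨⊤, isAffineOpen_top _⟩ ⟨_, (pre x A U).2.preimage L.subschemeι⟩ le_top
    rw [key] at h1
    have h2 : (((e U).symm.toRingHom.comp (((e U).toRingHom.comp
        ((Ideal.Quotient.mk (L.ideal (pre x A U))).comp (coef x A U))).comp eA.symm.toRingHom)).comp
          eA.toRingHom).Flat :=
      RingHom.Flat.comp (RingHom.Flat.of_bijective (f := eA.toRingHom) eA.bijective)
        (RingHom.Flat.comp h1 (RingHom.Flat.of_bijective (f := (e U).symm.toRingHom) (e U).symm.bijective))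
    have h3 : ((e U).symm.toRingHom.comp (((e U).toRingHom.comp
        ((Ideal.Quotient.mk (L.ideal (pre x A U))).comp (coef x A U))).comp eA.symm.toRingHom)).comp
          eA.toRingHom = (Ideal.Quotient.mk (L.ideal (pre x A U))).comp (coef x A U) := by
      ext a
      simp only [RingHom.comp_apply, RingEquiv.toRingHom_eq_coe, RingEquiv.coe_toRingHom,
        RingEquiv.symm_apply_apply]
    rw [← h3]
    exact h2
  · intro h
    refine HasRingHomProperty.of_iSup_eq_top (P := @Flat)
      (fun U : X.affineOpens => ⟨L.subschemeι ⁻¹ᵁ (pre x A U).1, (pre x A U).2.preimage _⟩) ?_ fun U => ?_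
    · refine top_le_iff.1 fun y _ => ?_
      obtain ⟨U, hU⟩ := exists_mem_pre x A (L.subschemeι y)
      exact TopologicalSpace.Opens.mem_iSup.2 ⟨U, hU⟩
    · show ((L.subschemeι ≫ XApr x A).appLE ⊤ _ le_top).hom.Flat
      rw [key]
      exact RingHom.Flat.comp (RingHom.Flat.of_bijective (f := eA.symm.toRingHom) eA.symm.bijective)
        (RingHom.Flat.comp (h U) (RingHom.Flat.of_bijective (f := (e U).toRingHom) (e U).bijective))

theorem ideal_fib {A : Art k k} (L : (XA x A).IdealSheafData) (U : X.affineOpens) :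
    (L.comap (XAincl x A)).ideal U = (L.ideal (pre x A U)).map (fib x A U) :=
  Groth.Divisors.ideal_comap_affine _ _ _ _ (incl_pre x A U).ge

theorem ideal_red {A B : Art k k} (p : A ⟶ B) (L : (XA x A).IdealSheafData) (U : X.affineOpens) :
    (L.comap (XAmap x p)).ideal (pre x B U) = (L.ideal (pre x A U)).map (red x p U) :=
  Groth.Divisors.ideal_comap_affine _ _ _ _ (map_pre x p U).ge

theorem ext_pre {A : Art k k} {L L' : (XA x A).IdealSheafData}
    (h : ∀ U, L.ideal (pre x A U) = L'.ideal (pre x A U)) : L = L' :=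
  Groth.Divisors.ext_of_cover fun y =>
    (exists_mem_pre x A y).elim fun U hU => ⟨pre x A U, hU, h U⟩

end Groth.ArtfunDeform.HilbAffine
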