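import Groth.Agent.ArtfunDeform.HilbGlue
import Groth.Agent.PicAux.Sections

/-!
Charts of `X ×_k Spec A`: the constant section, restrictions, every affine open is a chart.
-/

set_option linter.style.longLine false

universe u

open CategoryTheory CategoryTheory.Limits AlgebraicGeometry
open ArtFun ArtFun.Art

namespace Groth.ArtfunDeform.HilbAffine

open Groth.PicAux (resX)

variable {k : Type u} [Field k] {X : Scheme.{u}} (x : X ⟶ specPt k)

/-- Functions of `X` as functions constant in the Artin ring. -/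
noncomputable def sect (A : Art k k) (U : X.affineOpens) : Γ(X, U.1) →+* Sec x A U :=
  ((pullback.fst x (specOver A)).appLE U.1 (pre x A U).1 le_rfl).hom

theorem appLE_eq {P Q : Scheme.{u}} {f g : P ⟶ Q} (e : f = g) (V : Q.Opens) (W : P.Opens) (e₁ : W ≤ f ⁻¹ᵁ V)
    (e₂ : W ≤ g ⁻¹ᵁ V) : f.appLE V W e₁ = g.appLE V W e₂ := by
  subst e; rfl

theorem fib_sect (A : Art k k) (U : X.affineOpens) (f : Γ(X, U.1)) : fib x A U (sect x A U f) = f := by
  have h : (pullback.fst x (specOver A)).appLE U.1 (pre x A U).1 le_rfl ≫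
      (XAincl x A).appLE _ U.1 (incl_pre x A U).ge = (𝟙 X : X ⟶ X).appLE U.1 U.1 le_rfl :=
    (Scheme.Hom.appLE_comp_appLE _ _ _ _ _ _ _).trans (appLE_eq (XAincl_fst x A) _ _ _ _)
  refine (ConcreteCategory.congr_hom h f).trans ?_
  simp only [Scheme.Hom.appLE, Scheme.Hom.id_app]
  exact Groth.PicAux.resX_self _ f

theorem red_sect {A B : Art k k} (p : A ⟶ B) (U : X.affineOpens) (f : Γ(X, U.1)) :
    red x p U (sect x A U f) = sect x B U f :=
  ConcreteCategory.congr_hom
    ((Scheme.Hom.appLE_comp_appLE _ _ _ _ _ _ _).trans (appLE_eq (XAmap_fst x p) _ _ _ le_rfl) :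
      (pullback.fst x (specOver A)).appLE U.1 (pre x A U).1 le_rfl ≫
        (XAmap x p).appLE _ (pre x B U).1 (map_pre x p U).ge =
          (pullback.fst x (specOver B)).appLE U.1 (pre x B U).1 le_rfl) f

variable (A : Art k k) {U W : X.affineOpens}

theorem pre_mono (h : W.1 ≤ U.1) : (pre x A W).1 ≤ (pre x A U).1 := fun _ hy => h hy

theorem sect_res (h : W.1 ≤ U.1) (f : Γ(X, U.1)) :
    resX _ (pre_mono x A h) (sect x A U f) = sect x A W (resX X h f) :=
  (ConcreteCategory.congr_hom (Scheme.Hom.appLE_map (pullback.fst x (specOver A)) (V := (pre x A U).1) le_rfl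
    (homOfLE (pre_mono x A h)).op) f).trans
    (ConcreteCategory.congr_hom (Scheme.Hom.map_appLE (pullback.fst x (specOver A)) (U := W.1) (U' := U.1)
      (V := (pre x A W).1) le_rfl (homOfLE h).op) f).symm

theorem coef_res' (h : W.1 ≤ U.1) (c : A) :
    resX _ (pre_mono x A h) (coef x A U c) = coef x A W c :=
  ConcreteCategory.congr_hom (Scheme.Hom.appLE_map (XApr x A) (U := ⊤) (V := (pre x A U).1) le_top (homOfLE (pre_mono x A h)).op)
    ((Scheme.ΓSpecIso (CommRingCat.of A)).inv c)

theorem fib_res' (h : W.1 ≤ U.1) (s : Sec x A U) :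
    fib x A W (resX _ (pre_mono x A h) s) = resX X h (fib x A U s) :=
  (ConcreteCategory.congr_hom (Scheme.Hom.map_appLE _ (incl_pre x A W).ge (homOfLE (pre_mono x A h)).op) s).trans
    (ConcreteCategory.congr_hom (Scheme.Hom.appLE_map _ (incl_pre x A U).ge (homOfLE h).op) s).symm

theorem incl_surjective : Function.Surjective (XAincl x A) := by
  have hs : Surjective (specRes A) := ⟨fun q => ⟨IsLocalRing.closedPoint k, by
    refine PrimeSpectrum.ext ?_
    have h : ∀ r : PrimeSpectrum A, r.asIdeal = IsLocalRing.maximalIdeal A := fun r => by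
      obtain ⟨n, hn⟩ := IsArtinianRing.isNilpotent_jacobson_bot (R := A)
      rw [IsLocalRing.jacobson_eq_maximalIdeal ⊥ bot_ne_top] at hn
      exact le_antisymm (IsLocalRing.le_maximalIdeal r.2.ne_top)
        (r.2.le_of_pow_le (n := n) (by rw [hn]; exact bot_le))
    exact (h _).trans (h q).symm⟩⟩
  exact (MorphismProperty.of_isPullback (P := @Surjective) (isPullback_XAincl x A).flip hs).surj

/-- An open of `X ×_k Spec A` is the preimage of its trace on `X`. -/
theorem fst_preimage_incl_preimage (V : (XA x A).Opens) :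
    pullback.fst x (specOver A) ⁻¹ᵁ (XAincl x A ⁻¹ᵁ V) = V := by
  ext y
  obtain ⟨z, rfl⟩ := incl_surjective x A y
  have e : pullback.fst x (specOver A) (XAincl x A z) = z :=
    (Scheme.Hom.comp_apply (XAincl x A) _ z).symm.trans (congrArg (fun q : X ⟶ X => q z) (XAincl_fst x A))
  change XAincl x A (pullback.fst x (specOver A) (XAincl x A z)) ∈ V ↔ _
  rw [e]
  rfl

theorem exists_pre_eq (V : (XA x A).affineOpens) : ∃ U, pre x A U = V := by
  have : IsAffineHom (XAincl x A) :=
    MorphismProperty.of_isPullback (P := @IsAffineHom) (isPullback_XAincl x A).flip inferInstance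
  exact ⟨⟨XAincl x A ⁻¹ᵁ V.1, V.2.preimage _⟩, Subtype.ext (fst_preimage_incl_preimage x A V.1)⟩

theorem pre_le_iff : (pre x A W).1 ≤ (pre x A U).1 ↔ W.1 ≤ U.1 := by
  refine ⟨fun h => ?_, pre_mono x A⟩
  rw [← incl_pre x A U, ← incl_pre x A W]
  exact fun y hy => h hy

theorem affineBasicOpen_pre (U : X.affineOpens) (h : Sec x A U) :
    (XA x A).affineBasicOpen (U := pre x A U) h = pre x A (X.affineBasicOpen (U := U) (fib x A U h)) := by
  obtain ⟨U', hU'⟩ := exists_pre_eq x A ((XA x A).affineBasicOpen (U := pre x A U) h)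
  refine hU'.symm.trans (congrArg _ (Subtype.ext ?_))
  rw [← incl_pre x A U', hU']
  change XAincl x A ⁻¹ᵁ (XA x A).basicOpen (U := (pre x A U).1) h = X.basicOpen (U := U.1) (fib x A U h)
  rw [Scheme.preimage_basicOpen]
  exact (Scheme.basicOpen_res_eq _ _ (eqToHom (incl_pre x A U).symm).op).symm

end Groth.ArtfunDeform.HilbAffine
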