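import Groth.Agent.S14359
import Groth.Agent.S9408
import Groth.Agent.Ega4Algebra1.RegularLocal
import Groth.Agent.Ega4Algebra1.RegularNormal

/-!
On a regular ring, an ideal of height at least two has no homomorphisms to the ring besides the scalars.
-/

set_option autoImplicit false

universe u

namespace Groth.ArtfunDeform.RegularColon

theorem exists_eq_mul_local {R : Type u} [CommRing R] [IsRegularLocalRing R] {ι : Type*} (f t : ι → R)
    (h : ∀ i j, t i * f j = t j * f i)
    (hcodim : ∀ Q : Ideal R, Q.IsPrime → (∀ i, f i ∈ Q) → (2 : ℕ∞) ≤ Q.height) :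
    ∃ v, ∀ i, t i = v * f i := by
  have := Groth.Ega4Algebra1.isDomain_of_isRegularLocalRing R
  have := Groth.Ega4Algebra1.isIntegrallyClosed_of_isRegularLocalRing R
  have hne : ∃ j, f j ≠ 0 := by
    by_contra hf
    push Not at hf
    have h0 : (⊥ : Ideal R).height = 0 := Ideal.height_bot
    have := hcodim ⊥ Ideal.isPrime_bot (fun i => by simp [hf i])
    rw [h0] at this
    exact absurd this (by norm_num)
  obtain ⟨j, hj⟩ := hne
  by_cases hd : f j ∣ t j
  · obtain ⟨v, hv⟩ := hd
    exact ⟨v, fun i => mul_right_cancel₀ hj (by rw [h i j, hv]; ring)⟩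
  · exfalso
    have hz : Ideal.Quotient.mk (Ideal.span {f j}) (t j) ≠ 0 := by
      rwa [Ne, Ideal.Quotient.eq_zero_iff_mem, Ideal.mem_span_singleton]
    obtain ⟨Q, hQ, hle⟩ := exists_le_isAssociatedPrime_of_isNoetherianRing R _ hz
    have hQ1 := Groth.Agent.S14359.result R (f j) hj Q hQ
    have := hcodim Q hQ.isPrime (fun i => hle (by
      rw [Submodule.mem_colon_singleton, Submodule.mem_bot]
      show Ideal.Quotient.mk (Ideal.span {f j}) (f i * t j) = 0
      exact Ideal.Quotient.eq_zero_iff_mem.2 (Ideal.mem_span_singleton.2 ⟨t i, by rw [mul_comm, ← h i j]; ring⟩)))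
    rw [hQ1] at this
    exact absurd this (by norm_num)

theorem exists_eq_mul {A : Type u} [CommRing A] [IsRegularRing A] {ι : Type*} [Finite ι] (f t : ι → A)
    (h : ∀ i j, t i * f j = t j * f i)
    (hcodim : ∀ P : Ideal A, P.IsPrime → (∀ i, f i ∈ P) → (2 : ℕ∞) ≤ P.height) :
    ∃ v, ∀ i, t i = v * f i := by
  classical
  cases nonempty_fintype ι
  let L : Ideal A :=
    { carrier := {s | ∃ v, ∀ i, s * t i = v * f i}
      add_mem' := fun {a b} ⟨v, hv⟩ ⟨w, hw⟩ => ⟨v + w, fun i => by rw [add_mul, hv, hw, add_mul]⟩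
      zero_mem' := ⟨0, fun i => by simp⟩
      smul_mem' := fun c a ⟨v, hv⟩ => ⟨c * v, fun i => by rw [smul_eq_mul, mul_assoc, hv, mul_assoc]⟩ }
  suffices h0 : (1 : A) ∈ L by
    obtain ⟨v, hv⟩ := h0
    exact ⟨v, fun i => by rw [← hv i, one_mul]⟩
  by_contra h1
  obtain ⟨P, hP, hLP⟩ := Ideal.exists_le_maximal L fun e => h1 (e ▸ trivial)
  have : IsRegularLocalRing (Localization.AtPrime P) := (isRegularRing_iff.mp ‹IsRegularRing A›) P
  obtain ⟨v, hv⟩ := exists_eq_mul_local (R := Localization.AtPrime P)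
    (fun i => algebraMap A _ (f i)) (fun i => algebraMap A _ (t i))
    (fun i j => by rw [← map_mul, ← map_mul, h]) (fun Q hQ hQf => by
      rw [← IsLocalization.height_under P.primeCompl Q]
      exact hcodim _ (Ideal.IsPrime.under A Q) hQf)
  obtain ⟨a, s, rfl⟩ := IsLocalization.exists_mk'_eq P.primeCompl v
  have h2 : ∀ i, ∃ c : P.primeCompl, (c : A) * ((s : A) * t i) = c * (a * f i) := fun i =>
    (IsLocalization.eq_iff_exists P.primeCompl (Localization.AtPrime P)).1 (by
      rw [map_mul, map_mul, hv, ← mul_assoc, ← IsLocalization.mk'_spec (Localization.AtPrime P) a s]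
      ring)
  choose c hc using h2
  have hc' : ((∏ i, (c i : A)) * s) ∈ L := ⟨(∏ i, (c i : A)) * a, fun i => by
    obtain ⟨d, hd⟩ := Finset.dvd_prod_of_mem (fun i => (c i : A)) (Finset.mem_univ i)
    simp only [hd]
    linear_combination d * hc i⟩
  exact (inferInstance : P.IsPrime).mem_or_mem (hLP hc') |>.elim
    (fun hp => by
      obtain ⟨i, -, hi⟩ := ((inferInstance : P.IsPrime).prod_mem_iff).1 hp
      exact (c i).2 hi)
    (fun hs => s.2 hs)

end Groth.ArtfunDeform.RegularColon
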