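import Groth.Agent.ArtfunDeform.FlatQuot
import Groth.Agent.ArtfunDeform.RegularColon
import Mathlib.LinearAlgebra.Matrix.Determinant.Basic
import Mathlib.RingTheory.Flat.EquationalCriterion
import Mathlib.RingTheory.HopkinsLevitzki

/-!
Deforming resolutions by maximal minors over an Artinian local base.
-/

set_option autoImplicit false
set_option linter.style.longLine false

universe u

namespace Groth.ArtfunDeform.MinorsLift

open IsLocalRing

/-- the signed maximal minors -/
def minors {R : Type*} [CommRing R] {r : ℕ} (φ : Matrix (Fin (r + 1)) (Fin r) R) : Fin (r + 1) → R :=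
  fun i => (-1 : R) ^ (i : ℕ) * (φ.submatrix i.succAbove id).det

theorem minors_map {R S : Type*} [CommRing R] [CommRing S] (q : R →+* S) {r : ℕ}
    (φ : Matrix (Fin (r + 1)) (Fin r) R) (i : Fin (r + 1)) : minors (φ.map q) i = q (minors φ i) := by
  simp only [minors, map_mul, map_pow, map_neg, map_one, RingHom.map_det]
  rfl

theorem minors_mul {R : Type*} [CommRing R] {r : ℕ} (φ : Matrix (Fin (r + 1)) (Fin r) R) (j : Fin r) :
    ∑ i, minors φ i * φ i j = 0 := by
  let A : Matrix (Fin (r + 1)) (Fin (r + 1)) R := Matrix.of fun i => Fin.cons (φ i j) (φ i)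
  have h0 : A.det = 0 := Matrix.det_zero_of_column_eq (Fin.succ_ne_zero j).symm (fun i => by simp [A])
  rw [Matrix.det_succ_column_zero] at h0
  rw [← h0]
  refine Finset.sum_congr rfl fun i _ => ?_
  have : A.submatrix i.succAbove Fin.succ = φ.submatrix i.succAbove id := by
    ext a b
    simp [A]
  rw [this]
  simp [A, minors]
  ring

theorem dot_mulVec_eq_zero {R : Type*} [CommRing R] {s r : ℕ} (φ : Matrix (Fin s) (Fin r) R) (a : Fin s → R)
    (hcomp : ∀ j, ∑ i, a i * φ i j = 0) (x : Fin r → R) : ∑ i, φ.mulVec x i * a i = 0 := by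
  simp only [Matrix.mulVec, dotProduct, Finset.sum_mul]
  rw [Finset.sum_comm]
  refine Finset.sum_eq_zero fun j _ => ?_
  calc ∑ i, φ i j * x j * a i = x j * ∑ i, a i * φ i j := by
        rw [Finset.mul_sum]
        exact Finset.sum_congr rfl fun i _ => by ring
    _ = 0 := by rw [hcomp j, mul_zero]

theorem mulVec_mem {R : Type*} [CommRing R] {s r : ℕ} (φ : Matrix (Fin s) (Fin r) R) (K : Ideal R) (x : Fin r → R)
    (hx : ∀ j, x j ∈ K) (i : Fin s) : φ.mulVec x i ∈ K :=
  show ∑ j, φ i j * x j ∈ K from sum_mem fun j _ => K.mul_mem_left _ (hx j)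

variable {C B : Type u} [CommRing C] [CommRing B] [Algebra C B]

theorem mem_map_of_smul_mem [IsNoetherianRing C] [Module.Flat C B] (J m : Ideal C) (a : C)
    (hm : ∀ c, a * c ∈ J → c ∈ m) (x : B)
    (hx : algebraMap C B a * x ∈ J.map (algebraMap C B)) : x ∈ m.map (algebraMap C B) := by
  obtain ⟨n, j, hj⟩ := Submodule.fg_iff_exists_fin_generating_family.1 (IsNoetherian.noetherian J)
  have hJ : J.map (algebraMap C B) = Ideal.span (Set.range fun l => algebraMap C B (j l)) := by
    rw [← hj, ← Ideal.span, Ideal.map_span, ← Set.range_comp]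
    rfl
  rw [hJ] at hx
  obtain ⟨y, hy⟩ := Ideal.mem_span_range_iff_exists_fun.1 hx
  have hrel : ∑ l : Option (Fin n), (Option.elim l a j) • (Option.elim l x (fun l => - y l)) = 0 := by
    rw [Fintype.sum_option]
    simp only [Option.elim, Algebra.smul_def]
    rw [← hy, ← Finset.sum_add_distrib]
    exact Finset.sum_eq_zero fun l _ => by ring
  obtain ⟨s, c, z, hz, hc⟩ := Module.Flat.isTrivialRelation_of_sum_smul_eq_zero (R := C) (M := B) hrel
  have hx' : x = ∑ t, c none t • z t := hz none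
  rw [hx']
  refine sum_mem fun t _ => ?_
  rw [Algebra.smul_def]
  refine Ideal.mul_mem_right _ _ (Ideal.mem_map_of_mem _ (hm _ ?_))
  have := hc t
  rw [Fintype.sum_option] at this
  rw [show a * c none t = -∑ l, j l * c (some l) t from eq_neg_of_add_eq_zero_left this]
  exact neg_mem (sum_mem fun l _ => Ideal.mul_mem_right _ _ (hj ▸ Submodule.subset_span ⟨l, rfl⟩))

/-- For flat `B/K`, elements of `K` in `I·B` are in `I·K`. -/
theorem mem_mul_of_flat_quotient [IsNoetherianRing C] (K : Ideal B) [Module.Flat C (B ⧸ K)] (I : Ideal C)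
    {z : B} (hz : z ∈ K) (hzI : z ∈ I.map (algebraMap C B)) : z ∈ I.map (algebraMap C B) * K := by
  obtain ⟨n, j, hj⟩ := Submodule.fg_iff_exists_fin_generating_family.1 (IsNoetherian.noetherian I)
  have hI : I.map (algebraMap C B) = Ideal.span (Set.range fun l => algebraMap C B (j l)) := by
    rw [← hj, ← Ideal.span, Ideal.map_span, ← Set.range_comp]
    rfl
  rw [hI] at hzI
  obtain ⟨p, hp⟩ := Ideal.mem_span_range_iff_exists_fun.1 hzI
  have hrel : ∑ l, j l • Ideal.Quotient.mk K (p l) = 0 := by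
    have h0 : Ideal.Quotient.mk K z = 0 := Ideal.Quotient.eq_zero_iff_mem.2 hz
    rw [← hp, map_sum] at h0
    rw [← h0]
    refine Finset.sum_congr rfl fun l _ => ?_
    rw [Algebra.smul_def, map_mul, mul_comm, Ideal.Quotient.mk_algebraMap]
  obtain ⟨s, c, w, hw, hc⟩ := Module.Flat.isTrivialRelation_of_sum_smul_eq_zero (R := C) (M := B ⧸ K) hrel
  choose w' hw' using fun t => Ideal.Quotient.mk_surjective (w t)
  have hk : ∀ l, p l - ∑ t, algebraMap C B (c l t) * w' t ∈ K := fun l => by
    rw [← Ideal.Quotient.eq, map_sum, show Ideal.Quotient.mk K (p l) = _ from hw l]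
    refine Finset.sum_congr rfl fun t _ => ?_
    rw [map_mul, hw', Algebra.smul_def, Ideal.Quotient.mk_algebraMap]
  have : z = ∑ l, algebraMap C B (j l) * (p l - ∑ t, algebraMap C B (c l t) * w' t) := by
    simp only [mul_sub, Finset.sum_sub_distrib]
    rw [show ∑ l, algebraMap C B (j l) * ∑ t, algebraMap C B (c l t) * w' t = 0 by
      simp only [Finset.mul_sum]
      rw [Finset.sum_comm]
      refine Finset.sum_eq_zero fun t _ => ?_
      simp only [← mul_assoc, ← map_mul, ← Finset.sum_mul, ← map_sum, hc t, map_zero, zero_mul], sub_zero, ← hp]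
    exact Finset.sum_congr rfl fun l _ => mul_comm _ _
  rw [this]
  exact sum_mem fun l _ => Ideal.mul_mem_mul (Ideal.mem_map_of_mem _ (hj ▸ Submodule.subset_span ⟨l, rfl⟩)) (hk l)

theorem exists_coeff_of_mem_mul_span {R : Type*} [CommRing R] {s : ℕ} (M : Ideal R) (a : Fin s → R) {z : R}
    (hz : z ∈ M * Ideal.span (Set.range a)) : ∃ w : Fin s → R, (∀ i, w i ∈ M) ∧ ∑ i, w i * a i = z := by
  induction hz using Submodule.mul_induction_on' with
  | mem_mul_mem m hm k hk =>
    obtain ⟨y, hy⟩ := Ideal.mem_span_range_iff_exists_fun.1 hk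
    refine ⟨fun i => m * y i, fun i => M.mul_mem_right _ hm, ?_⟩
    rw [← hy, Finset.mul_sum]
    exact Finset.sum_congr rfl fun i _ => mul_assoc _ _ _
  | add x _ y _ hx hy =>
    obtain ⟨w, hw, rfl⟩ := hx
    obtain ⟨w', hw', rfl⟩ := hy
    exact ⟨w + w', fun i => add_mem (hw i) (hw' i), by simp [add_mul, Finset.sum_add_distrib]⟩

variable [IsLocalRing C] [IsArtinianRing C]

theorem exists_step (J : Ideal C) (hJ : J ≠ ⊥) :
    ∃ (J' : Ideal C) (a : C), J' < J ∧ a ∈ J ∧ a ∉ J' ∧ J = J' ⊔ Ideal.span {a} ∧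
      ∀ c, c ∈ maximalIdeal C ↔ a * c ∈ J' := by
  obtain ⟨J', hJ', hmax⟩ := (wellFounded_gt : WellFounded ((· > ·) : Ideal C → Ideal C → Prop)).has_min
    {I | I < J} ⟨⊥, bot_lt_iff_ne_bot.2 hJ⟩
  have hJ'' : J' < J := hJ'
  obtain ⟨a, haJ, ha⟩ := SetLike.exists_of_lt hJ''
  have hsup : ∀ x, x ∈ J → x ∉ J' → J = J' ⊔ Ideal.span {x} := by
    intro x hx hx'
    by_contra hne
    have hle : J' ⊔ Ideal.span {x} ≤ J := sup_le hJ''.le ((Ideal.span_singleton_le_iff_mem _).2 hx)
    exact hmax _ (lt_of_le_of_ne hle (Ne.symm hne)) (lt_of_le_of_ne le_sup_left fun e =>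
      hx' (e ▸ Ideal.mem_sup_right (Ideal.mem_span_singleton_self x)))
  refine ⟨J', a, hJ'', haJ, ha, hsup a haJ ha, fun c => ⟨fun hc => ?_, fun hc => ?_⟩⟩
  · by_contra hac
    refine hJ''.not_ge (Submodule.le_of_le_smul_of_le_jacobson_bot (I := maximalIdeal C)
      (IsNoetherian.noetherian J) (maximalIdeal_le_jacobson ⊥) ?_)
    conv_lhs => rw [hsup _ (Ideal.mul_mem_right _ _ haJ) hac]
    refine sup_le_sup_left ((Ideal.span_singleton_le_iff_mem _).2 ?_) _
    rw [mul_comm, smul_eq_mul]
    exact Ideal.mul_mem_mul hc haJ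
  · by_contra hcm
    obtain ⟨u, rfl⟩ := notMem_maximalIdeal.1 hcm
    exact ha (by simpa using J'.mul_mem_right (↑u⁻¹ : C) hc)

variable [Module.Flat C B]

local notation "𝔐" => (Ideal.map (algebraMap C B) (maximalIdeal C))

theorem decompose {J' : Ideal C} {a : C} {J : Ideal C} (hsup : J = J' ⊔ Ideal.span {a}) {x : B}
    (hx : x ∈ J.map (algebraMap C B)) :
    ∃ x' t, x' ∈ J'.map (algebraMap C B) ∧ x = x' + algebraMap C B a * t := by
  rw [hsup, Ideal.map_sup, Ideal.map_span, Set.image_singleton, Submodule.mem_sup] at hx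
  obtain ⟨y, hy, z, hz, rfl⟩ := hx
  obtain ⟨t, rfl⟩ := Ideal.mem_span_singleton'.1 hz
  exact ⟨y, t, hy, by rw [mul_comm]⟩

theorem mul_mem_of_mem_max {J' : Ideal C} {a : C} (h : ∀ c, c ∈ maximalIdeal C → a * c ∈ J') {t : B}
    (ht : t ∈ 𝔐) : algebraMap C B a * t ∈ J'.map (algebraMap C B) := by
  refine Submodule.span_induction (p := fun x _ => algebraMap C B a * x ∈ J'.map (algebraMap C B)) ?_ ?_ ?_ ?_ ht
  · rintro _ ⟨c, hc, rfl⟩
    rw [← map_mul]
    exact Ideal.mem_map_of_mem _ (h c hc)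
  · simp
  · intro x y _ _ hx hy; rw [mul_add]; exact add_mem hx hy
  · intro r x _ hx; rw [smul_eq_mul, mul_left_comm]; exact Ideal.mul_mem_left _ _ hx

/-- A complex `Bʳ → Bˢ → B` whose reduction mod `𝔐` is exact is exact with flat cokernel. -/
theorem core {s r : ℕ} (φ : Matrix (Fin s) (Fin r) B) (a : Fin s → B)
    (hcomp : ∀ j, ∑ i, a i * φ i j = 0)
    (H1 : ∀ x, (∀ i, φ.mulVec x i ∈ 𝔐) → ∀ j, x j ∈ 𝔐)
    (H2 : ∀ y : Fin s → B, ∑ i, y i * a i ∈ 𝔐 → ∃ x, ∀ i, y i - φ.mulVec x i ∈ 𝔐) :
    Function.Injective φ.mulVecLin ∧ LinearMap.range φ.mulVecLin = LinearMap.ker (Fintype.linearCombination B a) ∧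
      Module.Flat C (B ⧸ Ideal.span (Set.range a)) := by
  have inj : ∀ J : Ideal C, ∀ x : Fin r → B, (∀ j, x j ∈ J.map (algebraMap C B)) → φ.mulVec x = 0 → x = 0 := by
    intro J
    induction J using WellFoundedLT.induction with
    | _ J ih =>
      intro x hx h0
      rcases eq_or_ne J ⊥ with rfl | hJ
      · funext j; simpa using hx j
      obtain ⟨J', c, hlt, -, -, hsup, hmem⟩ := exists_step J hJ
      choose x' t hx' hxt using fun j => decompose hsup (hx j)
      have ht : ∀ i, φ.mulVec t i ∈ 𝔐 := fun i => by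
        refine mem_map_of_smul_mem J' _ c (fun e => (hmem e).2) _ ?_
        have e : φ.mulVec x i = φ.mulVec x' i + algebraMap C B c * φ.mulVec t i := by
          have : x = x' + algebraMap C B c • t := funext fun j => hxt j
          rw [this, Matrix.mulVec_add, Matrix.mulVec_smul]
          rfl
        rw [h0] at e
        rw [eq_neg_of_add_eq_zero_right e.symm]
        exact neg_mem (mulVec_mem φ _ x' hx' i)
      refine ih J' hlt x (fun j => ?_) h0
      rw [hxt]
      exact add_mem (hx' j) (mul_mem_of_mem_max (fun e => (hmem e).1) (H1 t ht j))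
  have exact' : ∀ J : Ideal C, ∀ y : Fin s → B, (∀ i, y i ∈ J.map (algebraMap C B)) →
      ∑ i, y i * a i = 0 → ∃ x, φ.mulVec x = y := by
    intro J
    induction J using WellFoundedLT.induction with
    | _ J ih =>
      intro y hy h0
      rcases eq_or_ne J ⊥ with rfl | hJ
      · exact ⟨0, by funext i; simpa using (by simpa using hy i : y i = 0).symm⟩
      obtain ⟨J', c, hlt, -, -, hsup, hmem⟩ := exists_step J hJ
      choose y' t hy' hyt using fun i => decompose hsup (hy i)
      have ht : ∑ i, t i * a i ∈ 𝔐 := by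
        refine mem_map_of_smul_mem J' _ c (fun e => (hmem e).2) _ ?_
        have e : ∑ i, y' i * a i + algebraMap C B c * ∑ i, t i * a i = 0 := by
          rw [← h0, Finset.mul_sum, ← Finset.sum_add_distrib]
          exact Finset.sum_congr rfl fun i _ => by rw [hyt]; ring
        rw [eq_neg_of_add_eq_zero_right e]
        exact neg_mem (sum_mem fun i _ => Ideal.mul_mem_right _ _ (hy' i))
      obtain ⟨x, hx⟩ := H2 t ht
      obtain ⟨x', hx'⟩ := ih J' hlt (y - φ.mulVec (algebraMap C B c • x)) (fun i => by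
        rw [Pi.sub_apply, hyt, Matrix.mulVec_smul, Pi.smul_apply, smul_eq_mul, add_sub_assoc, ← mul_sub]
        exact add_mem (hy' i) (mul_mem_of_mem_max (fun e => (hmem e).1) (hx i))) (by
        simp only [Pi.sub_apply, sub_mul, Finset.sum_sub_distrib, h0, dot_mulVec_eq_zero φ a hcomp, sub_zero])
      exact ⟨algebraMap C B c • x + x', by rw [Matrix.mulVec_add, hx', add_sub_cancel]⟩
  refine ⟨?_, ?_, ?_⟩
  · rw [← LinearMap.ker_eq_bot, LinearMap.ker_eq_bot']
    exact fun x hx => inj ⊤ x (fun j => by rw [Ideal.map_top]; trivial) hx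
  · refine le_antisymm ?_ fun y hy => ?_
    · rintro _ ⟨x, rfl⟩
      rw [LinearMap.mem_ker, Fintype.linearCombination_apply]
      simpa [smul_eq_mul] using dot_mulVec_eq_zero φ a hcomp x
    · rw [LinearMap.mem_ker, Fintype.linearCombination_apply] at hy
      obtain ⟨x, hx⟩ := exact' ⊤ y (fun i => by rw [Ideal.map_top]; trivial) (by simpa [smul_eq_mul] using hy)
      exact ⟨x, hx⟩
  · have := FlatQuot.flat_quotient ((Ideal.span (Set.range a)).restrictScalars C) (fun z hz hzm => by
      rw [Ideal.smul_top_eq_map, Submodule.restrictScalars_mem] at hzm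
      obtain ⟨y, rfl⟩ := Ideal.mem_span_range_iff_exists_fun.1 hz
      obtain ⟨x, hx⟩ := H2 y hzm
      have e : ∑ i, y i * a i = ∑ i, (y i - φ.mulVec x i) * a i := by
        simp only [sub_mul, Finset.sum_sub_distrib, dot_mulVec_eq_zero φ a hcomp, sub_zero]
      rw [e]
      refine sum_mem fun i _ => ?_
      refine Submodule.span_induction (p := fun w _ => w * a i ∈
        maximalIdeal C • (Ideal.span (Set.range a)).restrictScalars C) ?_ ?_ ?_ ?_ (hx i)
      · rintro _ ⟨d, hd, rfl⟩
        rw [← Algebra.smul_def]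
        exact Submodule.smul_mem_smul hd (Ideal.subset_span ⟨i, rfl⟩)
      · simp
      · intro v w _ _ hv hw; rw [add_mul]; exact add_mem hv hw
      · intro b w _ hw
        rw [smul_eq_mul, mul_assoc]
        refine Submodule.smul_induction_on (p := fun q => b * q ∈
          maximalIdeal C • (Ideal.span (Set.range a)).restrictScalars C) hw ?_ ?_
        · intro d hd q hq
          rw [mul_smul_comm]
          exact Submodule.smul_mem_smul hd (Ideal.mul_mem_left _ _ hq)
        · intro v v' hv hv'; rw [mul_add]; exact add_mem hv hv')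
    exact Module.Flat.of_linearEquiv (Submodule.Quotient.restrictScalarsEquiv C (Ideal.span (Set.range a))).symm

/-- `H1` from injectivity modulo a proper ideal. -/
theorem H1_of_mod {s r : ℕ} (φ : Matrix (Fin s) (Fin r) B) (J : Ideal C) (hJ : J ≠ ⊤)
    (hinj : Function.Injective (φ.map (Ideal.Quotient.mk (J.map (algebraMap C B)))).mulVecLin)
    (x : Fin r → B) (hx : ∀ i, φ.mulVec x i ∈ 𝔐) (j : Fin r) : x j ∈ 𝔐 := by
  obtain ⟨e, he, hme⟩ := RegFlat.exists_socle hJ
  refine mem_map_of_smul_mem J _ e (fun d hd => by_contra fun hdm => he ?_) _ ?_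
  · obtain ⟨u, rfl⟩ := notMem_maximalIdeal.1 hdm
    simpa using J.mul_mem_right (↑u⁻¹ : C) hd
  · have h0 : (fun j => Ideal.Quotient.mk (J.map (algebraMap C B)) (algebraMap C B e * x j)) = 0 := by
      refine hinj (Eq.trans ?_ (map_zero _).symm)
      funext i
      have h1 : φ.mulVec (algebraMap C B e • x) i ∈ J.map (algebraMap C B) := by
        rw [Matrix.mulVec_smul, Pi.smul_apply, smul_eq_mul]
        exact mul_mem_of_mem_max (fun d hd => mul_comm d e ▸ hme d hd) (hx i)
      have h2 := Ideal.Quotient.eq_zero_iff_mem.2 h1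
      rw [RingHom.map_mulVec] at h2
      exact h2
    exact Ideal.Quotient.eq_zero_iff_mem.1 (congrFun h0 j)

/-- `H2` from exactness modulo a proper ideal, with flat quotient there. -/
theorem H2_of_mod {s r : ℕ} (φ : Matrix (Fin s) (Fin r) B) (a : Fin s → B) (J : Ideal C) (hJ : J ≠ ⊤)
    (hex : LinearMap.ker (Fintype.linearCombination (B ⧸ J.map (algebraMap C B))
        (fun i => Ideal.Quotient.mk (J.map (algebraMap C B)) (a i))) ≤
      LinearMap.range (φ.map (Ideal.Quotient.mk (J.map (algebraMap C B)))).mulVecLin)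
    [Module.Flat (C ⧸ J) ((B ⧸ J.map (algebraMap C B)) ⧸
      Ideal.span (Set.range fun i => Ideal.Quotient.mk (J.map (algebraMap C B)) (a i)))]
    (y : Fin s → B) (hy : ∑ i, y i * a i ∈ 𝔐) : ∃ x, ∀ i, y i - φ.mulVec x i ∈ 𝔐 := by
  set q := Ideal.Quotient.mk (J.map (algebraMap C B)) with hq
  have hJm : J.map (algebraMap C B) ≤ 𝔐 := Ideal.map_mono (le_maximalIdeal hJ)
  have he : ((maximalIdeal C).map (Ideal.Quotient.mk J)).map (algebraMap (C ⧸ J) (B ⧸ J.map (algebraMap C B))) =
      Ideal.map q 𝔐 := by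
    rw [Ideal.map_map, Ideal.map_map]
    rfl
  have hz : q (∑ i, y i * a i) ∈ Ideal.span (Set.range fun i => q (a i)) := by
    rw [map_sum]
    exact Ideal.mem_span_range_iff_exists_fun.2 ⟨fun i => q (y i), Finset.sum_congr rfl fun i _ => (map_mul q _ _).symm⟩
  have h1 := mem_mul_of_flat_quotient (C := C ⧸ J) (Ideal.span (Set.range fun i => q (a i)))
    ((maximalIdeal C).map (Ideal.Quotient.mk J)) hz (by rw [he]; exact Ideal.mem_map_of_mem q hy)
  rw [he] at h1
  obtain ⟨w, hw, hwe⟩ := exists_coeff_of_mem_mul_span _ _ h1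
  choose w' hw' hwq using fun i => (Ideal.mem_map_iff_of_surjective q Ideal.Quotient.mk_surjective).1 (hw i)
  have hker : (fun i => q (y i - w' i)) ∈ LinearMap.ker (Fintype.linearCombination (B ⧸ J.map (algebraMap C B))
      (fun i => q (a i))) := by
    rw [LinearMap.mem_ker, Fintype.linearCombination_apply]
    simp only [smul_eq_mul, map_sub, sub_mul, Finset.sum_sub_distrib, hwq, hwe, map_sum, map_mul, sub_self]
  obtain ⟨xbar, hx⟩ := hex hker
  choose x hxq using fun j => Ideal.Quotient.mk_surjective (xbar j)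
  refine ⟨x, fun i => ?_⟩
  have h2 : q (φ.mulVec x i) = q (y i - w' i) := by
    rw [RingHom.map_mulVec]
    have : q ∘ x = xbar := funext hxq
    rw [this]
    exact congrFun hx i
  have h3 := hJm (Ideal.Quotient.eq.1 h2)
  have : y i - φ.mulVec x i = w' i - (φ.mulVec x i - (y i - w' i)) := by ring
  rw [this]
  exact sub_mem (hw' i) h3

theorem isNilpotent_maximal : IsNilpotent 𝔐 := by
  obtain ⟨n, hn⟩ := IsArtinianRing.isNilpotent_jacobson_bot (R := C)
  rw [jacobson_eq_maximalIdeal ⊥ bot_ne_top] at hn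
  exact ⟨n, by rw [← Ideal.map_pow, hn]; exact Ideal.map_bot⟩

/-- Lifting generators of the closed fibre, and lifting their relations. -/
theorem exists_lift_relations {s r : ℕ} (I : Ideal B) [Module.Flat C (B ⧸ I)] (J : Ideal C) (hJ : J ≠ ⊤)
    (a : Fin s → B) (ha : ∀ i, a i ∈ I)
    (hI : I.map (Ideal.Quotient.mk (J.map (algebraMap C B))) =
      Ideal.span (Set.range fun i => Ideal.Quotient.mk (J.map (algebraMap C B)) (a i)))
    (φ₀ : Matrix (Fin s) (Fin r) (B ⧸ J.map (algebraMap C B)))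
    (h₀ : ∀ j, ∑ i, Ideal.Quotient.mk (J.map (algebraMap C B)) (a i) * φ₀ i j = 0) :
    I = Ideal.span (Set.range a) ∧ ∃ φ : Matrix (Fin s) (Fin r) B,
      φ.map (Ideal.Quotient.mk (J.map (algebraMap C B))) = φ₀ ∧ ∀ j, ∑ i, a i * φ i j = 0 := by
  set q := Ideal.Quotient.mk (J.map (algebraMap C B)) with hq
  set K := Ideal.span (Set.range a) with hK
  have hKI : K ≤ I := Ideal.span_le.2 (Set.range_subset_iff.2 ha)
  have hle : I ≤ K ⊔ J.map (algebraMap C B) * I := by
    intro z hz
    have : q z ∈ K.map q := by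
      have e : K.map q = Ideal.span (Set.range fun i => q (a i)) := by
        rw [hK, Ideal.map_span, ← Set.range_comp]
        rfl
      rw [e, ← hI]
      exact Ideal.mem_map_of_mem q hz
    obtain ⟨k, hk, hkq⟩ := (Ideal.mem_map_iff_of_surjective q Ideal.Quotient.mk_surjective).1 this
    exact Submodule.mem_sup.2 ⟨k, hk, z - k,
      mem_mul_of_flat_quotient I J (sub_mem hz (hKI hk)) (Ideal.Quotient.eq.1 hkq.symm), by ring⟩
  obtain ⟨n, hn⟩ : IsNilpotent (J.map (algebraMap C B)) := by
    obtain ⟨n, hn⟩ := isNilpotent_maximal (C := C) (B := B)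
    exact ⟨n, le_bot_iff.1 ((Ideal.pow_right_mono (Ideal.map_mono (le_maximalIdeal hJ)) n).trans hn.le)⟩
  have hpow : ∀ n, I ≤ K ⊔ J.map (algebraMap C B) ^ n * I := by
    intro n
    induction n with
    | zero => simp
    | succ n ih =>
      refine ih.trans (sup_le le_sup_left ?_)
      refine (Ideal.mul_mono_right hle).trans ?_
      rw [Ideal.mul_sup, ← mul_assoc, ← pow_succ]
      exact sup_le_sup_right Ideal.mul_le_right _
  have hIK : I = K := le_antisymm ((hpow n).trans (sup_le le_rfl (by rw [hn]; simp))) hKI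
  refine ⟨hIK, ?_⟩
  choose ψ hψ using fun i j => Ideal.Quotient.mk_surjective (φ₀ i j)
  have hc : ∀ j, ∃ w : Fin s → B, (∀ i, w i ∈ J.map (algebraMap C B)) ∧ ∑ i, w i * a i = ∑ i, a i * ψ i j := by
    intro j
    refine exists_coeff_of_mem_mul_span _ a ?_
    rw [← hK, ← hIK]
    refine mem_mul_of_flat_quotient I J (sum_mem fun i _ => I.mul_mem_right _ (ha i)) (Ideal.Quotient.eq_zero_iff_mem.1 ?_)
    show q _ = 0
    rw [map_sum]
    exact (Finset.sum_congr rfl fun i _ => (map_mul q _ _).trans (congrArg (q (a i) * ·) (hψ i j))).trans (h₀ j)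
  choose w hw hwe using hc
  refine ⟨Matrix.of fun i j => ψ i j - w j i, Matrix.ext fun i j => ?_, fun j => ?_⟩
  · rw [Matrix.map_apply, Matrix.of_apply, map_sub]
    exact (congrArg (q (ψ i j) - ·) (Ideal.Quotient.eq_zero_iff_mem.2 (hw j i))).trans ((sub_zero _).trans (hψ i j))
  · simp only [Matrix.of_apply, mul_sub, Finset.sum_sub_distrib, ← hwe j]
    rw [sub_eq_zero]
    exact Finset.sum_congr rfl fun i _ => mul_comm _ _

/-- Relations orthogonal to `φ` are multiples of its minors, to first order. -/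
theorem exists_eq_mul_mod {s r : ℕ} [IsRegularRing (B ⧸ 𝔐)] (φ : Matrix (Fin s) (Fin r) B) (f : Fin s → B)
    (H2 : ∀ y : Fin s → B, ∑ i, y i * f i ∈ 𝔐 → ∃ x, ∀ i, y i - φ.mulVec x i ∈ 𝔐)
    (hcodim : ∀ P : Ideal (B ⧸ 𝔐), P.IsPrime → (∀ i, Ideal.Quotient.mk 𝔐 (f i) ∈ P) → (2 : ℕ∞) ≤ P.height)
    (t : Fin s → B) (ht : ∀ j, ∑ i, t i * φ i j ∈ 𝔐) : ∃ v, ∀ i, t i - v * f i ∈ 𝔐 := by
  classical
  obtain ⟨v, hv⟩ := RegularColon.exists_eq_mul (fun i => Ideal.Quotient.mk 𝔐 (f i))
    (fun i => Ideal.Quotient.mk 𝔐 (t i)) (fun i j => by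
      rw [← map_mul, ← map_mul, Ideal.Quotient.eq]
      let w : Fin s → B := Pi.single i (f j) - Pi.single j (f i)
      have hw : ∑ l, w l * f l = 0 := by
        simp only [w, Pi.sub_apply, sub_mul, Finset.sum_sub_distrib, Pi.single_apply, ite_mul, zero_mul,
          Finset.sum_ite_eq', Finset.mem_univ, if_true]
        ring
      obtain ⟨x, hx⟩ := H2 w (hw ▸ zero_mem _)
      have h1 : ∑ l, t l * w l ∈ 𝔐 := by
        have e : ∀ l, t l * w l = t l * φ.mulVec x l + t l * (w l - φ.mulVec x l) := fun l => by ring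
        rw [Finset.sum_congr rfl fun l _ => e l, Finset.sum_add_distrib]
        refine add_mem ?_ (sum_mem fun l _ => Ideal.mul_mem_left _ _ (hx l))
        simp only [Matrix.mulVec, dotProduct, Finset.mul_sum, ← mul_assoc]
        rw [Finset.sum_comm]
        simp only [← Finset.sum_mul]
        exact sum_mem fun j _ => Ideal.mul_mem_right _ _ (ht j)
      have e : ∑ l, t l * w l = t i * f j - t j * f i := by
        simp [w, mul_sub, Finset.sum_sub_distrib, Pi.single_apply]
      rwa [e] at h1) hcodim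
  obtain ⟨v, rfl⟩ := Ideal.Quotient.mk_surjective v
  exact ⟨v, fun i => Ideal.Quotient.eq.1 (by rw [hv, map_mul])⟩

/-- Rigidity: a vector of generators with the same relations differs from the minors by a unit. -/
theorem span_eq {s r : ℕ} [IsRegularRing (B ⧸ 𝔐)] (φ : Matrix (Fin s) (Fin r) B) (f a : Fin s → B)
    (hf : ∀ j, ∑ i, f i * φ i j = 0) (ha : ∀ j, ∑ i, a i * φ i j = 0)
    (J : Ideal C) (hJ : J ≠ ⊤) (hfa : ∀ i, a i - f i ∈ J.map (algebraMap C B))
    (H2 : ∀ y : Fin s → B, ∑ i, y i * f i ∈ 𝔐 → ∃ x, ∀ i, y i - φ.mulVec x i ∈ 𝔐)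
    (hcodim : ∀ P : Ideal (B ⧸ 𝔐), P.IsPrime → (∀ i, Ideal.Quotient.mk 𝔐 (f i) ∈ P) → (2 : ℕ∞) ≤ P.height) :
    Ideal.span (Set.range a) = Ideal.span (Set.range f) := by
  have key : ∀ K : Ideal C, K ≠ ⊤ → ∀ e : Fin s → B, (∀ i, e i ∈ K.map (algebraMap C B)) →
      (∀ j, ∑ i, e i * φ i j = 0) → ∃ v ∈ K.map (algebraMap C B), ∀ i, e i = v * f i := by
    intro K
    induction K using WellFoundedLT.induction with
    | _ K ih =>
      intro hK e he h0
      rcases eq_or_ne K ⊥ with rfl | hK0
      · exact ⟨0, zero_mem _, fun i => by simpa using he i⟩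
      obtain ⟨K', c, hlt, hcK, -, hsup, hmem⟩ := exists_step K hK0
      choose e' t he' het using fun i => decompose hsup (he i)
      obtain ⟨v, hv⟩ := exists_eq_mul_mod φ f H2 hcodim t (fun j => by
        refine mem_map_of_smul_mem K' _ c (fun d => (hmem d).2) _ ?_
        have e1 : ∑ i, e' i * φ i j + algebraMap C B c * ∑ i, t i * φ i j = 0 := by
          rw [← h0 j, Finset.mul_sum, ← Finset.sum_add_distrib]
          exact Finset.sum_congr rfl fun i _ => by rw [het]; ring
        rw [eq_neg_of_add_eq_zero_right e1]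
        exact neg_mem (sum_mem fun i _ => Ideal.mul_mem_right _ _ (he' i)))
      obtain ⟨v', hv', hv'e⟩ := ih K' hlt (fun e => hK (top_le_iff.1 (e ▸ hlt.le))) (fun i => e i - algebraMap C B c * v * f i)
        (fun i => by
          rw [het, add_sub_assoc, mul_assoc, ← mul_sub]
          exact add_mem (he' i) (mul_mem_of_mem_max (fun d => (hmem d).1) (hv i)))
        (fun j => by
          simp only [sub_mul, Finset.sum_sub_distrib, h0 j, mul_assoc, ← Finset.mul_sum, hf j, mul_zero, sub_zero])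
      refine ⟨v' + algebraMap C B c * v, add_mem (Ideal.map_mono hlt.le hv')
        (Ideal.mul_mem_right _ _ (Ideal.mem_map_of_mem _ hcK)), fun i => ?_⟩
      rw [add_mul, ← hv'e i]
      ring
  obtain ⟨v, hv, hve⟩ := key J hJ (fun i => a i - f i) hfa (fun j => by
    simp only [sub_mul, Finset.sum_sub_distrib, ha j, hf j, sub_zero])
  have hu : IsUnit (1 + v) := by
    obtain ⟨n, hn⟩ := isNilpotent_maximal (C := C) (B := B)
    refine IsNilpotent.isUnit_one_add ⟨n, ?_⟩
    have := Ideal.pow_mem_pow (Ideal.map_mono (le_maximalIdeal hJ) hv) n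
    rwa [hn] at this
  have : a = fun i => (1 + v) * f i := funext fun i => by
    rw [add_mul, one_mul, ← hve i]
    ring
  refine le_antisymm (Ideal.span_le.2 ?_) (Ideal.span_le.2 ?_)
  · rintro _ ⟨i, rfl⟩
    rw [this]
    exact Ideal.mul_mem_left _ _ (Ideal.subset_span ⟨i, rfl⟩)
  · rintro _ ⟨i, rfl⟩
    have e : f i = ↑hu.unit⁻¹ * a i := by rw [this, ← mul_assoc, IsUnit.val_inv_mul, one_mul]
    rw [e]
    exact Ideal.mul_mem_left _ _ (Ideal.subset_span ⟨i, rfl⟩)

end Groth.ArtfunDeform.MinorsLift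

namespace Groth.ArtfunDeform.MinorsLift

open IsLocalRing

/-- The closed fibre of a smooth family is regular. -/
theorem isRegularRing_fibre {C B : Type u} [CommRing C] [CommRing B] [Algebra C B] [IsLocalRing C]
    [Algebra.Smooth (C ⧸ maximalIdeal C) (B ⧸ (maximalIdeal C).map (algebraMap C B))] :
    IsRegularRing (B ⧸ (maximalIdeal C).map (algebraMap C B)) := by
  let : Field (C ⧸ maximalIdeal C) := Ideal.Quotient.field _
  exact Groth.Agent.S9408.isRegularRing_of_smooth (C ⧸ maximalIdeal C) _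

/-- A prime and its preimage along a surjection with nilpotent kernel have the same height. -/
theorem height_comap_of_isNilpotent_ker {R S : Type u} [CommRing R] [CommRing S] (π : R →+* S)
    (hπ : Function.Surjective π) (hk : RingHom.ker π ≤ nilradical R) (P : Ideal S) [P.IsPrime] :
    (P.comap π).height = P.height := by
  let e : PrimeSpectrum S ≃o PrimeSpectrum R :=
    { toEquiv := Equiv.ofBijective (PrimeSpectrum.comap π) ⟨PrimeSpectrum.comap_injective_of_surjective π hπ,
        fun Q => ⟨⟨Q.asIdeal.map π, Ideal.map_isPrime_of_surjective hπ (hk.trans (nilradical_le_prime _))⟩,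
          PrimeSpectrum.ext ((Ideal.comap_map_of_surjective π hπ _).trans
            (sup_eq_left.2 (show RingHom.ker π ≤ _ from hk.trans (nilradical_le_prime _))))⟩⟩
      map_rel_iff' := fun {p q} => ⟨fun h => (Ideal.comap_le_comap_iff_of_surjective π hπ _ _).1 h,
        fun h => Ideal.comap_mono h⟩ }
  show (⟨P.comap π, inferInstance⟩ : PrimeSpectrum R).asIdeal.height = (⟨P, inferInstance⟩ : PrimeSpectrum S).asIdeal.height
  rw [PrimeSpectrum.height_eq_orderHeight, PrimeSpectrum.height_eq_orderHeight]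
  exact Order.height_orderIso e ⟨P, inferInstance⟩

end Groth.ArtfunDeform.MinorsLift
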