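import Groth.Agent.ArtfunDeform.HilbAffine
import Groth.Agent.ArtfunDeform.MinorsLift
import Groth.Agent.ArtfunDeform.FlatQuot

/-!
The comparison maps of the local Hilbert functor along fibre products with a small extension are
bijective.
-/

set_option linter.style.longLine false

universe u

open CategoryTheory CategoryTheory.Limits AlgebraicGeometry
open ArtFun ArtFun.Art

namespace Groth.ArtfunDeform.HilbGlue

open HilbAffine

local notation "𝔪" => IsLocalRing.maximalIdeal

variable {k : Type u} [Field k] {X : Scheme.{u}} (x : X ⟶ specPt k)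

/-- An element killed by the maximal ideal kills the kernel of restriction to the closed fibre. -/
theorem coef_mul_eq_zero {A : Art k k} (U : X.affineOpens) {t : A} (ht : ∀ c ∈ 𝔪 A, c * t = 0)
    {s : Sec x A U} (hs : fib x A U s = 0) : coef x A U t * s = 0 := by
  have h : s ∈ (𝔪 A).map (coef x A U) := (fib_spec x A U).2 ▸ hs
  refine Submodule.span_induction (fun y hy => ?_) (mul_zero _) (fun a b _ _ ha hb => by rw [mul_add, ha, hb, add_zero])
    (fun a b _ hb => by rw [smul_eq_mul, mul_left_comm, hb, mul_zero]) h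
  obtain ⟨c, hc, rfl⟩ := hy
  rw [← map_mul, mul_comm, ht c hc, map_zero]

theorem mem_map_of_torsion {A S R : Type u} [CommRing A] [CommRing S] [CommRing R] (φ : A →+* S) (r : S →+* R)
    {m : Ideal A} (hker : RingHom.ker r = m.map φ) (K : Ideal S) (hK : ((Ideal.Quotient.mk K).comp φ).Flat)
    {t : A} (hann : ∀ c, t * c = 0 → c ∈ m) {s : S} (hs : φ t * s ∈ K) : r s ∈ K.map r := by
  let _ : Algebra A S := φ.toAlgebra
  have : Module.Flat A (S ⧸ K) := hK
  have hrel : ∑ _l : Fin 1, t • Ideal.Quotient.mk K s = 0 := by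
    rw [Fin.sum_univ_one, ← Ideal.Quotient.eq_zero_iff_mem.2 hs, map_mul]
    exact Algebra.smul_def t _
  obtain ⟨n, c, w, hw, hc⟩ := Module.Flat.isTrivialRelation_of_sum_smul_eq_zero (R := A) (M := S ⧸ K)
    (f := fun _ : Fin 1 => t) (x := fun _ => Ideal.Quotient.mk K s) hrel
  choose w' hw' using fun j => Ideal.Quotient.mk_surjective (w j)
  have h2 : s - ∑ j, φ (c 0 j) * w' j ∈ K := by
    rw [← Ideal.Quotient.eq_zero_iff_mem, map_sub, map_sum, sub_eq_zero]
    refine (hw 0).trans (Finset.sum_congr rfl fun j _ => ?_)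
    rw [map_mul, hw', Algebra.smul_def]
    rfl
  have h3 : r (∑ j, φ (c 0 j) * w' j) = 0 := by
    rw [← RingHom.mem_ker, hker]
    refine sum_mem fun j _ => Ideal.mul_mem_right _ _ (Ideal.mem_map_of_mem _ (hann _ ?_))
    have := hc j
    rwa [Fin.sum_univ_one] at this
  have h4 := Ideal.mem_map_of_mem r h2
  rwa [map_sub, h3, sub_zero] at h4

/-- In a flat quotient, what a nonzero element annihilates lies in the closed fibre ideal. -/
theorem fib_mem_of_coef_mul_mem {A : Art k k} (U : X.affineOpens) (K : Ideal (Sec x A U))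
    (hK : ((Ideal.Quotient.mk K).comp (coef x A U)).Flat) {t : A} (ht : t ≠ 0) {s : Sec x A U}
    (hs : coef x A U t * s ∈ K) : fib x A U s ∈ K.map (fib x A U) :=
  mem_map_of_torsion (coef x A U) (fib x A U) (fib_spec x A U).2 K hK (fun c hc => by
    rw [A.mem_maximalIdeal_iff]
    by_contra hne
    exact ht (((Groth.ArtfunDeform.isUnit_iff _).2 hne).mul_left_eq_zero.1 hc)) hs

theorem mem_mul_of_flat {C S : Type u} [CommRing C] [CommRing S] [IsNoetherianRing C] (φ : C →+* S) (K : Ideal S)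
    (hK : ((Ideal.Quotient.mk K).comp φ).Flat) (I : Ideal C) {z : S} (hz : z ∈ K) (hzI : z ∈ I.map φ) :
    z ∈ I.map φ * K := by
  let _ : Algebra C S := φ.toAlgebra
  have : Module.Flat C (S ⧸ K) := hK
  exact Groth.ArtfunDeform.MinorsLift.mem_mul_of_flat_quotient (C := C) (B := S) K I hz hzI

theorem flat_of_crit {B S : Type u} [CommRing B] [IsLocalRing B] [IsArtinianRing B] [CommRing S] (φ : B →+* S)
    (hφ : φ.Flat) (K : Ideal S) (hcrit : ∀ g ∈ K, g ∈ (𝔪 B).map φ → g ∈ (𝔪 B).map φ * K) :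
    ((Ideal.Quotient.mk K).comp φ).Flat := by
  let _ : Algebra B S := φ.toAlgebra
  have : Module.Flat B S := hφ
  have hle : ∀ g, g ∈ (𝔪 B).map φ * K → g ∈ 𝔪 B • K.restrictScalars B := by
    intro g hg
    refine Submodule.mul_induction_on hg (fun w hw c hc => ?_) (fun a b ha hb => add_mem ha hb)
    revert c
    refine Submodule.span_induction (fun y hy => ?_) (fun c _ => by rw [zero_mul]; exact zero_mem _)
      (fun a b _ _ ha hb c hc => by rw [add_mul]; exact add_mem (ha c hc) (hb c hc))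
      (fun a b _ hb c hc => by
        rw [smul_eq_mul, mul_comm a b, mul_assoc]
        exact hb _ (K.mul_mem_left a hc)) hw
    obtain ⟨m, hm, rfl⟩ := hy
    intro c hc
    rw [show φ m * c = m • c from (Algebra.smul_def m c).symm]
    exact Submodule.smul_mem_smul hm hc
  exact Groth.ArtfunDeform.FlatQuot.flat_quotient (R := B) (M := S) (K.restrictScalars B)
    fun g hg hgm => hle g (hcrit g hg (by rw [Ideal.smul_top_eq_map] at hgm; exact hgm))

variable {B A A' A'' : Art k k} {p' : B ⟶ A'} {p'' : B ⟶ A''} {f' : A' ⟶ A} {f'' : A'' ⟶ A}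

variable (h : IsFibreProd p' p'' f' f'') (hf : IsSmallExt f'')

include h hf in
theorem exists_gen : ∃ (ε : B), p'' ε ≠ 0 ∧ (∀ c ∈ 𝔪 B, c * ε = 0) ∧ (∀ c ∈ 𝔪 A'', c * p'' ε = 0) ∧
    RingHom.ker p'.toAlgHom = Ideal.span {ε} ∧ RingHom.ker f''.toAlgHom = Ideal.span {p'' ε} := by
  have hp := Groth.ArtfunDeform.isSmallExt_fst h hf
  obtain ⟨⟨ε, hε⟩⟩ := hp.2.2.1
  have hε' : RingHom.ker p'.toAlgHom = Ideal.span {ε} := hε
  have hε0 : p' ε = 0 := Groth.ArtfunDeform.map_gen hε'
  have hkill : ∀ c ∈ 𝔪 B, c * ε = 0 := fun c hc => Groth.ArtfunDeform.socle_mul hp hε0 hc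
  have ht : f'' (p'' ε) = 0 := by rw [← h.w_apply, hε0, map_zero]
  refine ⟨ε, fun h0 => Groth.ArtfunDeform.ne_zero_of_span hp hε' (h.inj _ _ ?_ ?_), hkill,
    fun c hc => Groth.ArtfunDeform.socle_mul hf ht hc, hε', le_antisymm (fun a ha => ?_) ?_⟩
  · rw [hε0, map_zero]
  · rw [h0, map_zero]
  · obtain ⟨b, hb1, hb2⟩ := h.surj 0 a (by rw [map_zero]; exact (ha : f'' a = 0).symm)
    obtain ⟨c, hc⟩ := Ideal.mem_span_singleton'.1 (hε'.le (hb1 : p' b = 0))
    exact Ideal.mem_span_singleton'.2 ⟨p'' c, by rw [← hb2, ← hc, map_mul]⟩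
  · rw [Ideal.span_le, Set.singleton_subset_iff]
    exact ht

include h hf in
/-- Compatible sections lift to the fibre product. -/
theorem exists_lift (U : X.affineOpens) (s' : Sec x A' U) (s'' : Sec x A'' U)
    (e : red x f' U s' = red x f'' U s'') : ∃ s : Sec x B U, red x p' U s = s' ∧ red x p'' U s = s'' := by
  obtain ⟨ε, -, -, hkill'', hker', hker''⟩ := exists_gen h hf
  obtain ⟨s, rfl⟩ := (red_spec x p' (Groth.ArtfunDeform.surjective_fst h hf.1) U).1 s'
  have hd : s'' - red x p'' U s ∈ RingHom.ker (red x f'' U) := by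
    rw [RingHom.mem_ker, map_sub, ← e, red_red, red_red, h.w, sub_self]
  rw [(red_spec x f'' hf.1 U).2, hker'', Ideal.map_span, Set.image_singleton] at hd
  obtain ⟨u, hu⟩ := Ideal.mem_span_singleton'.1 hd
  obtain ⟨v, hv⟩ := (fib_spec x B U).1 (fib x A'' U u)
  have hε0 : p' ε = 0 := Groth.ArtfunDeform.map_gen hker'
  refine ⟨s + coef x B U ε * v, by rw [map_add, map_mul, red_coef, hε0, map_zero, zero_mul, add_zero], ?_⟩
  have h0 : coef x A'' U (p'' ε) * (red x p'' U v - u) = 0 :=
    coef_mul_eq_zero x U hkill'' (by rw [map_sub, fib_red, hv, sub_self])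
  rw [mul_sub, sub_eq_zero] at h0
  rw [map_add, map_mul, red_coef, h0, mul_comm, hu]
  exact add_sub_cancel _ _

theorem fib_map_red {A B : Art k k} (p : A ⟶ B) (U : X.affineOpens) (K : Ideal (Sec x A U)) :
    (K.map (red x p U)).map (fib x B U) = K.map (fib x A U) := by
  rw [Ideal.map_map]
  congr 1
  exact RingHom.ext fun s => fib_red x p U s

theorem map_red_red {A B C : Art k k} (p : A ⟶ B) (q : B ⟶ C) (U : X.affineOpens) (K : Ideal (Sec x A U)) :
    (K.map (red x p U)).map (red x q U) = K.map (red x (p ≫ q) U) := by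
  rw [Ideal.map_map]
  congr 1
  exact RingHom.ext fun s => red_red x p q U s

include h hf in
/-- Uniqueness of the glued ideal. -/
theorem le_of_red_eq (U : X.affineOpens) (K₁ K₂ : Ideal (Sec x B U))
    (hflat : ((Ideal.Quotient.mk (K₂.map (red x p'' U))).comp (coef x A'' U)).Flat)
    (h' : K₁.map (red x p' U) = K₂.map (red x p' U))
    (h'' : K₁.map (red x p'' U) = K₂.map (red x p'' U)) : K₁ ≤ K₂ := by
  obtain ⟨ε, ht, hkill, -, hker', -⟩ := exists_gen h hf
  intro g hg
  have h1 : g ∈ (K₂.map (red x p' U)).comap (red x p' U) := h' ▸ Ideal.mem_map_of_mem _ hg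
  obtain ⟨hsurj, hker⟩ := red_spec x p' (Groth.ArtfunDeform.surjective_fst h hf.1) U
  rw [Ideal.comap_map_of_surjective _ hsurj, show Ideal.comap (red x p' U) ⊥ = _ from hker, hker',
    Ideal.map_span, Set.image_singleton] at h1
  obtain ⟨a, ha, b, hb, rfl⟩ := Submodule.mem_sup.1 h1
  obtain ⟨s, rfl⟩ := Ideal.mem_span_singleton'.1 hb
  have h2 : coef x A'' U (p'' ε) * red x p'' U s ∈ K₂.map (red x p'' U) := by
    have h3 := sub_mem (h'' ▸ Ideal.mem_map_of_mem (red x p'' U) hg) (Ideal.mem_map_of_mem (red x p'' U) ha)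
    rw [map_add, add_sub_cancel_left, map_mul, red_coef, mul_comm] at h3
    exact h3
  have h4 := fib_mem_of_coef_mul_mem x U _ hflat ht h2
  rw [fib_red, fib_map_red] at h4
  obtain ⟨c, hc, hcs⟩ := (Ideal.mem_map_iff_of_surjective _ (fib_spec x B U).1).1 h4
  have h5 := coef_mul_eq_zero x U hkill (show fib x B U (s - c) = 0 by rw [map_sub, hcs, sub_self])
  rw [mul_sub, sub_eq_zero] at h5
  rw [mul_comm s, h5]
  exact add_mem ha (Ideal.mul_mem_left _ _ hc)

section Glue

variable (U : X.affineOpens) (K' : Ideal (Sec x A' U)) (K'' : Ideal (Sec x A'' U))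
  (hK : K'.map (red x f' U) = K''.map (red x f'' U))

include h hf hK in
theorem glue_map : (K'.comap (red x p' U) ⊓ K''.comap (red x p'' U)).map (red x p' U) = K' ∧
    (K'.comap (red x p' U) ⊓ K''.comap (red x p'' U)).map (red x p'' U) = K'' := by
  have h1 : (K'.comap (red x p' U) ⊓ K''.comap (red x p'' U)).map (red x p' U) = K' := by
    refine le_antisymm (Ideal.map_le_iff_le_comap.2 inf_le_left) fun g hg => ?_
    obtain ⟨g'', hg'', he⟩ := (Ideal.mem_map_iff_of_surjective _ (red_spec x f'' hf.1 U).1).1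
      (hK ▸ Ideal.mem_map_of_mem (red x f' U) hg)
    obtain ⟨s, hs1, hs2⟩ := exists_lift x h hf U g g'' he.symm
    subst hs1 hs2
    exact Ideal.mem_map_of_mem _ ⟨hg, hg''⟩
  refine ⟨h1, le_antisymm (Ideal.map_le_iff_le_comap.2 inf_le_right) fun g hg => ?_⟩
  have h2 : g ∈ (((K'.comap (red x p' U) ⊓ K''.comap (red x p'' U)).map (red x p'' U)).map (red x f'' U)).comap
      (red x f'' U) := by
    rw [map_red_red, ← h.w, ← map_red_red, h1, hK]
    exact Ideal.mem_map_of_mem _ hg
  rw [Ideal.comap_map_of_surjective _ (red_spec x f'' hf.1 U).1] at h2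
  obtain ⟨a, ha, d, hd, rfl⟩ := Submodule.mem_sup.1 h2
  refine add_mem ha ?_
  have hd0 : red x f'' U d = 0 := hd
  have hdK : d ∈ K'' := by
    have := sub_mem hg ((Ideal.map_le_iff_le_comap.2 inf_le_right) ha)
    rwa [add_sub_cancel_left] at this
  obtain ⟨s, hs1, hs2⟩ := exists_lift x h hf U 0 d (by rw [map_zero, hd0])
  subst hs2
  exact Ideal.mem_map_of_mem _ ⟨by rw [SetLike.mem_coe, Ideal.mem_comap, hs1]; exact zero_mem _, hdK⟩

include h hf in
theorem glue_flat (K : Ideal (Sec x B U)) (h1 : K.map (red x p' U) = K') (h2 : K.map (red x p'' U) = K'')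
    (hflat' : ((Ideal.Quotient.mk K').comp (coef x A' U)).Flat)
    (hflat'' : ((Ideal.Quotient.mk K'').comp (coef x A'' U)).Flat) :
    ((Ideal.Quotient.mk K).comp (coef x B U)).Flat := by
  obtain ⟨ε, ht, hkill, -, hker', -⟩ := exists_gen h hf
  refine flat_of_crit (coef x B U) (coef_flat x B U) K fun g hg hgm => ?_
  obtain ⟨hsurj, hker⟩ := red_spec x p' (Groth.ArtfunDeform.surjective_fst h hf.1) U
  have hfibg : fib x A' U (red x p' U g) = 0 := by
    rw [fib_red, ← RingHom.mem_ker, (fib_spec x B U).2]; exact hgm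
  have h3 := mem_mul_of_flat (coef x A' U) K' hflat' (𝔪 A') (z := red x p' U g)
    (h1 ▸ Ideal.mem_map_of_mem _ hg) (by
      rw [← RingHom.mem_ker, (fib_spec x A' U).2] at hfibg
      exact hfibg)
  have h4 : (𝔪 A').map (coef x A' U) ≤ ((𝔪 B).map (coef x B U)).map (red x p' U) := by
    rw [← (fib_spec x A' U).2, ← (fib_spec x B U).2]
    intro w hw
    obtain ⟨v, rfl⟩ := hsurj w
    exact Ideal.mem_map_of_mem _ (show fib x B U v = 0 by rw [← fib_red x p']; exact hw)
  have h5 : red x p' U g ∈ ((𝔪 B).map (coef x B U) * K).map (red x p' U) := by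
    rw [Ideal.map_mul, h1]
    exact Ideal.mul_mono_left h4 h3
  have h6 : g ∈ (((𝔪 B).map (coef x B U) * K).map (red x p' U)).comap (red x p' U) := h5
  rw [Ideal.comap_map_of_surjective _ hsurj, show Ideal.comap (red x p' U) ⊥ = _ from hker, hker',
    Ideal.map_span, Set.image_singleton] at h6
  obtain ⟨w, hw, b, hb, rfl⟩ := Submodule.mem_sup.1 h6
  obtain ⟨s, rfl⟩ := Ideal.mem_span_singleton'.1 hb
  refine add_mem hw ?_
  have hsK : s * coef x B U ε ∈ K := by
    have hwK : w ∈ K := Ideal.mul_le_right (I := (𝔪 B).map (coef x B U)) (J := K) hw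
    exact (Ideal.add_mem_iff_right K hwK).1 hg
  have h7 : coef x A'' U (p'' ε) * red x p'' U s ∈ K'' := by
    have : red x p'' U (s * coef x B U ε) ∈ K'' := h2 ▸ Ideal.mem_map_of_mem _ hsK
    rwa [map_mul, red_coef, mul_comm] at this
  have h8 := fib_mem_of_coef_mul_mem x U _ hflat'' ht h7
  rw [fib_red, ← h2, fib_map_red] at h8
  obtain ⟨c, hc, hcs⟩ := (Ideal.mem_map_iff_of_surjective _ (fib_spec x B U).1).1 h8
  have h9 := coef_mul_eq_zero x U hkill (show fib x B U (s - c) = 0 by rw [map_sub, hcs, sub_self])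
  rw [mul_sub, sub_eq_zero] at h9
  rw [mul_comm s, h9]
  refine Ideal.mul_mem_mul (Ideal.mem_map_of_mem _ ?_) hc
  rw [B.mem_maximalIdeal_iff]
  by_contra hne
  have hu := (Groth.ArtfunDeform.isUnit_iff ε).2 hne
  refine ht ?_
  have hp0 : p' ε = 0 := Groth.ArtfunDeform.map_gen hker'
  exact absurd ((hu.map p'.toAlgHom : IsUnit (p' ε))) (by rw [hp0]; exact not_isUnit_zero)

end Glue

/-- The value of a push-forward ideal sheaf on a chart. -/
theorem ideal_map_red {A B : Art k k} (p : A ⟶ B) (L : (XA x B).IdealSheafData) (U : X.affineOpens) :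
    (L.map (XAmap x p)).ideal (pre x A U) = (L.ideal (pre x B U)).comap (red x p U) := by
  have : IsAffineHom (XAmap x p) :=
    MorphismProperty.of_isPullback (P := @IsAffineHom) (isPullback_XAmap x p).flip inferInstance
  rw [Scheme.IdealSheafData.ideal_map_of_isAffineHom]
  have key : ∀ (W : (XA x B).Opens) (hW : IsAffineOpen W) (e : XAmap x p ⁻¹ᵁ (pre x A U).1 = W),
      (L.ideal ⟨_, (pre x A U).2.preimage (XAmap x p)⟩).comap ((XAmap x p).app (pre x A U).1).hom =
        (L.ideal ⟨W, hW⟩).comap ((XAmap x p).appLE (pre x A U).1 W e.ge).hom := by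
    rintro _ _ rfl
    rw [Scheme.Hom.app_eq_appLE]
  exact key _ (pre x B U).2 (map_pre x p U)

include h hf in
theorem cmp_bijective (I₀ : X.IdealSheafData) :
    Function.Bijective (ArtFun.cmp (ArtFun.localHilb X x I₀) h) := by
  constructor
  · rintro ⟨I, hI, hI₀⟩ ⟨J, hJ, hJ₀⟩ e
    have e' : I.comap (XAmap x p') = J.comap (XAmap x p') :=
      congrArg (fun z : ArtFun.FibProd (ArtFun.localHilb X x I₀) f' f'' => z.1.1.1) e
    have e'' : I.comap (XAmap x p'') = J.comap (XAmap x p'') :=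
      congrArg (fun z : ArtFun.FibProd (ArtFun.localHilb X x I₀) f' f'' => z.1.2.1) e
    have hfl : ∀ (L : (XA x B).IdealSheafData), FlatOver X x B L → ∀ U,
        ((Ideal.Quotient.mk ((L.ideal (pre x B U)).map (red x p'' U))).comp (coef x A'' U)).Flat := fun L hL U => by
      rw [← ideal_red]
      exact (flatOver_iff x A'' _).1 (flatOver_comap X x p'' L hL) U
    refine Subtype.ext (ext_pre x fun U => ?_)
    have g' : (I.ideal (pre x B U)).map (red x p' U) = (J.ideal (pre x B U)).map (red x p' U) := by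
      rw [← ideal_red, ← ideal_red, e']
    have g'' : (I.ideal (pre x B U)).map (red x p'' U) = (J.ideal (pre x B U)).map (red x p'' U) := by
      rw [← ideal_red, ← ideal_red, e'']
    exact le_antisymm (le_of_red_eq x h hf U _ _ (hfl J hJ U) g' g'')
      (le_of_red_eq x h hf U _ _ (hfl I hI U) g'.symm g''.symm)
  · rintro ⟨⟨⟨I', hI', hI'₀⟩, ⟨I'', hI'', hI''₀⟩⟩, e⟩
    have e0 : I'.comap (XAmap x f') = I''.comap (XAmap x f'') := congrArg Subtype.val e
    let L := I'.map (XAmap x p') ⊓ I''.map (XAmap x p'')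
    have hL : ∀ U, L.ideal (pre x B U) =
        (I'.ideal (pre x A' U)).comap (red x p' U) ⊓ (I''.ideal (pre x A'' U)).comap (red x p'' U) := fun U => by
      rw [← ideal_map_red, ← ideal_map_red]
      rfl
    have hcompat : ∀ U, (I'.ideal (pre x A' U)).map (red x f' U) = (I''.ideal (pre x A'' U)).map (red x f'' U) :=
      fun U => by rw [← ideal_red, ← ideal_red, e0]
    have hL' : L.comap (XAmap x p') = I' := ext_pre x fun U => by
      rw [ideal_red, hL]; exact (glue_map x h hf U _ _ (hcompat U)).1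
    have hL'' : L.comap (XAmap x p'') = I'' := ext_pre x fun U => by
      rw [ideal_red, hL]; exact (glue_map x h hf U _ _ (hcompat U)).2
    refine ⟨⟨L, (flatOver_iff x B L).2 fun U => ?_, ?_⟩, Subtype.ext (Prod.ext (Subtype.ext hL') (Subtype.ext hL''))⟩
    · rw [hL]
      exact glue_flat x h hf U _ _ _ (glue_map x h hf U _ _ (hcompat U)).1 (glue_map x h hf U _ _ (hcompat U)).2 ((flatOver_iff x A' I').1 hI' U) ((flatOver_iff x A'' I'').1 hI'' U)
    · rw [← XAincl_XAmap x p', Scheme.IdealSheafData.comap_comp, hL', hI'₀]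

/-- Over the field itself there is exactly one deformation. -/
theorem h0 (I₀ : X.IdealSheafData) : ArtFun.H0 (ArtFun.localHilb X x I₀) := by
  have : IsIso (specRes (base k k)) := by
    have hb : Function.Bijective (CommRingCat.ofHom (base k k).res.toRingHom).hom := Function.bijective_id
    have : IsIso (CommRingCat.ofHom (base k k).res.toRingHom) :=
      (ConcreteCategory.isIso_iff_bijective _).2 hb
    exact inferInstanceAs (IsIso (Spec.map _))
  have : IsIso (XAincl x (base k k)) := (isPullback_XAincl x (base k k)).isIso_fst_of_isIso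
  refine ⟨⟨⟨I₀.comap (inv (XAincl x (base k k))), Misc3Fib.flat_of_field (k := k) (_ : _ ⟶ Spec (CommRingCat.of k)), ?_⟩⟩, ⟨fun a b => Subtype.ext ?_⟩⟩
  · rw [← Scheme.IdealSheafData.comap_comp, IsIso.hom_inv_id, Scheme.IdealSheafData.comap_id]
  · rw [← Scheme.IdealSheafData.comap_id (I := a.1), ← Scheme.IdealSheafData.comap_id (I := b.1),
      ← IsIso.inv_hom_id (XAincl x (base k k)), Scheme.IdealSheafData.comap_comp,
      Scheme.IdealSheafData.comap_comp, a.2.2, b.2.2]

end Groth.ArtfunDeform.HilbGlue
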