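import Groth.Agent.ArtfunDeform.HilbTangent
import Groth.Agent.Duality.SheafHomSections
import Groth.Agent.Divisors.IdealComap
import Groth.Prelude.Def_Omega2
import Groth.Agent.SGA7.SmallLift

/-!
The identification of the tangent space of the local Hilbert functor with `H⁰` of the normal sheaf is linear.
-/

set_option linter.style.longLine false

universe u

open CategoryTheory CategoryTheory.Limits AlgebraicGeometry
open ArtFun ArtFun.Art

namespace Groth.ArtfunDeform.HilbTangent

open HilbAffine HilbGlue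
open Groth.PicAux (resX)

variable {k : Type u} [Field k] {X : Scheme.{u}} {x : X ⟶ specPt k} {I₀ : X.IdealSheafData}

local notation "D" => (ArtFun.Art.dual k k)
local notation "D₂" => (ArtFun.Art.dual2 k k)

theorem hom_ext_affine {M N : X.Modules} {φ ψ : M ⟶ N}
    (h : ∀ (W : X.affineOpens) (s : Γ(M, W.1)), φ.app W.1 s = ψ.app W.1 s) : φ = ψ := by
  refine Groth.CohTwo.hom_ext_app fun V s => Groth.CohTwo.eq_of_local _ _ _ fun y hy => ?_
  obtain ⟨_, ⟨W, hW, rfl⟩, hyW, hWV⟩ := X.isBasis_affineOpens.exists_subset_of_mem_open hy V.2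
  have hle : W ≤ V := hWV
  exact ⟨W, hle, hyW, (Groth.CohTwo.app_res _ hle s).symm.trans ((h ⟨W, hW⟩ _).trans (Groth.CohTwo.app_res _ hle s))⟩

theorem map_fib' {A : Art k k} (ξ : (ArtFun.localHilb X x I₀).obj A) (U : X.affineOpens) :
    (ξ.1.ideal (pre x A U)).map (fib x A U) = I₀.ideal U := by
  rw [← ideal_fib, ξ.2.2]

theorem red_mem {A B : Art k k} (p : A ⟶ B) (ξ : (ArtFun.localHilb X x I₀).obj A) (U : X.affineOpens)
    {g : Sec x A U} (hg : g ∈ ξ.1.ideal (pre x A U)) :
    red x p U g ∈ ((ArtFun.localHilb X x I₀).map p ξ).1.ideal (pre x B U) :=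
  (ideal_red x p ξ.1 U).ge (Ideal.mem_map_of_mem _ hg)

theorem exists_lift_mem {A : Art k k} (ξ : (ArtFun.localHilb X x I₀).obj A) (U : X.affineOpens)
    (k' : Γ(ClSub.idealMod I₀, U.1)) :
    ∃ g ∈ ξ.1.ideal (pre x A U), fib x A U g = OmegaSh.idealSect I₀ U.1 k' := by
  have h := Groth.OmegaSheaf.idealSect_mem I₀ U k'
  rw [← map_fib' ξ U] at h
  exact (Ideal.mem_map_iff_of_surjective _ (fib_spec x A U).1).1 h

/-- Constants in a chart. -/
theorem fib_coef_algebraMap (A : Art k k) (U : X.affineOpens) (c : k) :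
    fib x A U (coef x A U (algebraMap k A c)) = resX X (le_top : U.1 ≤ ⊤) (Coh.toGlobal x c) := by
  have e1 : coef x A U (algebraMap k A c) =
      sect x A U (x.appLE ⊤ U.1 le_top ((Scheme.ΓSpecIso (CommRingCat.of k)).inv c)) := by
    have h2 : (specOver A).appLE ⊤ ⊤ le_top ≫ (XApr x A).appLE ⊤ (pre x A U).1 le_top =
        x.appLE ⊤ U.1 le_top ≫ (pullback.fst x (specOver A)).appLE U.1 (pre x A U).1 le_rfl :=
      (Scheme.Hom.appLE_comp_appLE _ _ _ _ _ _ _).trans
        ((appLE_eq (pullback.condition (f := x) (g := specOver A)).symm _ _ _ _).trans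
          (Scheme.Hom.appLE_comp_appLE _ _ _ _ _ _ _).symm)
    refine Eq.trans ?_ (ConcreteCategory.congr_hom h2 ((Scheme.ΓSpecIso (CommRingCat.of k)).inv c))
    exact congrArg ((XApr x A).appLE ⊤ (pre x A U).1 le_top)
      (ConcreteCategory.congr_hom (appLE_SpecMap (CommRingCat.ofHom (ofBase A).toAlgHom.toRingHom)) c).symm
  rw [e1, fib_sect]
  rfl

theorem scale_eps (c : k) : scale c (eps : D) = algebraMap k D c * eps := by
  refine Eq.trans ?_ (eps_mul _).symm
  exact TrivSqZeroExt.ext rfl (mul_one c)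

theorem toHom_scale (c : k) (ξ : (ArtFun.localHilb X x I₀).obj D) :
    toHom ((ArtFun.localHilb X x I₀).map (scale c) ξ) =
      toHom ξ ≫ Formal.smulModΓ (ClSub.quotMod I₀) (Coh.toGlobal x c) := by
  refine hom_ext_affine fun U k' => ?_
  obtain ⟨g, hg, hk⟩ := exists_lift_mem ξ U k'
  obtain ⟨s, hs⟩ := decomp x U g
  have hred : red x (scale c) U g =
      sect x D U (fib x D U g) + ce x U * (coef x D U (algebraMap k D c) * red x (scale c) U s) := by
    conv_lhs => rw [hs]
    rw [map_add, map_mul, red_sect, ce, red_coef, scale_eps, map_mul]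
    ring
  rw [toHom_app U _ (red_mem (scale c) ξ U hg) ((fib_red x (scale c) U g).trans hk),
    del_eq x U hred, map_mul, fib_red, fib_coef_algebraMap, ← del_eq x U hs, qM_mul]
  change _ = (Formal.smulModΓ (ClSub.quotMod I₀) (Coh.toGlobal x c)).app U.1 ((toHom ξ).app U.1 k')
  rw [toHom_app U ξ hg hk, KLin.smulModΓ_app_apply]
  rfl

/-- The two infinitesimals. -/
noncomputable def e₁ : D₂ := (TrivSqZeroExt.inr ((1 : k), (0 : k)) : TrivSqZeroExt k (k × k))

/-- The two infinitesimals. -/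
noncomputable def e₂ : D₂ := (TrivSqZeroExt.inr ((0 : k), (1 : k)) : TrivSqZeroExt k (k × k))

theorem tsze_pair (z : TrivSqZeroExt k (k × k)) (hz : z.fst = 0) :
    TrivSqZeroExt.inl z.snd.1 * TrivSqZeroExt.inr ((1 : k), (0 : k)) +
      TrivSqZeroExt.inl z.snd.2 * TrivSqZeroExt.inr ((0 : k), (1 : k)) = z := by
  rw [TrivSqZeroExt.inl_mul_inr, TrivSqZeroExt.inl_mul_inr, ← TrivSqZeroExt.inr_add]
  refine TrivSqZeroExt.ext hz.symm ?_
  rw [TrivSqZeroExt.snd_inr]
  ext <;> simp

theorem maximal_dual2 : IsLocalRing.maximalIdeal D₂ ≤ Ideal.span {(e₁ : D₂), e₂} := fun c hc => by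
  have h0 : TrivSqZeroExt.fst (R := k) (M := k × k) c = 0 :=
    (ArtFun.Art.mem_maximalIdeal_iff (ArtFun.Art.dual2 k k) c).1 hc
  let c' : TrivSqZeroExt k (k × k) := c
  exact Ideal.mem_span_pair.2 ⟨(TrivSqZeroExt.inl c'.snd.1 : TrivSqZeroExt k (k × k)),
    (TrivSqZeroExt.inl c'.snd.2 : TrivSqZeroExt k (k × k)), tsze_pair c' h0⟩

theorem toHom_pair (z : (ArtFun.localHilb X x I₀).obj D₂) :
    toHom ((ArtFun.localHilb X x I₀).map plus z) =
      toHom ((ArtFun.localHilb X x I₀).map pr₁ z) + toHom ((ArtFun.localHilb X x I₀).map pr₂ z) := by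
  refine hom_ext_affine fun U k' => ?_
  obtain ⟨g, hg, hk⟩ := exists_lift_mem z U k'
  have hd : g - sect x D₂ U (fib x D₂ U g) ∈ RingHom.ker (fib x D₂ U) := by
    rw [RingHom.mem_ker, map_sub, fib_sect, sub_self]
  rw [(fib_spec x D₂ U).2] at hd
  have hd' := Ideal.map_mono maximal_dual2 hd
  rw [Ideal.map_span, Set.image_pair] at hd'
  obtain ⟨a, b, hab⟩ := Ideal.mem_span_pair.1 hd'
  have hg' : g = sect x D₂ U (fib x D₂ U g) + (a * coef x D₂ U e₁ + b * coef x D₂ U e₂) := by
    rw [hab, add_sub_cancel]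
  have p11 : pr₁ (e₁ : D₂) = (eps : D) := rfl
  have p12 : pr₁ (e₂ : D₂) = (0 : D) := TrivSqZeroExt.ext rfl rfl
  have p21 : pr₂ (e₁ : D₂) = (0 : D) := TrivSqZeroExt.ext rfl rfl
  have p22 : pr₂ (e₂ : D₂) = (eps : D) := rfl
  have q1 : plus (e₁ : D₂) = (eps : D) := TrivSqZeroExt.ext rfl (add_zero (1 : k))
  have q2 : plus (e₂ : D₂) = (eps : D) := TrivSqZeroExt.ext rfl (zero_add (1 : k))
  have hred : ∀ (p : D₂ ⟶ D) (u : Sec x D U), ce x U * u =
      red x p U a * coef x D U (p e₁) + red x p U b * coef x D U (p e₂) →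
        red x p U g = sect x D U (fib x D₂ U g) + ce x U * u := fun p u hu => by
    conv_lhs => rw [hg']
    rw [map_add, map_add, map_mul, map_mul, red_sect, red_coef, red_coef, hu]
  have d1 := del_eq x U (hred pr₁ (red x pr₁ U a) (by rw [p11, p12, map_zero, ce]; ring))
  have d2 := del_eq x U (hred pr₂ (red x pr₂ U b) (by rw [p21, p22, map_zero, ce]; ring))
  have d3 := del_eq x U (hred plus (red x plus U a + red x plus U b) (by rw [q1, q2, ce]; ring))
  rw [map_add, fib_red, fib_red] at d3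
  rw [fib_red] at d1 d2
  rw [toHom_app U _ (red_mem plus z U hg) ((fib_red x plus U g).trans hk), d3, qM_add]
  change _ = (toHom _).app U.1 k' + (toHom _).app U.1 k'
  rw [toHom_app U _ (red_mem pr₁ z U hg) ((fib_red x pr₁ U g).trans hk),
    toHom_app U _ (red_mem pr₂ z U hg) ((fib_red x pr₂ U g).trans hk), d1, d2]

theorem toHom_add [T : TangentStr (ArtFun.localHilb X x I₀)] (a b : TangentSpace (ArtFun.localHilb X x I₀)) :
    toHom (a + b : TangentSpace (ArtFun.localHilb X x I₀)) = toHom a + toHom b := by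
  obtain ⟨z, ⟨hz1, hz2⟩, -⟩ := Groth.ArtfunDeform.existsUnique_pair (h0 x I₀)
    (fun _ _ _ _ h => cmp_bijective x h Groth.SGA7.Deform.isSmallExt_dual I₀) a b
  have e := T.add_eq z
  rw [hz1, hz2] at e
  refine (congrArg toHom (e : (a + b : TangentSpace (ArtFun.localHilb X x I₀)) = _)).trans ?_
  rw [toHom_pair, hz1, hz2]

theorem toHom_smul [T : TangentStr (ArtFun.localHilb X x I₀)] (c : k) (a : TangentSpace (ArtFun.localHilb X x I₀)) :
    toHom (c • a : TangentSpace (ArtFun.localHilb X x I₀)) =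
      toHom a ≫ Formal.smulModΓ (ClSub.quotMod I₀) (Coh.toGlobal x c) :=
  (congrArg toHom (T.smul_eq c a)).trans (toHom_scale c a)

section Normal

variable [I₀.subscheme.Over (Spec (CommRingCat.of k))]
  (hY : I₀.subscheme ↘ Spec (CommRingCat.of k) = I₀.subschemeι ≫ x)

/-- The adjunction of the closed immersion. -/
noncomputable abbrev adjZ := Scheme.Modules.pullbackPushforwardAdjunction I₀.subschemeι

include hY in
theorem push_smulModΓ (c : k) :
    (Scheme.Modules.pushforward I₀.subschemeι).map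
        (Formal.smulModΓ (Coh.structureModule I₀.subscheme) (Coh.toGlobal (I₀.subscheme ↘ Spec (CommRingCat.of k)) c)) =
      Formal.smulModΓ (ClSub.quotMod I₀) (Coh.toGlobal x c) := by
  refine hom_ext_affine fun U s => ?_
  change (Formal.smulModΓ (Coh.structureModule I₀.subscheme) _).app (I₀.subschemeι ⁻¹ᵁ U.1) s = _
  refine (KLin.smulModΓ_app_apply (Coh.structureModule I₀.subscheme) _ _ s).trans
    (Eq.trans ?_ (KLin.smulModΓ_app_apply (ClSub.quotMod I₀) _ U.1 s).symm)
  rw [hY]
  refine congrArg (fun r => r • (show Γ(Coh.structureModule I₀.subscheme, I₀.subschemeι ⁻¹ᵁ U.1) from s)) ?_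
  exact (ConcreteCategory.congr_hom (I₀.subschemeι.naturality (homOfLE (le_top : U.1 ≤ ⊤)).op) (Coh.toGlobal x c)).symm

include hY in
/-- The tangent space of the local Hilbert functor is `H⁰` of the normal sheaf. -/
theorem exists_tangent_equiv [DCoh.HasSheafHom (Omega.conormal I₀.subschemeι)]
    [T : TangentStr (ArtFun.localHilb X x I₀)] :
    Nonempty (TangentSpace (ArtFun.localHilb X x I₀) ≃ₗ[k]
      Coh.HH I₀.subscheme ((DCoh.sheafHom (Omega.conormal I₀.subschemeι)).obj (Coh.structureModule I₀.subscheme)) 0) := by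
  let N := ClSub.idealMod I₀
  let P₀ := (Scheme.Modules.pullback I₀.subschemeι).obj N
  let O := Coh.structureModule I₀.subscheme
  have hAdd : (Scheme.Modules.pushforward I₀.subschemeι).Additive := (adjZ (I₀ := I₀)).right_adjoint_additive
  have hAdd' : (Scheme.Modules.pullback I₀.subschemeι).Additive := (adjZ (I₀ := I₀)).left_adjoint_additive
  let e0 : Omega.conormal I₀.subschemeι ≅ P₀ :=
    (Scheme.Modules.pullback I₀.subschemeι).mapIso (eqToIso (congrArg ClSub.idealMod I₀.ker_subschemeι))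
  let h : (P₀ ⟶ O) ≃ (N ⟶ ClSub.quotMod I₀) := (adjZ (I₀ := I₀)).homEquiv N O
  have hadd : ∀ a b : P₀ ⟶ O, h (a + b) = h a + h b := fun a b => by
    have e : ∀ θ : P₀ ⟶ O, h θ = (adjZ (I₀ := I₀)).unit.app N ≫ (Scheme.Modules.pushforward I₀.subschemeι).map θ :=
      fun θ => Adjunction.homEquiv_unit _ _ _ _
    rw [e, e, e]
    erw [Functor.map_add]
    exact Preadditive.comp_add _ _ _ _ _ _
  let l : TangentSpace (ArtFun.localHilb X x I₀) →ₗ[k] (P₀ ⟶ O) :=
    { toFun := fun a => h.symm (toHom a)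
      map_add' := fun a b => h.injective (by
        rw [hadd, Equiv.apply_symm_apply, Equiv.apply_symm_apply, Equiv.apply_symm_apply, toHom_add])
      map_smul' := fun c a => h.injective (by
        rw [Equiv.apply_symm_apply, toHom_smul, RingHom.id_apply, KLin.smul_def]
        erw [← KLin.comp_smulModΓ]
        rw [← push_smulModΓ hY c]
        exact ((congrArg (· ≫ _) (h.apply_symm_apply _)).symm.trans
          ((adjZ (I₀ := I₀)).homEquiv_naturality_right _ _).symm)) }
  exact ⟨(LinearEquiv.ofBijective l ⟨h.symm.injective.comp toHom_injective,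
    h.symm.surjective.comp toHom_surjective⟩).trans
      ((CategoryTheory.Linear.homCongr k e0.symm (Iso.refl O)).trans (Duality.SheafHom.homH0 _ k O))⟩

end Normal

end Groth.ArtfunDeform.HilbTangent
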