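import Groth.Agent.ArtfunDeform.UniversalLocal
import Groth.Agent.SchemeMorphisms.MorSch.IdealTools
import Groth.Prelude.Def_ArtFun6
import Groth.Prelude.Def_FGA

/-!
The local ring of a Hilbert scheme at a rational point carries the universal family of the local
Hilbert functor.
-/

set_option linter.style.longLine false

noncomputable section

universe u

open CategoryTheory CategoryTheory.Limits AlgebraicGeometry
open ArtFun ArtFun.Art

namespace Groth.ArtfunDeform.HilbPoint

variable {k : Type u} [Field k]

theorem exists_fromSpecStalk {X : Scheme.{u}} {B : CommRingCat.{u}} [IsLocalRing B] (g : Spec B ⟶ X) {pt : X}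
    (h : g (IsLocalRing.closedPoint B) = pt) :
    ∃ φ : X.presheaf.stalk pt ⟶ B, Spec.map φ ≫ X.fromSpecStalk pt = g := by
  subst h
  exact ⟨Scheme.stalkClosedPointTo g, Scheme.Spec_stalkClosedPointTo_fromSpecStalk g⟩

theorem specRes_closedPoint (A : Art k k) :
    specRes A (IsLocalRing.closedPoint k) = IsLocalRing.closedPoint A := by
  have : IsLocalHom (CommRingCat.ofHom A.res.toRingHom).hom :=
    IsLocalHom.of_surjective A.res.toRingHom A.res_surjective
  exact Spec_closedPoint (f := CommRingCat.ofHom A.res.toRingHom)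

variable {X : Scheme.{u}} (x : X ⟶ specPt k)

/-- The point of the base as a point of the Artinian thickening. -/
def resOver (A : Art k k) : Over.mk (𝟙 (specPt k)) ⟶ Over.mk (specOver A) :=
  Over.homMk (specRes A) (by
    change specRes A ≫ specMap (ofBase A) = 𝟙 (specPt k)
    rw [specRes_comp]
    exact (Category.id_comp _).symm.trans (comp_specRes_base (𝟙 (specPt k))))

/-- A map of Artinian thickenings over the base. -/
def mapOver {A B : Art k k} (g : A ⟶ B) : Over.mk (specOver B) ⟶ Over.mk (specOver A) :=
  Over.homMk (specMap g) (specOver_comp g)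

theorem resOver_mapOver {A B : Art k k} (g : A ⟶ B) : resOver B ≫ mapOver g = resOver A :=
  Over.OverMorphism.ext (specRes_comp g)

theorem XTmap_mapOver {A B : Art k k} (g : A ⟶ B) : PicF.XTmap x (mapOver g) = XAmap x g := rfl

theorem XTmap_comp {T T' T'' : Over (specPt k)} (g : T'' ⟶ T') (h : T' ⟶ T) :
    PicF.XTmap x (g ≫ h) = PicF.XTmap x g ≫ PicF.XTmap x h := by
  rw [PicF.XTmap, PicF.XTmap, PicF.XTmap, pullback.map_comp]
  rfl

/-- The closed fibre as the pullback along the point of the base. -/
def fstInv : X ⟶ PicF.XT x (Over.mk (𝟙 (specPt k))) := pullback.lift (𝟙 X) x (by simp)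

theorem fstInv_fst : fstInv x ≫ pullback.fst x (Over.mk (𝟙 (specPt k))).hom = 𝟙 X := pullback.lift_fst _ _ _

theorem fst_fstInv : pullback.fst x (Over.mk (𝟙 (specPt k))).hom ≫ fstInv x = 𝟙 _ := by
  refine pullback.hom_ext ?_ ?_
  · rw [Category.assoc, fstInv_fst, Category.comp_id, Category.id_comp]
  · rw [Category.assoc, fstInv, pullback.lift_snd, Category.id_comp]
    exact pullback.condition.trans (Category.comp_id _)

theorem fstInv_resOver (A : Art k k) : fstInv x ≫ PicF.XTmap x (resOver A) = XAincl x A := by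
  refine pullback.hom_ext ?_ ?_
  · rw [Category.assoc, PicF.XTmap, pullback.lift_fst, Category.comp_id, fstInv_fst]
    exact (XAincl_fst x A).symm
  · rw [Category.assoc, PicF.XTmap, pullback.lift_snd, fstInv, pullback.lift_snd_assoc]
    exact (XAincl_snd x A).symm

variable [IsProper x] (I₀ : X.IdealSheafData) {H : Over (specPt k)} {Z : FGA.HilbSet x H}
  (hH : FGA.HilbRepresentedBy x H Z) (h : Over.mk (𝟙 (specPt k)) ⟶ H)
  (hh : FGA.hilbPull x h Z.1 = I₀.comap (pullback.fst x (Over.mk (𝟙 (specPt k))).hom))

/-- The point. -/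
abbrev pt : H.left := h.left (IsLocalRing.closedPoint k)

theorem exists_res : ∃ φ : H.left.presheaf.stalk (pt h) ⟶ CommRingCat.of k,
    Spec.map φ ≫ H.left.fromSpecStalk (pt h) = h.left :=
  exists_fromSpecStalk h.left rfl

/-- The structure map of the local ring. -/
abbrev coefHom : CommRingCat.of k ⟶ H.left.presheaf.stalk (pt h) :=
  Spec.preimage (H.left.fromSpecStalk (pt h) ≫ H.hom)

/-- The local ring as an algebra. -/
@[reducible] def stalkAlg : Algebra k (H.left.presheaf.stalk (pt h)) := (coefHom h).hom.toAlgebra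

include hH hh in
/-- The local ring at the point carries a universal family. -/
theorem exists_universal :
    letI := stalkAlg h
    ∃ (res : H.left.presheaf.stalk (pt h) →ₐ[k] k) (ξ : Family _ res (ArtFun.localHilb X x I₀)),
      Function.Surjective res ∧ IsUniversal ξ := by
  let R := H.left.presheaf.stalk (pt h)
  let _ : Algebra k R := stalkAlg h
  have hcoef : Spec.map (coefHom h) = H.left.fromSpecStalk (pt h) ≫ H.hom := Spec.map_preimage _
  obtain ⟨r, hr⟩ := exists_res h
  have hr' : coefHom h ≫ r = 𝟙 _ := by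
    refine Spec.map_injective ?_
    rw [Spec.map_comp, Spec.map_id, hcoef, ← Category.assoc, hr]
    exact Over.w h
  let res : R →ₐ[k] k :=
    { r.hom with commutes' := fun c => ConcreteCategory.congr_hom hr' c }
  have hrsurj : Function.Surjective res := fun c => ⟨algebraMap k R c, res.commutes c⟩
  have hres : Spec.map (CommRingCat.ofHom res.toRingHom) ≫ H.left.fromSpecStalk (pt h) = h.left := hr
  -- the arrow of a point of `h_R`
  let arr : ∀ A : Art k k, HomSet R res A → (Over.mk (specOver A) ⟶ H) := fun A φ =>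
    Over.homMk (Spec.map (CommRingCat.ofHom φ.1.toRingHom) ≫ H.left.fromSpecStalk (pt h)) (by
      change (Spec.map (CommRingCat.ofHom φ.1.toRingHom) ≫ H.left.fromSpecStalk (pt h)) ≫ H.hom = specMap (ofBase A)
      rw [Category.assoc, ← hcoef, ← Spec.map_comp]
      exact congrArg (fun f => Spec.map f) (CommRingCat.hom_ext (RingHom.ext fun c => φ.1.commutes c)))
  have harr_res : ∀ A φ, resOver A ≫ arr A φ = h := fun A φ => Over.OverMorphism.ext (by
    change specRes A ≫ Spec.map _ ≫ H.left.fromSpecStalk (pt h) = h.left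
    rw [← Category.assoc, ← Spec.map_comp, ← hres]
    refine congrArg (fun f => Spec.map f ≫ _) (CommRingCat.hom_ext (RingHom.ext fun c => ?_))
    exact congrArg (fun f : R →ₐ[k] k => f c) φ.2)
  have harr_map : ∀ {A B : Art k k} (g : A ⟶ B) (φ : HomSet R res A),
      arr B (HomSet.map g φ) = mapOver g ≫ arr A φ := fun {A B} g φ => Over.OverMorphism.ext (by
    change Spec.map _ ≫ H.left.fromSpecStalk (pt h) = specMap g ≫ Spec.map _ ≫ H.left.fromSpecStalk (pt h)
    rw [← Category.assoc, ← Spec.map_comp]
    rfl)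
  have hbase : ∀ {T : Over (specPt k)} (g : T ⟶ H), FGA.hilbPull x g Z.1 = Z.1.comap (PicF.XTmap x g) :=
    fun g => Groth.MorSchAux.hilbPull_eq_comap x g Z.1
  have hI₀ : (Z.1.comap (PicF.XTmap x h)).comap (fstInv x) = I₀ := by
    rw [← hbase, hh, ← Scheme.IdealSheafData.comap_comp, fstInv_fst, Scheme.IdealSheafData.comap_id]
  let ξ : Family R res (ArtFun.localHilb X x I₀) :=
    { app := fun A φ => ⟨(Groth.MorSchAux.hilbSetPull x (arr A φ) Z).1,
        (Groth.MorSchAux.hilbSetPull x (arr A φ) Z).2.2, by
          change (Z.1.comap (PicF.XTmap x (arr A φ))).comap (XAincl x A) = I₀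
          rw [← fstInv_resOver, ← Scheme.IdealSheafData.comap_comp, Category.assoc, ← XTmap_comp, harr_res,
            Scheme.IdealSheafData.comap_comp, hI₀]⟩
      natural := fun {A B} g φ => Subtype.ext (by
        change Z.1.comap (PicF.XTmap x (arr B (HomSet.map g φ))) =
          (Z.1.comap (PicF.XTmap x (arr A φ))).comap (XAmap x g)
        rw [harr_map, XTmap_comp, Scheme.IdealSheafData.comap_comp, XTmap_mapOver]) }
  refine ⟨res, ξ, hrsurj, fun A => ?_⟩
  have : IsLocallyNoetherian (Over.mk (specOver A)).left := inferInstanceAs (IsLocallyNoetherian (Spec _))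
  have : IsLocallyNoetherian (Over.mk (𝟙 (specPt k))).left := inferInstanceAs (IsLocallyNoetherian (Spec _))
  constructor
  · intro φ ψ e
    have e1 : FGA.hilbPull x (arr A φ) Z.1 = FGA.hilbPull x (arr A ψ) Z.1 := by
      rw [hbase, hbase]
      exact congrArg Subtype.val e
    obtain ⟨g, -, hg⟩ := hH.2 (Over.mk (specOver A)) (Groth.MorSchAux.hilbSetPull x (arr A φ) Z)
    have e2 : arr A φ = arr A ψ := (hg _ (hbase _)).trans (hg _ (e1.symm.trans (hbase _))).symm
    have e3 := congrArg CommaMorphism.left e2
    refine Subtype.ext (AlgHom.ext fun c => ?_)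
    exact ConcreteCategory.congr_hom (Spec.map_injective ((cancel_mono (H.left.fromSpecStalk (pt h))).1 e3)) c
  · intro η
    have hprop : IsProper (η.1.subschemeι ≫ PicF.XTproj x (Over.mk (specOver A))) := by
      have : IsProper (PicF.XTproj x (Over.mk (specOver A))) :=
        inferInstanceAs (IsProper (pullback.snd x (specOver A)))
      infer_instance
    obtain ⟨g, hg, -⟩ := hH.2 (Over.mk (specOver A)) ⟨η.1, hprop, η.2.1⟩
    rw [hbase] at hg
    have hgres : resOver A ≫ g = h := by
      obtain ⟨g₀, -, huniq⟩ := hH.2 (Over.mk (𝟙 (specPt k))) (Groth.MorSchAux.hilbSetPull x h Z)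
      refine (huniq _ ?_).trans (huniq _ (hbase _)).symm
      refine (hbase _).trans ?_
      have : IsIso (fstInv x) := ⟨⟨_, fstInv_fst x, fst_fstInv x⟩⟩
      refine Groth.MorSchAux.comap_injective_of_isIso (fstInv x) ?_
      change (Z.1.comap (PicF.XTmap x (resOver A ≫ g))).comap (fstInv x) = (Z.1.comap (PicF.XTmap x h)).comap (fstInv x)
      rw [hI₀, ← Scheme.IdealSheafData.comap_comp, XTmap_comp, ← Category.assoc, fstInv_resOver,
        Scheme.IdealSheafData.comap_comp, hg, η.2.2]
    have hpt : g.left (IsLocalRing.closedPoint A) = pt h := by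
      rw [← specRes_closedPoint A]
      exact congrArg (fun f : Over.mk (𝟙 (specPt k)) ⟶ H => f.left (IsLocalRing.closedPoint k)) hgres
    obtain ⟨φ, hφ⟩ := exists_fromSpecStalk (B := CommRingCat.of A) g.left hpt
    have hφk : coefHom h ≫ φ = CommRingCat.ofHom (algebraMap k A) := by
      refine Spec.map_injective ?_
      rw [Spec.map_comp, hcoef, ← Category.assoc, hφ]
      exact Over.w g
    let φ' : R →ₐ[k] A := { φ.hom with commutes' := fun c => ConcreteCategory.congr_hom hφk c }
    have hφres : A.res.comp φ' = res := by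
      have e1 : Spec.map (φ ≫ CommRingCat.ofHom A.res.toRingHom) ≫ H.left.fromSpecStalk (pt h) = h.left := by
        rw [Spec.map_comp, Category.assoc, hφ]
        exact congrArg CommaMorphism.left hgres
      have e2 := Spec.map_injective ((cancel_mono (H.left.fromSpecStalk (pt h))).1 (e1.trans hr.symm))
      exact AlgHom.ext fun c => ConcreteCategory.congr_hom e2 c
    refine ⟨⟨φ', hφres⟩, Subtype.ext ?_⟩
    change Z.1.comap (PicF.XTmap x (arr A ⟨φ', hφres⟩)) = η.1
    rw [show arr A ⟨φ', hφres⟩ = g from Over.OverMorphism.ext hφ, hg]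

end Groth.ArtfunDeform.HilbPoint
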