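import Groth.Agent.ArtfunDeform.HilbChart
import Groth.Agent.LocFree.AffineHom
import Groth.Agent.OmegaSheaf.IdealMod
import Groth.Agent.CohTwo.Glue

/-!
The tangent space of the local Hilbert functor of `Z ⊆ X` is `Hom(I, O_X/I)`.
-/

set_option linter.style.longLine false

universe u

open CategoryTheory CategoryTheory.Limits AlgebraicGeometry
open ArtFun ArtFun.Art

namespace Groth.ArtfunDeform.HilbTangent

open HilbAffine HilbGlue
open Groth.PicAux (resX)

variable {k : Type u} [Field k] {X : Scheme.{u}} (x : X ⟶ specPt k)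

local notation "D" => (ArtFun.Art.dual k k)
local notation "D₂" => (ArtFun.Art.dual2 k k)

/-- The element `ε` of the dual numbers. -/
noncomputable def eps : D := (TrivSqZeroExt.inr (1 : k) : DualNumber k)

theorem eps_ne_zero : (eps : D) ≠ 0 := fun h => one_ne_zero (congrArg TrivSqZeroExt.snd h : (1 : k) = 0)

theorem mem_maximal_dual (c : D) : c ∈ IsLocalRing.maximalIdeal D ↔ TrivSqZeroExt.fst c = 0 := (D).mem_maximalIdeal_iff c

theorem eps_mul (c : D) : c * eps = (TrivSqZeroExt.inr (TrivSqZeroExt.fst c) : DualNumber k) := by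
  refine TrivSqZeroExt.ext (mul_zero _) ?_
  change TrivSqZeroExt.fst c * (1 : k) + TrivSqZeroExt.snd c * 0 = _
  rw [mul_one, mul_zero, add_zero]
  rfl

theorem maximal_dual : IsLocalRing.maximalIdeal D = Ideal.span {(eps : D)} := by
  refine le_antisymm (fun c hc => ?_) ?_
  · refine Ideal.mem_span_singleton'.2 ⟨(TrivSqZeroExt.inl (TrivSqZeroExt.snd c) : DualNumber k), ?_⟩
    exact (eps_mul _).trans (TrivSqZeroExt.ext ((mem_maximal_dual c).1 hc).symm rfl)
  · rw [Ideal.span_le, Set.singleton_subset_iff, SetLike.mem_coe, mem_maximal_dual]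
    rfl

theorem eps_kill : ∀ c ∈ IsLocalRing.maximalIdeal D, c * eps = 0 := fun c hc => by
  exact (eps_mul c).trans ((congrArg TrivSqZeroExt.inr ((mem_maximal_dual c).1 hc)).trans (TrivSqZeroExt.inr_zero _))

variable (U : X.affineOpens)

/-- `ε` on a chart. -/
noncomputable def ce : Sec x D U := coef x D U eps

theorem decomp (g : Sec x D U) : ∃ s, g = sect x D U (fib x D U g) + ce x U * s := by
  have h : g - sect x D U (fib x D U g) ∈ RingHom.ker (fib x D U) := by
    rw [RingHom.mem_ker, map_sub, fib_sect, sub_self]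
  rw [(fib_spec x D U).2, maximal_dual, Ideal.map_span, Set.image_singleton] at h
  obtain ⟨s, hs⟩ := Ideal.mem_span_singleton'.1 h
  refine ⟨s, ?_⟩
  rw [ce, mul_comm, hs, add_sub_cancel]

theorem fib_ce : fib x D U (ce x U) = 0 := by
  rw [← RingHom.mem_ker, (fib_spec x D U).2]
  exact Ideal.mem_map_of_mem _ ((mem_maximal_dual _).2 rfl)

theorem fib_lc (f : Γ(X, U.1)) (s : Sec x D U) : fib x D U (sect x D U f + ce x U * s) = f := by
  rw [map_add, map_mul, fib_ce, zero_mul, add_zero, fib_sect]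

theorem ce_mul_congr {s t : Sec x D U} (h : fib x D U s = fib x D U t) : ce x U * s = ce x U * t := by
  rw [← sub_eq_zero, ← mul_sub]
  exact coef_mul_eq_zero x U eps_kill (by rw [map_sub, h, sub_self])

theorem fib_eq_zero_of_ce_mul {s : Sec x D U} (h : ce x U * s = 0) : fib x D U s = 0 := by
  have hflat : ((Ideal.Quotient.mk (⊥ : Ideal (Sec x D U))).comp (coef x D U)).Flat :=
    RingHom.Flat.comp (coef_flat x D U) (RingHom.Flat.of_bijective
      ⟨fun a b hab => sub_eq_zero.1 ((Ideal.mem_bot).1 (Ideal.Quotient.eq.1 hab)), Ideal.Quotient.mk_surjective⟩)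
  have := fib_mem_of_coef_mul_mem x U ⊥ hflat eps_ne_zero (Ideal.mem_bot.2 h)
  rwa [Ideal.map_bot, Ideal.mem_bot] at this

/-- The coefficient of `ε`. -/
noncomputable def del (g : Sec x D U) : Γ(X, U.1) := fib x D U (decomp x U g).choose

theorem del_spec (g : Sec x D U) {t : Sec x D U} (h : fib x D U t = del x U g) :
    g = sect x D U (fib x D U g) + ce x U * t := by
  refine (decomp x U g).choose_spec.trans ?_
  rw [ce_mul_congr x U (h.symm : fib x D U (decomp x U g).choose = _)]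

theorem del_eq {g s : Sec x D U} {f : Γ(X, U.1)} (h : g = sect x D U f + ce x U * s) :
    del x U g = fib x D U s := by
  have hf : fib x D U g = f := by rw [h, fib_lc]
  have h2 : g = sect x D U f + ce x U * (decomp x U g).choose :=
    (decomp x U g).choose_spec.trans (congrArg (fun z => sect x D U z + _) hf)
  have h3 : ce x U * ((decomp x U g).choose - s) = 0 := by
    rw [mul_sub, sub_eq_zero]
    exact add_left_cancel (h2.symm.trans h)
  have := fib_eq_zero_of_ce_mul x U h3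
  rwa [map_sub, sub_eq_zero] at this

theorem del_add (g h : Sec x D U) : del x U (g + h) = del x U g + del x U h := by
  obtain ⟨s, hs⟩ := decomp x U g
  obtain ⟨t, ht⟩ := decomp x U h
  rw [del_eq x U hs, del_eq x U ht, ← map_add]
  refine del_eq x U (f := fib x D U g + fib x D U h) ?_
  rw [map_add, mul_add]
  conv_lhs => rw [hs, ht]
  ring

theorem del_zero : del x U 0 = 0 := by
  rw [del_eq x U (f := 0) (s := 0) (by rw [map_zero, mul_zero, add_zero]), map_zero]

theorem del_mul (g h : Sec x D U) :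
    del x U (g * h) = fib x D U g * del x U h + fib x D U h * del x U g := by
  obtain ⟨s, hs⟩ := decomp x U g
  obtain ⟨t, ht⟩ := decomp x U h
  have h0 : ce x U * (ce x U * (s * t)) = 0 :=
    coef_mul_eq_zero x U eps_kill (by rw [map_mul, fib_ce, zero_mul])
  rw [del_eq x U hs, del_eq x U ht]
  refine (del_eq x U (f := fib x D U g * fib x D U h)
    (s := sect x D U (fib x D U g) * t + sect x D U (fib x D U h) * s) ?_).trans ?_
  · rw [map_mul]
    conv_lhs => rw [hs, ht]
    linear_combination h0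
  · rw [map_add, map_mul, map_mul, fib_sect, fib_sect]

theorem ce_res {W : X.affineOpens} (h : W.1 ≤ U.1) : resX _ (pre_mono x D h) (ce x U) = ce x W :=
  coef_res' x D h eps

theorem del_res {W : X.affineOpens} (h : W.1 ≤ U.1) (g : Sec x D U) :
    del x W (resX _ (pre_mono x D h) g) = resX X h (del x U g) := by
  obtain ⟨s, hs⟩ := decomp x U g
  rw [del_eq x U hs]
  refine (del_eq x W (f := resX X h (fib x D U g)) (s := resX _ (pre_mono x D h) s) ?_).trans (fib_res' x D h s)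
  conv_lhs => rw [hs]
  rw [map_add, map_mul, sect_res x D h, ce_res x U h]

variable (I₀ : X.IdealSheafData)

/-- Functions on an open of the closed subscheme. -/
noncomputable def q : Γ(X, U.1) →+* Γ(I₀.subscheme, I₀.subschemeι ⁻¹ᵁ U.1) := (I₀.subschemeι.app U.1).hom

theorem q_surjective : Function.Surjective (q U I₀) := I₀.subschemeι_app_surjective U

theorem q_eq_zero {f : Γ(X, U.1)} : q U I₀ f = 0 ↔ f ∈ I₀.ideal U := by
  rw [← I₀.ker_subschemeι_app U]; rfl

theorem q_res {W : X.affineOpens} (h : W.1 ≤ U.1) (f : Γ(X, U.1)) :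
    q W I₀ (resX X h f) = resX I₀.subscheme (I₀.subschemeι.preimage_mono h) (q U I₀ f) :=
  ConcreteCategory.congr_hom (I₀.subschemeι.naturality (homOfLE h).op) f

/-- Functions as sections of the quotient module. -/
noncomputable def qM (f : Γ(X, U.1)) : Γ(ClSub.quotMod I₀, U.1) := q U I₀ f

theorem qM_add (f g : Γ(X, U.1)) : qM U I₀ (f + g) = qM U I₀ f + qM U I₀ g := map_add (q U I₀) f g

theorem qM_sub (f g : Γ(X, U.1)) : qM U I₀ (f - g) = qM U I₀ f - qM U I₀ g := map_sub (q U I₀) f g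

theorem qM_zero : qM U I₀ 0 = 0 := map_zero (q U I₀)

theorem qM_mul (c f : Γ(X, U.1)) : qM U I₀ (c * f) = c • qM U I₀ f := map_mul (q U I₀) c f

theorem qM_eq_zero {f : Γ(X, U.1)} : qM U I₀ f = 0 ↔ f ∈ I₀.ideal U := q_eq_zero U I₀

theorem qM_surjective : Function.Surjective (qM U I₀) := q_surjective U I₀

theorem qM_res {W : X.affineOpens} (h : W.1 ≤ U.1) (f : Γ(X, U.1)) :
    qM W I₀ (resX X h f) = Groth.PicAux.res (ClSub.quotMod I₀) h (qM U I₀ f) :=
  q_res U I₀ h f

/-- `ε`-coefficient of a product with an element over the closed subscheme. -/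
theorem qM_del_mul (c g : Sec x D U) (hg : fib x D U g ∈ I₀.ideal U) :
    qM U I₀ (del x U (c * g)) = fib x D U c • qM U I₀ (del x U g) := by
  rw [del_mul, qM_add, qM_mul, (qM_eq_zero U I₀).2 (Ideal.mul_mem_right _ _ hg), add_zero]

variable {x I₀}

theorem map_fib (ξ : (ArtFun.localHilb X x I₀).obj D) :
    (ξ.1.ideal (pre x D U)).map (fib x D U) = I₀.ideal U := by
  rw [← ideal_fib, ξ.2.2]

theorem fib_mem {ξ : (ArtFun.localHilb X x I₀).obj D} {g : Sec x D U} (hg : g ∈ ξ.1.ideal (pre x D U)) :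
    fib x D U g ∈ I₀.ideal U := map_fib U ξ ▸ Ideal.mem_map_of_mem _ hg

theorem q_del_congr (ξ : (ArtFun.localHilb X x I₀).obj D) {g g' : Sec x D U}
    (hg : g ∈ ξ.1.ideal (pre x D U)) (hg' : g' ∈ ξ.1.ideal (pre x D U)) (h : fib x D U g = fib x D U g') :
    qM U I₀ (del x U g) = qM U I₀ (del x U g') := by
  obtain ⟨s, hs⟩ := decomp x U g
  obtain ⟨t, ht⟩ := decomp x U g'
  have hm : ce x U * (s - t) ∈ ξ.1.ideal (pre x D U) := by
    have h2 := sub_mem hg hg'
    rw [hs, ht, h, add_sub_add_left_eq_sub, ← mul_sub] at h2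
    exact h2
  have := fib_mem_of_coef_mul_mem x U _ ((flatOver_iff x D ξ.1).1 ξ.2.1 U) eps_ne_zero hm
  rw [map_fib U ξ, ← qM_eq_zero, map_sub, qM_sub, sub_eq_zero] at this
  rw [del_eq x U hs, del_eq x U ht, this]

/-- The sections over a chart of the homomorphism attached to a tangent vector. -/
theorem exists_hom (ξ : (ArtFun.localHilb X x I₀).obj D) :
    ∃ φ : ClSub.idealMod I₀ ⟶ ClSub.quotMod I₀, ∀ (U : X.affineOpens) (g : Sec x D U)
      (k' : Γ(ClSub.idealMod I₀, U.1)), g ∈ ξ.1.ideal (pre x D U) → fib x D U g = OmegaSh.idealSect I₀ U.1 k' →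
        φ.app U.1 k' = qM U I₀ (del x U g) := by
  classical
  have ex : ∀ (U : X.affineOpens) (k' : Γ(ClSub.idealMod I₀, U.1)),
      ∃ g, g ∈ ξ.1.ideal (pre x D U) ∧ fib x D U g = OmegaSh.idealSect I₀ U.1 k' := fun U k' => by
    have h := Groth.OmegaSheaf.idealSect_mem I₀ U k'
    rw [← map_fib U ξ] at h
    exact (Ideal.mem_map_iff_of_surjective _ (fib_spec x D U).1).1 h
  choose g₀ hg₀ hfib₀ using ex
  let φ : ∀ V : X.Opens, IsAffineOpen V → (Γ(ClSub.idealMod I₀, V) →ₗ[Γ(X, V)] Γ(ClSub.quotMod I₀, V)) :=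
    fun V hV =>
    { toFun := fun a => qM ⟨V, hV⟩ I₀ (del x ⟨V, hV⟩ (g₀ ⟨V, hV⟩ a))
      map_add' := fun a b => by
        refine (q_del_congr _ ξ (hg₀ _ _) (add_mem (hg₀ ⟨V, hV⟩ a) (hg₀ ⟨V, hV⟩ b))
          (by rw [map_add, hfib₀, hfib₀, hfib₀, map_add])).trans ?_
        rw [del_add, qM_add]
      map_smul' := fun c a => by
        refine (q_del_congr _ ξ (hg₀ _ _) (Ideal.mul_mem_left _ (sect x D ⟨V, hV⟩ c) (hg₀ ⟨V, hV⟩ a))
          (by rw [map_mul, fib_sect, hfib₀, hfib₀, Groth.OmegaSheaf.idealSect_smul])).trans ?_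
        refine (qM_del_mul x ⟨V, hV⟩ I₀ (sect x D ⟨V, hV⟩ c) _ (fib_mem _ (hg₀ _ a))).trans ?_
        exact congrArg (· • qM ⟨V, hV⟩ I₀ (del x ⟨V, hV⟩ (g₀ ⟨V, hV⟩ a))) (fib_sect x D ⟨V, hV⟩ c) }
  obtain ⟨Φ, hΦ⟩ := Groth.LocFree.exists_hom_of_affine φ fun V W hV hW hWV a => by
    let UV : X.affineOpens := ⟨V, hV⟩
    let UW : X.affineOpens := ⟨W, hW⟩
    have h1 : resX _ (pre_mono x D (U := UV) (W := UW) hWV) (g₀ UV a) ∈ ξ.1.ideal (pre x D UW) :=
      ξ.1.ideal_le_comap_ideal (pre_mono x D (U := UV) (W := UW) hWV) (hg₀ UV a)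
    refine (qM_res UV I₀ (W := UW) hWV (del x UV (g₀ UV a))).symm.trans ?_
    rw [← del_res x UV (W := UW) hWV]
    refine q_del_congr UW ξ h1 (hg₀ UW _) ?_
    rw [fib_res' x D (U := UV) (W := UW) hWV, hfib₀, hfib₀]
    exact (Groth.OmegaSheaf.idealSect_res I₀ hWV a).symm
  exact ⟨Φ, fun U g k' hg hk => (hΦ U.1 U.2 k').trans
    (q_del_congr U ξ (hg₀ U k') hg (by rw [hfib₀, hk]))⟩

/-- The homomorphism attached to a tangent vector. -/
noncomputable def toHom (ξ : (ArtFun.localHilb X x I₀).obj D) : ClSub.idealMod I₀ ⟶ ClSub.quotMod I₀ :=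
  (exists_hom ξ).choose

theorem toHom_app (ξ : (ArtFun.localHilb X x I₀).obj D) {g : Sec x D U} {k' : Γ(ClSub.idealMod I₀, U.1)}
    (hg : g ∈ ξ.1.ideal (pre x D U)) (hk : fib x D U g = OmegaSh.idealSect I₀ U.1 k') :
    (toHom ξ).app U.1 k' = qM U I₀ (del x U g) :=
  (exists_hom ξ).choose_spec U g k' hg hk

theorem mem_iff (ξ : (ArtFun.localHilb X x I₀).obj D) (g : Sec x D U) :
    g ∈ ξ.1.ideal (pre x D U) ↔ ∃ k', fib x D U g = OmegaSh.idealSect I₀ U.1 k' ∧
      (toHom ξ).app U.1 k' = qM U I₀ (del x U g) := by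
  constructor
  · intro hg
    obtain ⟨k', hk'⟩ := Groth.OmegaSheaf.exists_idealSect I₀ U (fib_mem U hg)
    exact ⟨k', hk'.symm, toHom_app U ξ hg hk'.symm⟩
  · rintro ⟨k', hk, he⟩
    have hmem := Groth.OmegaSheaf.idealSect_mem I₀ U k'
    rw [← map_fib U ξ] at hmem
    obtain ⟨g', hg', hfe⟩ := (Ideal.mem_map_iff_of_surjective _ (fib_spec x D U).1).1 hmem
    rw [toHom_app U ξ hg' hfe, ← sub_eq_zero, ← qM_sub, qM_eq_zero, ← map_fib U ξ] at he
    obtain ⟨c, hc, hce⟩ := (Ideal.mem_map_iff_of_surjective _ (fib_spec x D U).1).1 he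
    obtain ⟨s, hs⟩ := decomp x U g
    obtain ⟨t, ht⟩ := decomp x U g'
    have e : ce x U * c = ce x U * (t - s) := ce_mul_congr x U (by
      rw [hce, map_sub, del_eq x U hs, del_eq x U ht])
    have : g = g' - ce x U * c := by
      rw [e, mul_sub]
      conv_rhs => rw [ht, hfe, ← hk]
      conv_lhs => rw [hs]
      ring
    rw [this]
    exact sub_mem hg' (Ideal.mul_mem_left _ _ hc)

theorem toHom_injective : Function.Injective (toHom (x := x) (I₀ := I₀)) := fun ξ η e => by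
  refine Subtype.ext (ext_pre x fun U => ?_)
  ext g
  rw [mem_iff U ξ, mem_iff U η, e]

/-- Sections killed on a basic open are killed by a power. -/
theorem exists_pow_mul_eq_zero {Y : Scheme.{u}} {V : Y.Opens} (hV : IsAffineOpen V) (a y : Γ(Y, V)) {V' : Y.Opens}
    (hV' : V' ≤ V) (e : Y.basicOpen a ≤ V') (h : resX Y hV' y = 0) : ∃ n, a ^ n * y = 0 := by
  have := hV.isLocalization_basicOpen a
  have h2 : algebraMap Γ(Y, V) Γ(Y, Y.basicOpen a) y = 0 := by
    have := congrArg (resX Y e) h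
    rw [Groth.PicAux.resX_resX, map_zero] at this
    exact this
  obtain ⟨⟨_, n, rfl⟩, hn⟩ := (IsLocalization.map_eq_zero_iff (Submonoid.powers a) Γ(Y, Y.basicOpen a) y).1 h2
  exact ⟨n, hn⟩

/-- An ideal sheaf on `X ×_k Spec A` from compatible ideals on the charts. -/
theorem exists_idealSheaf (A : Art k k) (K : ∀ U : X.affineOpens, Ideal (Sec x A U))
    (hmono : ∀ {U W : X.affineOpens} (h : W.1 ≤ U.1), ∀ g ∈ K U, resX _ (pre_mono x A h) g ∈ K W)
    (hbasic : ∀ (U : X.affineOpens) (a : Sec x A U),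
      K (X.affineBasicOpen (U := U) (fib x A U a)) ≤ (K U).map
        (resX (XA x A) (pre_mono x A (U := U) (W := X.affineBasicOpen (U := U) (fib x A U a)) (X.basicOpen_le _)))) :
    ∃ I : (XA x A).IdealSheafData, ∀ U, I.ideal (pre x A U) = K U := by
  let L : ∀ V : (XA x A).affineOpens, Ideal Γ(XA x A, V.1) := fun V =>
    ⨅ (U : X.affineOpens) (h : (pre x A U).1 ≤ V.1), Ideal.comap (resX (XA x A) h) (K U)
  have hL : ∀ U, L (pre x A U) = K U := fun U => by
    refine le_antisymm (fun g hg => ?_) (fun g hg => ?_)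
    · simp only [L, Ideal.mem_iInf, Ideal.mem_comap] at hg
      have h := hg U (le_refl (pre x A U).1)
      rwa [Groth.PicAux.resX_self] at h
    · simp only [L, Ideal.mem_iInf, Ideal.mem_comap]
      intro W hW
      exact hmono ((pre_le_iff x A).1 hW) g hg
  refine ⟨{ ideal := L, map_ideal_basicOpen := fun V a => ?_ }, hL⟩
  obtain ⟨U, rfl⟩ := exists_pre_eq x A V
  have key : ∀ (W' : (XA x A).affineOpens) (hW' : W'.1 ≤ (pre x A U).1),
      W' = pre x A (X.affineBasicOpen (U := U) (fib x A U a)) →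
        (L (pre x A U)).map (resX (XA x A) hW') = L W' := by
    rintro _ hW' rfl
    rw [hL, hL]
    exact le_antisymm (Ideal.map_le_iff_le_comap.2 fun g hg => hmono (X.basicOpen_le _) g hg) (hbasic U a)
  exact key _ ((XA x A).basicOpen_le a) (affineBasicOpen_pre x A U a)

/-- A homomorphism comes from a tangent vector. -/
theorem toHom_surjective : Function.Surjective (toHom (x := x) (I₀ := I₀)) := by
  classical
  intro Φ
  -- the ideal on a chart
  let P : ∀ (U : X.affineOpens), Sec x D U → Prop := fun U g =>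
    ∃ k', fib x D U g = OmegaSh.idealSect I₀ U.1 k' ∧ Φ.app U.1 k' = qM U I₀ (del x U g)
  let K : ∀ (U : X.affineOpens), Ideal (Sec x D U) := fun U =>
    { carrier := {g | P U g}
      zero_mem' := ⟨0, by rw [map_zero, map_zero], by rw [del_zero, qM_zero, map_zero]⟩
      add_mem' := fun {a b} ⟨k₁, h₁, e₁⟩ ⟨k₂, h₂, e₂⟩ => ⟨k₁ + k₂, by rw [map_add, map_add, h₁, h₂],
        by rw [del_add, qM_add, map_add, e₁, e₂]⟩
      smul_mem' := fun c g ⟨k₁, h₁, e₁⟩ => ⟨fib x D U c • k₁, by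
        rw [smul_eq_mul, map_mul, h₁, Groth.OmegaSheaf.idealSect_smul], by
        rw [smul_eq_mul, qM_del_mul x U I₀ c g (by rw [h₁]; exact Groth.OmegaSheaf.idealSect_mem I₀ U k₁),
          ← e₁, Scheme.Modules.Hom.app_smul]⟩ }
  have hmono : ∀ {U W : X.affineOpens} (h : W.1 ≤ U.1) (g : Sec x D U), g ∈ K U →
      resX _ (pre_mono x D h) g ∈ K W := fun {U W} h g ⟨k', hk, he⟩ => by
    refine ⟨Groth.PicAux.res (ClSub.idealMod I₀) h k', ?_, ?_⟩
    · rw [fib_res' x D h, hk]
      exact (Groth.OmegaSheaf.idealSect_res I₀ h k').symm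
    · rw [del_res x U h, qM_res U I₀ h, ← he]
      exact ConcreteCategory.congr_hom (Φ.mapPresheaf.naturality (homOfLE h).op) k'
  have hbasic : ∀ (U : X.affineOpens) (a : Sec x D U),
      K (X.affineBasicOpen (U := U) (fib x D U a)) ≤ (K U).map
        (resX (XA x D) (pre_mono x D (U := U) (W := X.affineBasicOpen (U := U) (fib x D U a)) (X.basicOpen_le _))) := by
    intro U a g hg
    let W : X.affineOpens := X.affineBasicOpen (U := U) (fib x D U a)
    change g ∈ K W at hg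
    have hWU : W.1 ≤ U.1 := X.basicOpen_le _
    let r := resX (XA x D) (pre_mono x D (U := U) (W := W) hWU)
    have hbo : (XA x D).basicOpen (U := (pre x D U).1) a = (pre x D W).1 :=
      congrArg Subtype.val (affineBasicOpen_pre x D U a)
    have hunit : IsUnit (r a) := by
      have h : IsUnit (resX (XA x D) ((XA x D).basicOpen_le a) a) :=
        RingedSpace.isUnit_res_basicOpen (X := (XA x D).toRingedSpace) a
      exact Groth.PicAux.resX_resX ((XA x D).basicOpen_le a) hbo.ge a ▸ h.map (resX (XA x D) hbo.ge)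
    have := (pre x D U).2.isLocalization_basicOpen a
    obtain ⟨n, g₀, hg₀⟩ := IsLocalization.Away.surj a (resX (XA x D) hbo.le g)
    have hg₀' : r g₀ = g * r a ^ n := by
      have h2 := congrArg (resX (XA x D) hbo.ge) hg₀
      rw [map_mul, map_pow, Groth.PicAux.resX_resX, Groth.PicAux.resX_self] at h2
      refine Eq.trans ?_ (h2.symm.trans ?_)
      · exact (Groth.PicAux.resX_resX ((XA x D).basicOpen_le a) hbo.ge g₀).symm
      · exact congrArg (fun z => g * z ^ n) (Groth.PicAux.resX_resX ((XA x D).basicOpen_le a) hbo.ge a)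
    have hg₀W : r g₀ ∈ K W := hg₀' ▸ Ideal.mul_mem_right _ _ hg
    obtain ⟨k', hk, he⟩ := hg₀W
    -- the ideal condition holds up to a power of `a`
    have hz : resX I₀.subscheme (I₀.subschemeι.preimage_mono hWU) (q U I₀ (fib x D U g₀)) = 0 := by
      rw [← q_res U I₀ hWU, ← fib_res' x D hWU, q_eq_zero]
      exact hk ▸ Groth.OmegaSheaf.idealSect_mem I₀ W k'
    have hbZ : I₀.subscheme.basicOpen (q U I₀ (fib x D U a)) ≤ I₀.subschemeι ⁻¹ᵁ W.1 :=
      (Scheme.preimage_basicOpen I₀.subschemeι (fib x D U a)).ge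
    obtain ⟨m, hm⟩ := exists_pow_mul_eq_zero (U.2.preimage I₀.subschemeι) _ _ (I₀.subschemeι.preimage_mono hWU) hbZ hz
    rw [← map_pow, ← map_mul, ← map_pow, ← map_mul, q_eq_zero] at hm
    obtain ⟨k₁, hk₁⟩ := Groth.OmegaSheaf.exists_idealSect I₀ U hm
    have hres : r (a ^ m * g₀) ∈ K W := by
      rw [map_mul]; exact Ideal.mul_mem_left _ _ ⟨k', hk, he⟩
    obtain ⟨k₂, hk₂, he₂⟩ := hres
    have hk12 : Groth.PicAux.res (ClSub.idealMod I₀) hWU k₁ = k₂ :=
      Groth.OmegaSheaf.idealSect_injective I₀ W.1 (by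
        rw [← hk₂, fib_res' x D hWU]
        exact (Groth.OmegaSheaf.idealSect_res I₀ hWU k₁).trans (congrArg (resX X hWU) hk₁))
    let err : Γ(I₀.subscheme, I₀.subschemeι ⁻¹ᵁ U.1) := qM U I₀ (del x U (a ^ m * g₀)) - Φ.app U.1 k₁
    have herr : resX I₀.subscheme (I₀.subschemeι.preimage_mono hWU) err = 0 := by
      refine (map_sub (ClSub.quotMod I₀ |>.presheaf.map (homOfLE hWU).op).hom (qM U I₀ (del x U (a ^ m * g₀)))
        (Φ.app U.1 k₁)).trans (sub_eq_zero.2 ?_)
      refine (qM_res U I₀ hWU _).symm.trans ?_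
      rw [← del_res x U hWU, ← he₂, ← hk12]
      exact ConcreteCategory.congr_hom (Φ.mapPresheaf.naturality (homOfLE hWU).op) k₁
    obtain ⟨l, hl⟩ := exists_pow_mul_eq_zero (U.2.preimage I₀.subschemeι) _ _ (I₀.subschemeι.preimage_mono hWU) hbZ herr
    have hfin : a ^ l * (a ^ m * g₀) ∈ K U := by
      refine ⟨fib x D U (a ^ l) • k₁, by rw [map_mul, ← hk₁, Groth.OmegaSheaf.idealSect_smul], ?_⟩
      rw [qM_del_mul x U I₀ _ _ (by rw [← hk₁]; exact Groth.OmegaSheaf.idealSect_mem I₀ U k₁),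
        Scheme.Modules.Hom.app_smul, eq_comm, ← sub_eq_zero, ← smul_sub, map_pow]
      have hl' : q U I₀ (fib x D U a ^ l) * err = 0 := by rw [map_pow]; exact hl
      exact hl' 
    have hu : IsUnit (r a ^ l * r a ^ m * r a ^ n) := ((hunit.pow l).mul (hunit.pow m)).mul (hunit.pow n)
    refine (Ideal.unit_mul_mem_iff_mem _ hu).1 ?_
    have e : r a ^ l * r a ^ m * r a ^ n * g = r (a ^ l * (a ^ m * g₀)) := by
      rw [map_mul, map_mul, map_pow, map_pow, hg₀']
      ring
    exact e ▸ Ideal.mem_map_of_mem r hfin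
  -- the ideal sheaf
  obtain ⟨I, hI⟩ := exists_idealSheaf (x := x) D K (fun h g hg => hmono h g hg) hbasic
  have hlift : ∀ (U : X.affineOpens) (k' : Γ(ClSub.idealMod I₀, U.1)),
      ∃ g ∈ K U, fib x D U g = OmegaSh.idealSect I₀ U.1 k' := fun U k' => by
    obtain ⟨b, hb⟩ := qM_surjective U I₀ (Φ.app U.1 k')
    refine ⟨sect x D U (OmegaSh.idealSect I₀ U.1 k') + ce x U * sect x D U b, ⟨k', fib_lc x U _ _, ?_⟩,
      fib_lc x U _ _⟩
    rw [del_eq x U rfl, fib_sect, hb]
  have hKfib : ∀ U, (K U).map (fib x D U) = I₀.ideal U := fun U => by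
    refine le_antisymm (Ideal.map_le_iff_le_comap.2 fun g hg => ?_) fun f hf => ?_
    · obtain ⟨k', hk, -⟩ := hg
      rw [Ideal.mem_comap, hk]; exact Groth.OmegaSheaf.idealSect_mem I₀ U k'
    · obtain ⟨k', rfl⟩ := Groth.OmegaSheaf.exists_idealSect I₀ U hf
      obtain ⟨g, hg, hge⟩ := hlift U k'
      exact hge ▸ Ideal.mem_map_of_mem _ hg
  have hflat : FlatOver X x D I := by
    refine (flatOver_iff x D I).2 fun U => ?_
    rw [hI]
    refine flat_of_crit (coef x D U) (coef_flat x D U) (K U) fun g hg hgm => ?_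
    rw [← (fib_spec x D U).2, RingHom.mem_ker] at hgm
    obtain ⟨k', hk, he⟩ := hg
    rw [hgm, eq_comm, ← map_zero (OmegaSh.idealSect I₀ U.1)] at hk
    obtain rfl := Groth.OmegaSheaf.idealSect_injective I₀ U.1 hk
    obtain ⟨s, hs⟩ := decomp x U g
    rw [map_zero, eq_comm, del_eq x U hs, qM_eq_zero, ← hKfib U] at he
    obtain ⟨c, hc, hce⟩ := (Ideal.mem_map_iff_of_surjective _ (fib_spec x D U).1).1 he
    rw [hs, hgm, map_zero, zero_add, ← ce_mul_congr x U hce]
    exact Ideal.mul_mem_mul (Ideal.mem_map_of_mem _ ((mem_maximal_dual _).2 rfl)) hc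
  have hfib : I.comap (XAincl x D) = I₀ := Scheme.IdealSheafData.ext (funext fun U => by
    rw [ideal_fib, hI, hKfib])
  refine ⟨⟨I, hflat, hfib⟩, ?_⟩
  refine Groth.CohTwo.hom_ext_app fun V s => ?_
  refine Groth.CohTwo.eq_of_local _ _ _ fun y hy => ?_
  obtain ⟨_, ⟨W, hW, rfl⟩, hyW, hWV⟩ := X.isBasis_affineOpens.exists_subset_of_mem_open hy V.2
  have hle : W ≤ V := hWV
  refine ⟨W, hle, hyW, (Groth.CohTwo.app_res _ hle s).symm.trans (Eq.trans ?_ (Groth.CohTwo.app_res _ hle s))⟩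
  obtain ⟨g, ⟨k', hk, he⟩, hge⟩ := hlift ⟨W, hW⟩ (Groth.CohTwo.res (ClSub.idealMod I₀) hle s)
  obtain rfl := Groth.OmegaSheaf.idealSect_injective I₀ W (hk.symm.trans hge)
  refine (toHom_app ⟨W, hW⟩ (⟨I, hflat, hfib⟩ : (ArtFun.localHilb X x I₀).obj D) ?_ hge).trans he.symm
  rw [hI]
  exact ⟨_, hk, he⟩

end Groth.ArtfunDeform.HilbTangent
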