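import Groth.Agent.ArtfunDeform.HilbTangentLinear

/-!
The tangent space of the local Hilbert functor of a closed immersion.
-/

set_option linter.style.longLine false

noncomputable section

universe u

open CategoryTheory CategoryTheory.Limits AlgebraicGeometry
open ArtFun ArtFun.Art

namespace Groth.ArtfunDeform.HilbTangentImm

open HilbTangent

variable {k : Type u} [Field k] {Y X : Scheme.{u}} {y : Y ⟶ specPt k} [X.Over (Spec (CommRingCat.of k))]
  (i : X ⟶ Y) [IsClosedImmersion i] (hi : i ≫ y = X ↘ Spec (CommRingCat.of k))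

theorem nonempty_quotMod_ker_iso :
    Nonempty ((Scheme.Modules.pushforward i).obj (Coh.structureModule X) ≅ ClSub.quotMod i.ker) := by
  obtain ⟨e, he, heι⟩ : ∃ e : X ⟶ i.ker.subscheme, IsIso e ∧ e ≫ i.ker.subschemeι = i :=
    ⟨i.toImage, inferInstance, i.toImage_imageι⟩
  have := he
  have hu : IsIso (ClSub.unitToPush e) := Scheme.Modules.Hom.isIso_iff_isIso_app.mpr fun U =>
    (ConcreteCategory.isIso_iff_bijective _).2 (ConcreteCategory.bijective_of_isIso (e.app U))
  exact ⟨eqToIso (congrArg (fun q => (Scheme.Modules.pushforward q).obj (Coh.structureModule X)) heι.symm) ≪≫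
    ((Scheme.Modules.pushforwardComp e i.ker.subschemeι).app (Coh.structureModule X)).symm ≪≫
      (Scheme.Modules.pushforward i.ker.subschemeι).mapIso (asIso (ClSub.unitToPush e)).symm⟩

include hi in
omit [IsClosedImmersion i] in
theorem push_smulModΓ' (c : k) :
    (Scheme.Modules.pushforward i).map
        (Formal.smulModΓ (Coh.structureModule X) (Coh.toGlobal (X ↘ Spec (CommRingCat.of k)) c)) =
      Formal.smulModΓ ((Scheme.Modules.pushforward i).obj (Coh.structureModule X)) (Coh.toGlobal y c) := by
  refine hom_ext_affine fun U s => ?_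
  change (Formal.smulModΓ (Coh.structureModule X) _).app (i ⁻¹ᵁ U.1) s = _
  refine (KLin.smulModΓ_app_apply (Coh.structureModule X) _ _ s).trans
    (Eq.trans ?_ (KLin.smulModΓ_app_apply ((Scheme.Modules.pushforward i).obj (Coh.structureModule X)) _ U.1 s).symm)
  rw [← hi]
  refine congrArg (fun r => r • (show Γ(Coh.structureModule X, i ⁻¹ᵁ U.1) from s)) ?_
  exact (ConcreteCategory.congr_hom (i.naturality (homOfLE (le_top : U.1 ≤ ⊤)).op) (Coh.toGlobal y c)).symm

include hi in
/-- The tangent space at a closed immersion is `H⁰` of the normal sheaf. -/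
theorem exists_equiv [DCoh.HasSheafHom (Omega.conormal i)] [T : TangentStr (ArtFun.localHilb Y y i.ker)] :
    Nonempty (TangentSpace (ArtFun.localHilb Y y i.ker) ≃ₗ[k]
      Coh.HH X ((DCoh.sheafHom (Omega.conormal i)).obj (Coh.structureModule X)) 0) := by
  obtain ⟨ψ⟩ := nonempty_quotMod_ker_iso i
  let N := ClSub.idealMod i.ker
  let O := Coh.structureModule X
  let adj := Scheme.Modules.pullbackPushforwardAdjunction i
  let P₀ := (Scheme.Modules.pullback i).obj N
  let h : (P₀ ⟶ O) ≃ (N ⟶ ClSub.quotMod i.ker) := (adj.homEquiv N O).trans ψ.homToEquiv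
  have hh : ∀ θ : P₀ ⟶ O, h θ = adj.homEquiv N O θ ≫ ψ.hom := fun _ => rfl
  have hadd : ∀ a b : P₀ ⟶ O, h (a + b) = h a + h b := fun a b => by
    have : (Scheme.Modules.pushforward i).Additive := adj.right_adjoint_additive
    rw [hh, hh, hh, Adjunction.homEquiv_unit, Adjunction.homEquiv_unit, Adjunction.homEquiv_unit]
    erw [Functor.map_add, Preadditive.comp_add, Preadditive.add_comp]
  let l : TangentSpace (ArtFun.localHilb Y y i.ker) →ₗ[k] (P₀ ⟶ O) :=
    { toFun := fun a => h.symm (toHom a)
      map_add' := fun a b => h.injective (by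
        rw [hadd, Equiv.apply_symm_apply, Equiv.apply_symm_apply, Equiv.apply_symm_apply, toHom_add])
      map_smul' := fun c a => h.injective (by
        rw [Equiv.apply_symm_apply, toHom_smul, RingHom.id_apply, KLin.smul_def]
        erw [← KLin.comp_smulModΓ]
        refine Eq.trans ?_ (hh _).symm
        rw [Adjunction.homEquiv_naturality_right, push_smulModΓ' i hi c]
        refine (congrArg (fun e => e ≫ Formal.smulModΓ (ClSub.quotMod i.ker) (Coh.toGlobal y c)) (h.apply_symm_apply (toHom a))).symm.trans ?_
        rw [hh]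
        generalize adj.homEquiv N O (h.symm (toHom a)) = e
        refine (Category.assoc _ _ _).trans (Eq.trans ?_ (Category.assoc _ _ _).symm)
        exact congrArg (e ≫ ·) (KLin.comp_smulModΓ ψ.hom _)) }
  exact ⟨(LinearEquiv.ofBijective l ⟨h.symm.injective.comp toHom_injective,
    h.symm.surjective.comp toHom_surjective⟩).trans (Duality.SheafHom.homH0 (Omega.conormal i) k O)⟩

end Groth.ArtfunDeform.HilbTangentImm
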