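import Groth.Agent.ArtfunDeform.Prorep
import Groth.Agent.ArtfunDeform.Cotangent
import Groth.Prelude.Def_W4sfdMinVersal

/-!
Minimal versal families, hulls.
-/

set_option linter.style.haveILetI false
set_option linter.style.longLine false
set_option linter.unusedSectionVars false

universe u v

open CategoryTheory

namespace Groth.ArtfunDeform

open ArtFun ArtFun.Art

variable {Λ : Type u} {k : Type u} [CommRing Λ] [Field k] [Algebra Λ k]
variable {F : Art Λ k ⥤ Type v}

lemma along_app {R S : CRing Λ k} (ξ : Family R.carrier R.res F) (g : R.carrier →ₐ[Λ] S.carrier)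
    (hg : S.res.comp g = R.res) (A : Art Λ k) (ψ : HomSet S.carrier S.res A) :
    (ξ.along g hg).app A ψ = ξ.app A ⟨ψ.1.comp g, by rw [← AlgHom.comp_assoc, ψ.2, hg]⟩ := rfl

lemma push_toFormalElt {R S : CRing Λ k} (η : Family R.carrier R.res F) (g : R.carrier →ₐ[Λ] S.carrier)
    (hg : S.res.comp g = R.res) : η.toFormalElt.push g hg = (η.along g hg).toFormalElt := by
  refine FormalElt.ext' fun n => ?_
  change F.map (CRing.truncMapOfHom g hg n) (η.app _ (R.truncHom n)) = _
  rw [app_natural]
  rfl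

lemma push_eq {R S : CRing Λ k} (u : FormalElt F R) (g : R.carrier →ₐ[Λ] S.carrier)
    (hg : S.res.comp g = R.res) : u.push g hg = ((familyOf u).along g hg).toFormalElt := by
  conv_lhs => rw [← familyOf_toFormalElt u]
  exact push_toFormalElt _ g hg

lemma exists_along_eq {R : CRing Λ k} (ξ : Family R.carrier R.res F) (hξ : IsVersal ξ) (h0 : H0 F)
    {S : CRing Λ k} (η : Family S.carrier S.res F) :
    ∃ (g : R.carrier →ₐ[Λ] S.carrier) (hg : S.res.comp g = R.res), ξ.along g hg = η := by
  obtain ⟨g, hg, h⟩ := exists_along_of_versal ξ hξ h0.2 η.toFormalElt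
  exact ⟨g, hg, toFormalElt_injective h⟩

/-- A map pushing some family to one which is injective on tangents is surjective. -/
lemma surjective_of_along {R S : CRing Λ k} (η : Family R.carrier R.res F) (g : R.carrier →ₐ[Λ] S.carrier)
    (hg : S.res.comp g = R.res) (ξ : Family S.carrier S.res F) (h : η.along g hg = ξ)
    (hinj : Function.Injective (ξ.app (dual Λ k))) : Function.Surjective g := by
  refine surjective_of_tangent_injective g hg fun φ ψ e => hinj ?_
  subst h
  rw [along_app, along_app]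
  exact congrArg (η.app _) (Subtype.ext e)

theorem isMinimalVersal_of_miniversal {R : CRing Λ k} (ξ : Family R.carrier R.res F) (hξ : IsMiniversal ξ) :
    ξ.IsMinimalVersal := by
  refine ⟨hξ.1, fun R' u f hf e => ?_⟩
  rw [push_eq] at e
  exact surjective_of_along _ f hf ξ (toFormalElt_injective e) hξ.2.1

lemma along_along {R S T : CRing Λ k} (ξ : Family R.carrier R.res F) (g : R.carrier →ₐ[Λ] S.carrier)
    (hg : S.res.comp g = R.res) (g' : S.carrier →ₐ[Λ] T.carrier) (hg' : T.res.comp g' = S.res)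
    (h : T.res.comp (g'.comp g) = R.res) : (ξ.along g hg).along g' hg' = ξ.along (g'.comp g) h := rfl

/-- Two families over which each is surjectively reflected are isomorphic. -/
theorem exists_equiv_of_reflect {R₁ R₂ : CRing Λ k} (ξ₁ : Family R₁.carrier R₁.res F) (ξ₂ : Family R₂.carrier R₂.res F)
    (hv₁ : IsVersal ξ₁) (hv₂ : IsVersal ξ₂) (h0 : H0 F)
    (hs₁ : ∀ (g : R₁.carrier →ₐ[Λ] R₁.carrier) (hg : R₁.res.comp g = R₁.res), ξ₁.along g hg = ξ₁ → Function.Surjective g)
    (hs₂ : ∀ (g : R₂.carrier →ₐ[Λ] R₂.carrier) (hg : R₂.res.comp g = R₂.res), ξ₂.along g hg = ξ₂ → Function.Surjective g) :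
    ∃ (e : R₁.carrier ≃ₐ[Λ] R₂.carrier) (he : R₂.res.comp (e : R₁.carrier →ₐ[Λ] R₂.carrier) = R₁.res),
      ξ₁.along (e : R₁.carrier →ₐ[Λ] R₂.carrier) he = ξ₂ := by
  obtain ⟨a, ha, ea⟩ := exists_along_eq ξ₁ hv₁ h0 ξ₂
  obtain ⟨b, hb, eb⟩ := exists_along_eq ξ₂ hv₂ h0 ξ₁
  have h1 : R₁.res.comp (b.comp a) = R₁.res := by rw [← AlgHom.comp_assoc, hb, ha]
  have h2 : R₂.res.comp (a.comp b) = R₂.res := by rw [← AlgHom.comp_assoc, ha, hb]
  have b1 := bijective_of_surjective_endo (b.comp a).toRingHom
    (hs₁ _ h1 (by rw [← along_along ξ₁ a ha b hb h1, ea, eb]))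
  have b2 := bijective_of_surjective_endo (a.comp b).toRingHom
    (hs₂ _ h2 (by rw [← along_along ξ₂ b hb a ha h2, eb, ea]))
  have hbij : Function.Bijective a :=
    ⟨fun x y e => b1.1 (show b (a x) = b (a y) by rw [e]), fun y => (b2.2 y).elim fun x hx => ⟨b x, hx⟩⟩
  exact ⟨AlgEquiv.ofBijective a hbij, ha, ea⟩

section Tangent

variable [IsNoetherianRing Λ] [Module.Finite Λ k]

/-- A functor with a versal family and `H_ε` has finite dimensional tangent space. -/
theorem hfin_of_versal [TangentStr F] (h0 : H0 F) {R : CRing Λ k} (ξ : Family R.carrier R.res F)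
    (hξ : IsVersal ξ) : Hfin F := by
  have hl : IsLeftExact (hR R.carrier R.res) := isLeftExact_hR R.carrier R.res
  have hR0 : H0 (hR R.carrier R.res) := ⟨⟨(homSetBase : HomSet R.carrier R.res (base Λ k))⟩, subsingleton_hR_base _ _⟩
  have hR2 : Heps (hR R.carrier R.res) := fun _ _ p' p'' h => hl p' p'' _ _ h
  letI : TangentStr (hR R.carrier R.res) := tangentStr hR0 hR2
  haveI : Module.Finite k (TangentSpace (hR R.carrier R.res)) :=
    hfin_of_miniversal (F := hR R.carrier R.res) R (Family.self R.carrier R.res)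
      (isMiniversal_of_universal _ fun A => Function.bijective_id)
  let L : TangentSpace (hR R.carrier R.res) →ₗ[k] TangentSpace F :=
    { toFun := fun φ => TangentSpace.mk (ξ.app _ φ)
      map_add' := fun x y => by
        obtain ⟨z, ⟨hx, hy⟩, -⟩ := existsUnique_pair hR0 hR2 x y
        subst hx hy
        have h1 := TangentStr.add_eq (F := hR R.carrier R.res) z
        refine ((congrArg (ξ.app (dual Λ k)) h1).trans (ξ.natural plus z)).trans ?_
        refine (TangentStr.add_eq (F := F) (ξ.app _ z)).symm.trans ?_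
        rw [app_natural, app_natural]
        rfl
      map_smul' := fun c x => by
        have h1 := TangentStr.smul_eq (F := hR R.carrier R.res) c x
        refine ((congrArg (ξ.app (dual Λ k)) h1).trans (ξ.natural (scale c) x)).trans ?_
        exact (TangentStr.smul_eq (F := F) c (ξ.app _ x)).symm }
  exact Module.Finite.of_surjective L (versal_app_surjective ξ hξ h0.2 _)

/-- A minimal versal family is a hull when a hull exists. -/
theorem isMiniversal_of_minimal (h0 : H0 F) (h2 : Heps F) (hk : Subsingleton (base Λ k ⟶ dual Λ k))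
    {R : CRing Λ k} (ξ : Family R.carrier R.res F) (hξ : ξ.IsMinimalVersal) : IsMiniversal ξ := by
  letI := tangentStr h0 h2
  have hs := versal_app_surjective ξ hξ.1 h0.2
  obtain ⟨R', η, -, hm⟩ := exists_versal h0 (fun _ _ _ _ p' p'' f' f'' h hf => s1_of_versal ξ hξ.1 hs p' p'' f' f'' h hf.1)
    h2 (hfin_of_versal h0 ξ hξ.1)
  have hη : IsMiniversal η := hm fun _ => Function.injective_of_subsingleton _
  obtain ⟨e, he, hee⟩ := exists_equiv_of_reflect η ξ hη.1 hξ.1 h0
    (fun g hg e => surjective_of_along η g hg η e hη.2.1)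
    (fun g hg e => hξ.2 R ξ.toFormalElt g hg (by rw [push_toFormalElt, e]))
  refine ⟨hξ.1, fun φ ψ h => ?_, hs _⟩
  subst hee
  have h' := congrArg Subtype.val (hη.2.1 h)
  refine homSet_ext fun r => ?_
  obtain ⟨x, rfl⟩ := e.surjective r
  exact congrArg (fun t : R'.carrier →ₐ[Λ] dual Λ k => t x) h'

/-- An endomorphism of a pro-representable functor bijective on tangents is bijective. -/
theorem bijective_endo {U : Art Λ k ⥤ Type v} (hU : IsProrepresentable U) (φ : U ⟶ U)
    (hd : Function.Injective (φ.app (dual Λ k))) (A : Art Λ k) : Function.Bijective (φ.app A) := by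
  obtain ⟨⟨R, ξ, hξ⟩⟩ := hU
  obtain ⟨g, hg, hgξ⟩ := exists_along_eq ξ (isMiniversal_of_universal ξ hξ).1 (h0_of_universal ξ hξ) (ξ.push φ)
  have key : ∀ B (ψ : HomSet R.carrier R.res B), φ.app B (ξ.app B ψ) =
      ξ.app B ⟨ψ.1.comp g, by rw [← AlgHom.comp_assoc, ψ.2, hg]⟩ := fun B ψ =>
    (congrArg (fun t : Family R.carrier R.res U => t.app B ψ) hgξ).symm
  have hgs : Function.Surjective g := surjective_of_tangent_injective g hg fun a b e => by
    refine (hξ _).1 (hd ?_)
    rw [key, key]
    exact congrArg _ (Subtype.ext e)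
  have hgb := bijective_of_surjective_endo g.toRingHom hgs
  refine ⟨fun x y e => ?_, fun y => ?_⟩
  · obtain ⟨a, rfl⟩ := (hξ A).2 x
    obtain ⟨b, rfl⟩ := (hξ A).2 y
    rw [key, key] at e
    refine congrArg _ (homSet_ext fun r => ?_)
    obtain ⟨s, rfl⟩ := hgb.2 r
    exact congrArg (fun t : HomSet R.carrier R.res A => t.1 s) ((hξ A).1 e)
  · obtain ⟨χ, rfl⟩ := (hξ A).2 y
    let e := AlgEquiv.ofBijective g hgb
    refine ⟨ξ.app A ⟨χ.1.comp e.symm.toAlgHom, AlgHom.ext fun r => ?_⟩, ?_⟩
    · obtain ⟨s, rfl⟩ := e.surjective r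
      change A.res (χ.1 (e.symm (e s))) = R.res (g s)
      rw [AlgEquiv.symm_apply_apply, homSet_res, res_comp_apply' g hg]
    · rw [key]
      exact congrArg _ (homSet_ext fun r => congrArg χ.1 (e.symm_apply_apply r))

end Tangent

end Groth.ArtfunDeform
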