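import Mathlib.RingTheory.Flat.Basic
import Mathlib.RingTheory.TensorProduct.Basic
import Mathlib.LinearAlgebra.TensorProduct.RightExactness
import Mathlib.LinearAlgebra.TensorProduct.Quotient
import Mathlib.RingTheory.Ideal.Quotient.Operations
import Mathlib.RingTheory.Ideal.Over
import Groth.Agent.S6000

/-!
Flat lifts of ideals along a square-zero extension of the base form a torsor.

`J² = 0` in `R`, `P` a flat `R`-algebra, `B = (P/JP)/I`.
-/

set_option linter.unusedSectionVars false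
set_option autoImplicit false

noncomputable section

universe u

open TensorProduct

namespace Groth.ArtfunDeform.IdealTorsor

section Mult

variable {R : Type u} [CommRing R] (J : Ideal R) (M : Type u) [AddCommGroup M] [Module R M]

/-- multiplication `M ⊗ J → M` -/
def mu : M ⊗[R] ↥J →ₗ[R] M := (TensorProduct.rid R M).toLinearMap ∘ₗ LinearMap.lTensor M J.subtype

lemma mu_tmul (m : M) (j : J) : mu J M (m ⊗ₜ j) = (j : R) • m := by simp [mu]

lemma mu_injective [Module.Flat R M] : Function.Injective (mu J M) :=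
  (TensorProduct.rid R M).injective.comp (Module.Flat.lTensor_preserves_injective_linearMap _ J.injective_subtype)

lemma mu_natural {N : Type u} [AddCommGroup N] [Module R N] (f : M →ₗ[R] N) (z : M ⊗[R] ↥J) :
    mu J N (LinearMap.rTensor ↥J f z) = f (mu J M z) := by
  induction z using TensorProduct.induction_on with
  | zero => simp
  | tmul m j => simp [mu_tmul]
  | add a b ha hb => simp [ha, hb]

/-- Tensoring with a square-zero ideal only sees the reduction. -/
lemma rTensor_injective {N : Type u} [AddCommGroup N] [Module R N] (hJ : J * J = ⊥) (s : M →ₗ[R] N)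
    (hs : Function.Surjective s) (hker : ∀ m, s m = 0 → m ∈ J • (⊤ : Submodule R M)) :
    Function.Injective (LinearMap.rTensor ↥J s) := by
  rw [injective_iff_map_eq_zero]
  intro z hz
  obtain ⟨w, rfl⟩ := (rTensor_exact ↥J (LinearMap.exact_subtype_ker_map s) hs z).mp hz
  induction w using TensorProduct.induction_on with
  | zero => simp
  | tmul m j =>
    rw [LinearMap.rTensor_tmul, Submodule.subtype_apply]
    refine Submodule.smul_induction_on (p := fun x => x ⊗ₜ[R] j = 0) (hker _ m.2) ?_ ?_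
    · intro a ha n _
      rw [TensorProduct.smul_tmul]
      have : a • j = 0 := by
        apply Subtype.ext
        have := Ideal.mul_mem_mul ha j.2
        rw [hJ, Ideal.mem_bot] at this
        simpa using this
      rw [this, tmul_zero]
    · intro x y hx hy; rw [add_tmul, hx, hy, add_zero]
  | add a b ha hb =>
    have h0 : ∀ u, LinearMap.rTensor ↥J s (LinearMap.rTensor ↥J (LinearMap.ker s).subtype u) = 0 := fun u => by
      rw [← LinearMap.rTensor_comp_apply, (LinearMap.exact_subtype_ker_map s).linearMap_comp_eq_zero]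
      simp
    rw [map_add, ha (h0 a), hb (h0 b), add_zero]

end Mult

variable {R : Type u} [CommRing R] (J : Ideal R) (P : Type u) [CommRing P] [Algebra R P]

lemma mu_smul (p : P) (z : P ⊗[R] ↥J) : mu J P (p • z) = p * mu J P z := by
  induction z using TensorProduct.induction_on with
  | zero => simp
  | tmul m j => rw [TensorProduct.smul_tmul', mu_tmul, mu_tmul, smul_eq_mul, mul_smul_comm]
  | add a b ha hb => simp [ha, hb, mul_add]

lemma mu_mem (z : P ⊗[R] ↥J) : mu J P z ∈ J.map (algebraMap R P) := by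
  induction z using TensorProduct.induction_on with
  | zero => simp
  | tmul m j => rw [mu_tmul, Algebra.smul_def]; exact Ideal.mul_mem_right _ _ (Ideal.mem_map_of_mem _ j.2)
  | add a b ha hb => simp [add_mem ha hb]

lemma exists_mu {y : P} (hy : y ∈ J.map (algebraMap R P)) : ∃ z, mu J P z = y := by
  refine Submodule.span_induction ?_ ⟨0, by simp⟩ ?_ ?_ hy
  · rintro _ ⟨j, hj, rfl⟩
    exact ⟨1 ⊗ₜ ⟨j, hj⟩, by rw [mu_tmul]; simp [Algebra.smul_def]⟩
  · rintro a b _ _ ⟨z, rfl⟩ ⟨w, rfl⟩; exact ⟨z + w, map_add _ _ _⟩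
  · rintro a b _ ⟨z, rfl⟩; exact ⟨a • z, by rw [mu_smul]; rfl⟩

variable (I : Ideal (P ⧸ J.map (algebraMap R P)))

/-- the reduced quotient -/
abbrev Bq : Type u := (P ⧸ J.map (algebraMap R P)) ⧸ I

/-- `P ⊗ J → B ⊗ J` -/
def psi : P ⊗[R] ↥J →ₗ[R] Bq J P I ⊗[R] ↥J :=
  LinearMap.rTensor ↥J (IsScalarTower.toAlgHom R P (Bq J P I)).toLinearMap

lemma psi_smul (p : P) (z : P ⊗[R] ↥J) : psi J P I (p • z) = p • psi J P I z := by
  induction z using TensorProduct.induction_on with
  | zero => simp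
  | tmul m j =>
    rw [TensorProduct.smul_tmul']
    simp only [psi, LinearMap.rTensor_tmul, TensorProduct.smul_tmul']
    congr 1
  | add a b ha hb => simp [ha, hb]

lemma psi_surjective : Function.Surjective (psi J P I) :=
  LinearMap.rTensor_surjective _ (fun x => by
    obtain ⟨y, rfl⟩ := Ideal.Quotient.mk_surjective x
    obtain ⟨p, rfl⟩ := Ideal.Quotient.mk_surjective y
    exact ⟨p, rfl⟩)

variable {J P I}

lemma toB_eq_zero {y : P} :
    IsScalarTower.toAlgHom R P (Bq J P I) y = 0 ↔ Ideal.Quotient.mk (J.map (algebraMap R P)) y ∈ I :=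
  Ideal.Quotient.eq_zero_iff_mem

/-- `K` reduces to `I` -/
def Lifts (I : Ideal (P ⧸ J.map (algebraMap R P))) (K : Ideal P) : Prop :=
  K.map (Ideal.Quotient.mk (J.map (algebraMap R P))) = I

lemma Lifts.mk_mem {K : Ideal P} (h : Lifts I K) {y : P} (hy : y ∈ K) :
    Ideal.Quotient.mk (J.map (algebraMap R P)) y ∈ I := h ▸ Ideal.mem_map_of_mem _ hy

lemma Lifts.exists_lift {K : Ideal P} (h : Lifts I K) {x : P ⧸ J.map (algebraMap R P)} (hx : x ∈ I) :
    ∃ y ∈ K, Ideal.Quotient.mk (J.map (algebraMap R P)) y = x :=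
  (Ideal.mem_map_iff_of_surjective _ Ideal.Quotient.mk_surjective).mp (h.symm ▸ hx)

/-- `P/K → B` -/
def Lifts.red {K : Ideal P} (h : Lifts I K) : (P ⧸ K) →ₐ[R] Bq J P I :=
  Ideal.Quotient.liftₐ K (IsScalarTower.toAlgHom R P (Bq J P I)) fun _ ha => toB_eq_zero.mpr (h.mk_mem ha)

lemma Lifts.red_mk {K : Ideal P} (h : Lifts I K) (y : P) :
    h.red (Ideal.Quotient.mk K y) = IsScalarTower.toAlgHom R P (Bq J P I) y := rfl

lemma Lifts.red_surjective {K : Ideal P} (h : Lifts I K) : Function.Surjective h.red := fun x => by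
  obtain ⟨y, rfl⟩ := Ideal.Quotient.mk_surjective x
  obtain ⟨p, rfl⟩ := Ideal.Quotient.mk_surjective y
  exact ⟨Ideal.Quotient.mk K p, rfl⟩

lemma Lifts.red_ker {K : Ideal P} (h : Lifts I K) (m : P ⧸ K) (hm : h.red m = 0) :
    m ∈ J • (⊤ : Submodule R (P ⧸ K)) := by
  obtain ⟨p, rfl⟩ := Ideal.Quotient.mk_surjective m
  rw [h.red_mk, toB_eq_zero] at hm
  obtain ⟨y, hy, e⟩ := h.exists_lift hm
  rw [Ideal.Quotient.eq] at e
  obtain ⟨z, hz⟩ := exists_mu J P e
  have e2 : Ideal.Quotient.mk K p = - Ideal.Quotient.mkₐ R K (mu J P z) := by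
    rw [Ideal.Quotient.mkₐ_eq_mk, hz, map_sub, Ideal.Quotient.eq_zero_iff_mem.mpr hy, zero_sub, neg_neg]
  rw [e2]
  refine Submodule.neg_mem _ ?_
  clear e2 hz
  induction z using TensorProduct.induction_on with
  | zero => simp
  | tmul a j => rw [mu_tmul, map_smul]; exact Submodule.smul_mem_smul j.2 trivial
  | add a b ha hb => rw [map_add, map_add]; exact add_mem ha hb

lemma Lifts.psi_eq {K : Ideal P} (h : Lifts I K) (z : P ⊗[R] ↥J) :
    psi J P I z = LinearMap.rTensor ↥J h.red.toLinearMap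
      (LinearMap.rTensor ↥J (Ideal.Quotient.mkₐ R K).toLinearMap z) := by
  rw [← LinearMap.rTensor_comp_apply]
  rfl

lemma Lifts.mu_mem_of_psi {K : Ideal P} (hJ : J * J = ⊥) (h : Lifts I K) {z : P ⊗[R] ↥J}
    (hz : psi J P I z = 0) : mu J P z ∈ K := by
  rw [h.psi_eq, map_eq_zero_iff _ (rTensor_injective J _ hJ _ h.red_surjective h.red_ker)] at hz
  have := mu_natural J P (Ideal.Quotient.mkₐ R K).toLinearMap z
  rw [hz, map_zero] at this
  exact Ideal.Quotient.eq_zero_iff_mem.mp this.symm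

lemma Lifts.psi_of_mu_mem {K : Ideal P} [Module.Flat R (P ⧸ K)] (h : Lifts I K) {z : P ⊗[R] ↥J}
    (hz : mu J P z ∈ K) : psi J P I z = 0 := by
  have e : LinearMap.rTensor ↥J (Ideal.Quotient.mkₐ R K).toLinearMap z = 0 := by
    apply mu_injective J (P ⧸ K)
    rw [mu_natural, map_zero]
    exact Ideal.Quotient.eq_zero_iff_mem.mpr hz
  rw [h.psi_eq, e, map_zero]

/-- the difference of two lifts is `φ` -/
def IsDiff (I' I'' : Ideal P) (φ : ↥I →ₗ[P] (Bq J P I ⊗[R] ↥J)) : Prop :=
  ∀ (x : (P ⧸ J.map (algebraMap R P))) (hx : x ∈ I) (x' x'' : P), x' ∈ I' → x'' ∈ I'' →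
    Ideal.Quotient.mk (J.map (algebraMap R P)) x' = x → Ideal.Quotient.mk (J.map (algebraMap R P)) x'' = x →
    ∀ z : P ⊗[R] ↥J, mu J P z = x'' - x' → psi J P I z = φ ⟨x, hx⟩

theorem existsUnique_diff [Module.Flat R P] {I' I'' : Ideal P} [Module.Flat R (P ⧸ I')] [Module.Flat R (P ⧸ I'')]
    (h' : Lifts I I') (h'' : Lifts I I'') : ∃! φ, IsDiff (J := J) (I := I) I' I'' φ := by
  classical
  have hex : ∀ x : ↥I, ∃ z : P ⊗[R] ↥J, ∃ a ∈ I', ∃ b ∈ I'', Ideal.Quotient.mk (J.map (algebraMap R P)) a = x ∧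
      Ideal.Quotient.mk (J.map (algebraMap R P)) b = x ∧ mu J P z = b - a := by
    intro x
    obtain ⟨a, ha, ea⟩ := h'.exists_lift x.2
    obtain ⟨b, hb, eb⟩ := h''.exists_lift x.2
    obtain ⟨z, hz⟩ := exists_mu J P (Ideal.Quotient.eq.mp (eb.trans ea.symm))
    exact ⟨z, a, ha, b, hb, ea, eb, hz⟩
  choose Z A hA B hB eA eB hZ using hex
  -- independence of the choices
  have key : ∀ (x : ↥I) (x' x'' : P), x' ∈ I' → x'' ∈ I'' →
      Ideal.Quotient.mk (J.map (algebraMap R P)) x' = x → Ideal.Quotient.mk (J.map (algebraMap R P)) x'' = x →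
      ∀ z, mu J P z = x'' - x' → psi J P I z = psi J P I (Z x) := by
    intro x x' x'' hx' hx'' e' e'' z hz
    obtain ⟨w, hw⟩ := exists_mu J P (Ideal.Quotient.eq.mp (e''.trans (eB x).symm))
    obtain ⟨v, hv⟩ := exists_mu J P (Ideal.Quotient.eq.mp (e'.trans (eA x).symm))
    have hz' : z = Z x + w - v := mu_injective J P (by rw [map_sub, map_add, hw, hv, hZ, hz]; ring)
    have h1 : psi J P I w = 0 := h''.psi_of_mu_mem (hw ▸ sub_mem hx'' (hB x))
    have h2 : psi J P I v = 0 := h'.psi_of_mu_mem (hv ▸ sub_mem hx' (hA x))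
    rw [hz', map_sub, map_add, h1, h2, add_zero, sub_zero]
  let φ : ↥I →ₗ[P] (Bq J P I ⊗[R] ↥J) :=
    { toFun := fun x => psi J P I (Z x)
      map_add' := fun x y => by
        rw [← map_add]
        refine (key (x + y) (A x + A y) (B x + B y) (add_mem (hA x) (hA y)) (add_mem (hB x) (hB y))
          (by simp [eA]) (by simp [eB]) _ ?_).symm
        rw [map_add, hZ, hZ]; ring
      map_smul' := fun p x => by
        rw [RingHom.id_apply, ← psi_smul]
        refine (key (p • x) (p * A x) (p * B x) (Ideal.mul_mem_left _ _ (hA x)) (Ideal.mul_mem_left _ _ (hB x))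
          ?_ ?_ _ ?_).symm
        · rw [map_mul, eA, Submodule.coe_smul_of_tower, Algebra.smul_def]; rfl
        · rw [map_mul, eB, Submodule.coe_smul_of_tower, Algebra.smul_def]; rfl
        · rw [mu_smul, hZ, mul_sub] }
  refine ⟨φ, fun x hx x' x'' h1 h2 e1 e2 z hz => key ⟨x, hx⟩ x' x'' h1 h2 e1 e2 z hz, fun φ' hφ' => ?_⟩
  ext x
  exact (hφ' x x.2 (A x) (B x) (hA x) (hB x) (eA x) (eB x) (Z x) (hZ x)).symm

theorem existsUnique_translate (hJ : J * J = ⊥) [Module.Flat R P] [Module.Flat (R ⧸ J) (Bq J P I)]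
    {I' : Ideal P} [Module.Flat R (P ⧸ I')] (h' : Lifts I I') (φ : ↥I →ₗ[P] (Bq J P I ⊗[R] ↥J)) :
    ∃! I'' : Ideal P, Module.Flat R (P ⧸ I'') ∧ Lifts I I'' ∧ IsDiff I' I'' φ := by
  classical
  let S : Ideal P :=
    { carrier := {y | ∃ a, ∃ ha : a ∈ I', ∃ z, psi J P I z = φ ⟨_, h'.mk_mem ha⟩ ∧ y = a + mu J P z}
      add_mem' := by
        rintro _ _ ⟨a, ha, z, hz, rfl⟩ ⟨b, hb, w, hw, rfl⟩
        refine ⟨a + b, add_mem ha hb, z + w, ?_, by rw [map_add]; ring⟩
        rw [map_add, hz, hw, ← map_add]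
        congr 1
      zero_mem' := ⟨0, zero_mem _, 0, by
        rw [map_zero]
        exact (φ.map_zero).symm.trans (congrArg φ (Subtype.ext (map_zero _).symm)), by simp⟩
      smul_mem' := by
        rintro p _ ⟨a, ha, z, hz, rfl⟩
        refine ⟨p * a, Ideal.mul_mem_left _ p ha, p • z, ?_, by rw [mu_smul, smul_eq_mul, mul_add]⟩
        rw [psi_smul, hz, ← map_smul]
        congr 1 }
  have hmk : ∀ z, Ideal.Quotient.mk (J.map (algebraMap R P)) (mu J P z) = 0 :=
    fun z => Ideal.Quotient.eq_zero_iff_mem.mpr (mu_mem J P z)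
  have hL : Lifts I S := by
    apply le_antisymm
    · rw [Ideal.map_le_iff_le_comap]
      rintro _ ⟨a, ha, z, -, rfl⟩
      rw [Ideal.mem_comap, map_add, hmk, add_zero]
      exact h'.mk_mem ha
    · intro x hx
      obtain ⟨a, ha, e⟩ := h'.exists_lift hx
      obtain ⟨z, hz⟩ := psi_surjective J P I (φ ⟨_, h'.mk_mem ha⟩)
      rw [Ideal.mem_map_iff_of_surjective _ Ideal.Quotient.mk_surjective]
      exact ⟨a + mu J P z, ⟨a, ha, z, hz, rfl⟩, by rw [map_add, hmk, add_zero, e]⟩
  have hkey : ∀ z, mu J P z ∈ S → psi J P I z = 0 := by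
    rintro z ⟨a, ha, w, hw, e⟩
    have ea : a = mu J P (z - w) := by rw [map_sub, e]; ring
    have e0 : psi J P I (z - w) = 0 := h'.psi_of_mu_mem (ea ▸ ha)
    have : (⟨_, h'.mk_mem ha⟩ : ↥I) = 0 := Subtype.ext ((congrArg _ ea).trans (hmk _))
    rw [map_sub, hw, this, map_zero, sub_zero] at e0
    exact e0
  have hflat : Module.Flat R (P ⧸ S) := by
    rw [Groth.Agent.S6000.result R J ⟨2, by rw [pow_two, hJ]; rfl⟩ (P ⧸ S)]
    constructor
    · let e0 : (P ⧸ S) →ₗ[R] Bq J P I := hL.red.toLinearMap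
      have hker : LinearMap.ker e0 = J • (⊤ : Submodule R (P ⧸ S)) := by
        apply le_antisymm (fun m hm => hL.red_ker m hm)
        refine Submodule.smul_le.mpr fun j hj m _ => ?_
        rw [LinearMap.mem_ker, map_smul]
        refine (Algebra.smul_def (A := Bq J P I) j (e0 m)).trans ?_
        have : algebraMap R (Bq J P I) j = 0 := by
          rw [IsScalarTower.algebraMap_apply R (P ⧸ J.map (algebraMap R P)) (Bq J P I)]
          have : algebraMap R (P ⧸ J.map (algebraMap R P)) j = 0 :=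
            Ideal.Quotient.eq_zero_iff_mem.mpr (Ideal.mem_map_of_mem _ hj)
          rw [this, map_zero]
        rw [this, zero_mul]
      let e : (R ⧸ J) ⊗[R] (P ⧸ S) ≃ₗ[R] Bq J P I :=
        (TensorProduct.quotTensorEquivQuotSMul (P ⧸ S) J) ≪≫ₗ (Submodule.quotEquivOfEq _ _ hker.symm) ≪≫ₗ
          (e0.quotKerEquivOfSurjective hL.red_surjective)
      exact Module.Flat.of_linearEquiv (e.extendScalarsOfSurjective Ideal.Quotient.mk_surjective)
    · have hinj : Function.Injective (mu J (P ⧸ S)) := by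
        rw [injective_iff_map_eq_zero]
        intro w hw
        obtain ⟨z, rfl⟩ := LinearMap.rTensor_surjective ↥J (g := (Ideal.Quotient.mkₐ R S).toLinearMap)
          Ideal.Quotient.mk_surjective w
        rw [mu_natural] at hw
        have h0 := hkey z (Ideal.Quotient.eq_zero_iff_mem.mp hw)
        rw [hL.psi_eq, map_eq_zero_iff _ (rTensor_injective J _ hJ _ hL.red_surjective hL.red_ker)] at h0
        exact h0
      have e : LinearMap.rTensor (P ⧸ S) J.subtype =
          (TensorProduct.comm R (P ⧸ S) R).toLinearMap ∘ₗ LinearMap.lTensor (P ⧸ S) J.subtype ∘ₗ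
            (TensorProduct.comm R (↥J) (P ⧸ S)).toLinearMap := by
        apply TensorProduct.ext'
        intro a b; rfl
      rw [e]
      simp only [LinearMap.coe_comp, LinearEquiv.coe_coe]
      exact (TensorProduct.comm R (P ⧸ S) R).injective.comp
        (((TensorProduct.rid R (P ⧸ S)).toEquiv.comp_injective _).mp hinj |>.comp (TensorProduct.comm R (↥J) (P ⧸ S)).injective)
  refine ⟨S, ⟨hflat, hL, ?_⟩, ?_⟩
  · rintro x hx x' x'' hx' ⟨a, ha, w, hw, rfl⟩ e' e'' z hz
    subst e'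
    rw [map_add, hmk, add_zero] at e''
    obtain ⟨v, hv⟩ := exists_mu J P (Ideal.Quotient.eq.mp e'')
    have e3 : z = v + w := mu_injective J P (by rw [map_add, hv, hz]; ring)
    have e4 : psi J P I v = 0 := h'.psi_of_mu_mem (hv ▸ sub_mem ha hx')
    rw [e3, map_add, e4, zero_add, hw]
    exact congrArg φ (Subtype.ext e'')
  · rintro T ⟨hT, hTL, hTd⟩
    apply le_antisymm
    · intro y hy
      obtain ⟨a, ha, e⟩ := h'.exists_lift (hTL.mk_mem hy)
      obtain ⟨z, hz⟩ := exists_mu J P (Ideal.Quotient.eq.mp e.symm)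
      exact ⟨a, ha, z, hTd _ (h'.mk_mem ha) a y ha hy rfl e.symm z hz, by rw [hz]; ring⟩
    · rintro _ ⟨a, ha, z, hz, rfl⟩
      obtain ⟨b, hb, e⟩ := hTL.exists_lift (h'.mk_mem ha)
      obtain ⟨w, hw⟩ := exists_mu J P (Ideal.Quotient.eq.mp e)
      have e2 : psi J P I (z - w) = 0 := by rw [map_sub, hz, hTd _ (h'.mk_mem ha) a b ha hb rfl e w hw, sub_self]
      have e3 := hTL.mu_mem_of_psi hJ e2
      have : a + mu J P z = b + mu J P (z - w) := by rw [map_sub, hw]; ring
      rw [this]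
      exact add_mem hb e3

end Groth.ArtfunDeform.IdealTorsor
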