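import Groth.Agent.ArtfunDeform.Schlessinger
import Mathlib.Algebra.Module.SpanRankOperations

/-!
Limits of surjective systems of Artinian rings with bounded cotangent dimension are coefficient rings.
-/

set_option autoImplicit false
set_option linter.style.haveILetI false
set_option linter.style.longLine false
set_option linter.unusedSectionVars false

universe u v

open CategoryTheory

namespace Groth.ArtfunDeform.LimitRing

open ArtFun ArtFun.Art

variable {Λ : Type u} {k : Type u} [CommRing Λ] [Field k] [Algebra Λ k]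

local notation "𝔪" => IsLocalRing.maximalIdeal

/-- A subalgebra that covers the residue field and generates the maximal ideal is everything. -/
theorem range_eq_top {P : Type u} [CommRing P] [Algebra Λ P] (A : Art Λ k) (ψ : P →ₐ[Λ] A)
    (hres : ∀ c : k, ∃ p, A.res (ψ p) = c) {ι : Type*} (x : ι → A) (hx : Ideal.span (Set.range x) = 𝔪 A)
    (hxψ : ∀ i, ∃ p, ψ p = x i) : Function.Surjective ψ := by
  have h0 : ∀ a : A, ∃ p, a - ψ p ∈ 𝔪 A := fun a => by
    obtain ⟨p, hp⟩ := hres (A.res a)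
    exact ⟨p, (A.mem_maximalIdeal_iff _).2 (by rw [map_sub, hp, sub_self])⟩
  have h1 : ∀ v ∈ 𝔪 A, ∃ p, ψ p ∈ 𝔪 A ∧ v - ψ p ∈ (𝔪 A) ^ 2 := by
    intro v hv
    rw [← hx] at hv
    refine Submodule.span_induction ?_ ?_ ?_ ?_ hv
    · rintro _ ⟨i, rfl⟩
      obtain ⟨p, hp⟩ := hxψ i
      exact ⟨p, hp ▸ hx ▸ Ideal.subset_span ⟨i, rfl⟩, by rw [hp, sub_self]; exact zero_mem _⟩
    · exact ⟨0, by simp, by simp⟩
    · rintro a b _ _ ⟨p, hp, hp'⟩ ⟨q, hq, hq'⟩
      exact ⟨p + q, by rw [map_add]; exact add_mem hp hq, by rw [map_add, add_sub_add_comm]; exact add_mem hp' hq'⟩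
    · rintro a b _ ⟨p, hp, hp'⟩
      obtain ⟨q, hq⟩ := h0 a
      refine ⟨q * p, by rw [map_mul]; exact Ideal.mul_mem_left _ _ hp, ?_⟩
      have e : a • b - ψ (q * p) = a * (b - ψ p) + (a - ψ q) * ψ p := by rw [map_mul, smul_eq_mul]; ring
      rw [e]
      exact add_mem (Ideal.mul_mem_left _ _ hp') (by rw [pow_two]; exact Ideal.mul_mem_mul hq hp)
  have h2 : ∀ j : ℕ, ∀ a ∈ (𝔪 A) ^ j, ∃ p, ψ p ∈ (𝔪 A) ^ j ∧ a - ψ p ∈ (𝔪 A) ^ (j + 1) := by
    intro j
    induction j with
    | zero =>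
      intro a _
      obtain ⟨p, hp⟩ := h0 a
      exact ⟨p, by simp, by simpa using hp⟩
    | succ j ih =>
      intro a ha
      rw [pow_succ] at ha
      refine Submodule.mul_induction_on ha ?_ ?_
      · intro u hu v hv
        obtain ⟨p, hp, hp'⟩ := ih u hu
        obtain ⟨q, hq, hq'⟩ := h1 v hv
        refine ⟨p * q, by rw [map_mul, pow_succ]; exact Ideal.mul_mem_mul hp hq, ?_⟩
        have e : u * v - ψ (p * q) = (u - ψ p) * v + ψ p * (v - ψ q) := by rw [map_mul]; ring
        rw [e]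
        refine add_mem ?_ ?_
        · rw [pow_succ]; exact Ideal.mul_mem_mul hp' hv
        · rw [show j + 1 + 1 = j + 2 by omega, pow_add]; exact Ideal.mul_mem_mul hp hq'
      · rintro a b ⟨p, hp, hp'⟩ ⟨q, hq, hq'⟩
        exact ⟨p + q, by rw [map_add]; exact add_mem hp hq, by rw [map_add, add_sub_add_comm]; exact add_mem hp' hq'⟩
  have h3 : ∀ j : ℕ, ∀ a : A, ∃ p, a - ψ p ∈ (𝔪 A) ^ j := by
    intro j
    induction j with
    | zero => intro a; exact ⟨0, by simp⟩
    | succ j ih =>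
      intro a
      obtain ⟨p, hp⟩ := ih a
      obtain ⟨q, -, hq⟩ := h2 j _ hp
      exact ⟨p + q, by rwa [map_add, ← sub_sub]⟩
  obtain ⟨N, hN⟩ := IsArtinianRing.isNilpotent_jacobson_bot (R := A)
  rw [IsLocalRing.jacobson_eq_maximalIdeal ⊥ bot_ne_top] at hN
  intro a
  obtain ⟨p, hp⟩ := h3 N a
  rw [hN] at hp
  exact ⟨p, (sub_eq_zero.1 (Submodule.mem_bot _ |>.1 hp)).symm⟩

variable (A : ℕ → Art Λ k) (f : ∀ n, A (n + 1) ⟶ A n) (hf : ∀ n, Function.Surjective (f n))

/-- minimal number of generators of the maximal ideal -/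
noncomputable def emb (n : ℕ) : ℕ := (𝔪 (A n)).spanFinrank

lemma exists_gens (n : ℕ) : ∃ x : Fin (emb A n) → A n, Ideal.span (Set.range x) = 𝔪 (A n) := by
  classical
  obtain ⟨s, hs, hspan⟩ := (IsNoetherian.noetherian (𝔪 (A n))).exists_span_finset_card_eq_spanFinrank
  refine ⟨fun i => ((s.equivFinOfCardEq hs).symm i : A n), ?_⟩
  conv_rhs => rw [← hspan]
  refine congrArg Ideal.span (Set.ext fun y => ⟨?_, fun hy => ⟨s.equivFinOfCardEq hs ⟨y, hy⟩, by simp⟩⟩)
  rintro ⟨i, rfl⟩
  exact ((s.equivFinOfCardEq hs).symm i).2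

lemma emb_le_of_span (n : ℕ) (s : Finset (A n)) (h : Ideal.span (s : Set (A n)) = 𝔪 (A n)) : emb A n ≤ s.card := by
  rw [emb, ← h]
  refine (Submodule.spanFinrank_span_le_ncard_of_finite s.finite_toSet).trans ?_
  rw [Set.ncard_coe_finset]

lemma map_mem (n : ℕ) {a : A (n + 1)} (ha : a ∈ 𝔪 (A (n + 1))) : f n a ∈ 𝔪 (A n) := by
  rw [mem_maximalIdeal_iff, res_app, ← mem_maximalIdeal_iff]; exact ha

lemma mem_of_map_mem (n : ℕ) {a : A (n + 1)} (ha : f n a ∈ 𝔪 (A n)) : a ∈ 𝔪 (A (n + 1)) := by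
  rw [mem_maximalIdeal_iff, res_app, ← mem_maximalIdeal_iff] at ha; exact ha

include hf in
lemma span_map (n : ℕ) {s : Set (A (n + 1))} (h : Ideal.span s = 𝔪 (A (n + 1))) :
    Ideal.span ((f n).toAlgHom '' s) = 𝔪 (A n) := by
  change Ideal.span ((f n).toAlgHom.toRingHom '' s) = _
  rw [← Ideal.map_span, h]
  refine le_antisymm (Ideal.map_le_iff_le_comap.2 fun a ha => map_mem A f n ha) fun b hb => ?_
  obtain ⟨a, rfl⟩ := hf n b
  exact Ideal.mem_map_of_mem (f n).toAlgHom.toRingHom (mem_of_map_mem A f n hb)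

include hf in
lemma emb_mono : Monotone (emb A) := monotone_nat_of_le_succ fun n => by
  classical
  obtain ⟨x, hx⟩ := exists_gens A (n + 1)
  have h := span_map A f hf n hx
  calc emb A n ≤ ((Finset.univ.image x).image (f n).toAlgHom).card :=
        emb_le_of_span A n _ (by rw [Finset.coe_image, Finset.coe_image, Finset.coe_univ, Set.image_univ]; exact h)
    _ ≤ (Finset.univ.image x).card := Finset.card_image_le
    _ ≤ emb A (n + 1) := Finset.card_image_le.trans (by simp)

include hf in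
/-- Once the embedding dimension is stable, any lifts of generators generate. -/
lemma span_lift {n : ℕ} (he : emb A (n + 1) = emb A n) {s : Set (A (n + 1))} (hs : s ⊆ 𝔪 (A (n + 1)))
    (h : Ideal.span ((f n).toAlgHom '' s) = 𝔪 (A n)) : Ideal.span s = 𝔪 (A (n + 1)) := by
  classical
  obtain ⟨z, hz⟩ := exists_gens A (n + 1)
  have hK : RingHom.ker (f n).toAlgHom ≤ 𝔪 (A (n + 1)) * 𝔪 (A (n + 1)) := by
    intro v hv
    have hv0 : f n v = 0 := hv
    have hvm : v ∈ 𝔪 (A (n + 1)) := mem_of_map_mem A f n (by rw [hv0]; exact zero_mem _)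
    rw [← hz, Ideal.mem_span_range_iff_exists_fun] at hvm
    obtain ⟨c, hc⟩ := hvm
    by_cases hcm : ∀ i, c i ∈ 𝔪 (A (n + 1))
    · rw [← hc]
      exact Ideal.sum_mem _ fun i _ => Ideal.mul_mem_mul (hcm i) (hz ▸ Ideal.subset_span ⟨i, rfl⟩)
    · exfalso
      push Not at hcm
      obtain ⟨i, hi⟩ := hcm
      let T : Finset (A n) := (Finset.univ.erase i).image (fun j => f n (z j))
      have hzi : ∀ j, f n (z j) ∈ Ideal.span (T : Set (A n)) := by
        intro j
        by_cases hji : j = i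
        · subst hji
          have h0 := congrArg (f n).toAlgHom hc
          rw [map_sum, hv0, ← Finset.add_sum_erase _ _ (Finset.mem_univ j)] at h0
          have hu : IsUnit ((f n).toAlgHom (c j)) := (IsLocalRing.notMem_maximalIdeal.1 hi).map _
          rw [add_eq_zero_iff_eq_neg, map_mul] at h0
          rw [← Ideal.unit_mul_mem_iff_mem _ hu, h0]
          refine neg_mem (Ideal.sum_mem _ fun l hl => ?_)
          rw [map_mul]
          exact Ideal.mul_mem_left _ _ (Ideal.subset_span (Finset.mem_image_of_mem _ hl))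
        · exact Ideal.subset_span (Finset.mem_image_of_mem _ (Finset.mem_erase.2 ⟨hji, Finset.mem_univ _⟩))
      have hT : Ideal.span (T : Set (A n)) = 𝔪 (A n) := by
        refine le_antisymm (Ideal.span_le.2 ?_) ?_
        · intro y hy
          obtain ⟨j, -, rfl⟩ := Finset.mem_image.1 hy
          exact map_mem A f n (hz ▸ Ideal.subset_span ⟨j, rfl⟩)
        · rw [← span_map A f hf n hz, Ideal.span_le]
          rintro _ ⟨_, ⟨j, rfl⟩, rfl⟩
          exact hzi j
      have hcard := emb_le_of_span A n T hT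
      have hTc : T.card ≤ emb A (n + 1) - 1 := Finset.card_image_le.trans (by simp)
      have := i.2
      omega
  refine le_antisymm (Ideal.span_le.2 hs) ?_
  refine Submodule.le_of_le_smul_of_le_jacobson_bot (IsNoetherian.noetherian _)
    (IsLocalRing.maximalIdeal_le_jacobson _) (fun a ha => ?_)
  have h1 : f n a ∈ (Ideal.span s).map (f n).toAlgHom.toRingHom := by
    rw [Ideal.map_span]
    exact h.symm ▸ map_mem A f n ha
  obtain ⟨b, hb, hb'⟩ := (Ideal.mem_map_iff_of_surjective _ (hf n)).1 h1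
  refine Submodule.mem_sup.2 ⟨b, hb, a - b, hK ?_, by ring⟩
  change (f n).toAlgHom (a - b) = 0
  rw [map_sub]
  exact sub_eq_zero.2 hb'.symm

include hf in
/-- A point over any finite level extends downwards compatibly. -/
lemma exists_below (ι : Type) : ∀ N, ∀ x : ι → A N, ∃ y : ∀ m, ι → A m,
    (∀ m < N, ∀ i, f m (y (m + 1) i) = y m i) ∧ y N = x := by
  intro N
  induction N with
  | zero =>
    intro x
    exact ⟨Function.update (fun _ _ => 0) 0 x, fun m hm => absurd hm (Nat.not_lt_zero m), Function.update_self ..⟩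
  | succ N ih =>
    intro x
    obtain ⟨y, hy, hyN⟩ := ih fun i => f N (x i)
    refine ⟨Function.update y (N + 1) x, fun m hm i => ?_, Function.update_self ..⟩
    rcases Nat.lt_succ_iff_lt_or_eq.1 hm with hm' | rfl
    · rw [Function.update_of_ne (by omega), Function.update_of_ne (by omega)]; exact hy m hm' i
    · rw [Function.update_self, Function.update_of_ne (by omega), hyN]

include hf in
/-- Compatible sequences generating all the maximal ideals, when the embedding dimension is bounded. -/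
lemma exists_compat_gens (d : ℕ) (hd : ∀ n, emb A n ≤ d) :
    ∃ (e : ℕ) (t : ∀ n, Fin e → A n), (∀ n i, f n (t (n + 1) i) = t n i) ∧
      ∀ n, Ideal.span (Set.range (t n)) = 𝔪 (A n) := by
  classical
  obtain ⟨n0, hn0⟩ : ∃ n0, ∀ n, n0 ≤ n → emb A n = emb A n0 := by
    obtain ⟨_, ⟨n0, rfl⟩, hmax⟩ := Set.exists_max_image (Set.range (emb A)) id
      ((Set.finite_Iic d).subset (by rintro _ ⟨n, rfl⟩; exact hd n)) (Set.range_nonempty _)
    exact ⟨n0, fun n hn => le_antisymm (hmax _ ⟨n, rfl⟩) (emb_mono A f hf hn)⟩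
  let e := emb A n0
  -- families which are compatible up to `n0 + j` and generate there
  let P : ℕ → (∀ m, Fin e → A m) → Prop := fun N y =>
    (∀ m < N, ∀ i, f m (y (m + 1) i) = y m i) ∧ Ideal.span (Set.range (y N)) = 𝔪 (A N)
  obtain ⟨x, hx⟩ := exists_gens A n0
  obtain ⟨y0, hy0, hy0'⟩ := exists_below A f hf (Fin e) n0 x
  have step : ∀ j y, P (n0 + j) y → ∃ y', P (n0 + (j + 1)) y' ∧ ∀ m, m ≤ n0 + j → y' m = y m := by
    rintro j y ⟨hy, hy'⟩
    choose z hz using fun i => hf (n0 + j) (y (n0 + j) i)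
    refine ⟨Function.update y (n0 + j + 1) z, ⟨fun m hm i => ?_, ?_⟩, fun m hm => Function.update_of_ne (by omega) ..⟩
    · rcases Nat.lt_succ_iff_lt_or_eq.1 (show m < (n0 + j) + 1 by omega) with hm' | rfl
      · rw [Function.update_of_ne (by omega), Function.update_of_ne (by omega)]; exact hy m hm' i
      · rw [Function.update_self, Function.update_of_ne (by omega)]; exact hz i
    · change Ideal.span (Set.range (Function.update y (n0 + j + 1) z (n0 + j + 1))) = 𝔪 (A (n0 + j + 1))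
      rw [Function.update_self]
      refine span_lift A f hf ((hn0 _ (by omega)).trans (hn0 _ (by omega)).symm) ?_ ?_
      · rintro _ ⟨i, rfl⟩
        refine mem_of_map_mem A f _ ?_
        rw [hz]
        exact hy' ▸ Ideal.subset_span ⟨i, rfl⟩
      · rw [← Set.range_comp, ← hy']
        exact congrArg _ (congrArg Set.range (funext hz))
  let Y : ∀ j, {y // P (n0 + j) y} := fun j => Nat.rec (motive := fun j => {y // P (n0 + j) y})
    ⟨y0, hy0, by change Ideal.span (Set.range (y0 n0)) = 𝔪 (A n0); rw [hy0']; exact hx⟩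
    (fun j y => ⟨(step j y.1 y.2).choose, (step j y.1 y.2).choose_spec.1⟩) j
  have hY : ∀ j m, m ≤ n0 + j → (Y (j + 1)).1 m = (Y j).1 m := fun j =>
    (step j (Y j).1 (Y j).2).choose_spec.2
  have hY' : ∀ j j' m, j ≤ j' → m ≤ n0 + j → (Y j').1 m = (Y j).1 m := by
    intro j j' m hj hm
    induction j', hj using Nat.le_induction with
    | base => rfl
    | succ j' hj ih => rw [hY j' m (by omega), ih]
  let t : ∀ n, Fin e → A n := fun n => (Y (n + 1)).1 n
  have hc : ∀ n i, f n (t (n + 1) i) = t n i := by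
    intro n i
    change f n ((Y (n + 1 + 1)).1 (n + 1) i) = (Y (n + 1)).1 n i
    rw [hY (n + 1) (n + 1) (by omega)]
    exact (Y (n + 1)).2.1 n (by omega) i
  refine ⟨e, t, hc, ?_⟩
  have htop : ∀ j, Ideal.span (Set.range (t (n0 + j))) = 𝔪 (A (n0 + j)) := by
    intro j
    change Ideal.span (Set.range ((Y (n0 + j + 1)).1 (n0 + j))) = _
    rw [hY' j (n0 + j + 1) (n0 + j) (by omega) le_rfl]
    exact (Y j).2.2
  have hdown : ∀ j n, n + j = n0 + n → Ideal.span (Set.range (t (n + j))) = 𝔪 (A (n + j)) := by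
    intro j n hj
    obtain rfl : j = n0 := by omega
    rw [Nat.add_comm n j]
    exact htop n
  intro n
  have hback : ∀ m, ∀ l, n + l = m → Ideal.span (Set.range (t m)) = 𝔪 (A m) → Ideal.span (Set.range (t n)) = 𝔪 (A n) := by
    intro m l
    induction l generalizing m with
    | zero => rintro rfl h; exact h
    | succ l ih =>
      rintro rfl h
      refine ih (n + l) rfl ?_
      rw [← span_map A f hf (n + l) h, ← Set.range_comp]
      exact congrArg _ (congrArg Set.range (funext fun i => (hc (n + l) i).symm))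
  exact hback (n0 + n) n0 (by omega) (htop n)

variable [IsNoetherianRing Λ] [Module.Finite Λ k]

include hf in
theorem exists_limit (d : ℕ) (hd : ∀ n, emb A n ≤ d) :
    ∃ (S : CRing Λ k) (π : ∀ n, HomSet S.carrier S.res (A n)),
      (∀ n, HomSet.map (f n) (π (n + 1)) = π n) ∧
      (∀ n, Function.Surjective (π n).1) ∧
      (∀ a : ∀ n, A n, (∀ n, f n (a (n + 1)) = a n) → ∃! s : S.carrier, ∀ n, (π n).1 s = a n) ∧
      (∀ n, ∃ N, RingHom.ker (π N).1 ≤ IsLocalRing.maximalIdeal S.carrier ^ n) ∧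
      (∀ n, ∃ N, IsLocalRing.maximalIdeal S.carrier ^ N ≤ RingHom.ker (π n).1) := by
  classical
  obtain ⟨e, t, htc, htg⟩ := exists_compat_gens A f hf d hd
  obtain ⟨r, q, hq⟩ := Algebra.FiniteType.iff_quotient_mvPolynomial''.1 (inferInstance : Algebra.FiniteType Λ k)
  -- compatible lifts of generators of `k`
  choose u0 hu0 using fun i : Fin r => (A 0).res_surjective (q (MvPolynomial.X i))
  choose up hup using fun (n : ℕ) (a : A n) => hf n a
  let u : ∀ n, Fin r → A n := fun n => Nat.rec (motive := fun n => Fin r → A n) u0 (fun n v i => up n (v i)) n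
  have huc : ∀ n i, f n (u (n + 1) i) = u n i := fun n i => hup n (u n i)
  have hur : ∀ n i, (A n).res (u n i) = q (MvPolynomial.X i) := by
    intro n
    induction n with
    | zero => exact hu0
    | succ n ih => intro i; rw [← res_app (f n), huc, ih]
  let P0 := MvPolynomial (Fin r ⊕ Fin e) Λ
  let g : ∀ n, Fin r ⊕ Fin e → A n := fun n => Sum.elim (u n) (t n)
  let π0 : P0 →ₐ[Λ] k := MvPolynomial.aeval (Sum.elim (fun i => q (MvPolynomial.X i)) 0)
  have hqπ : ∀ p, π0 (MvPolynomial.rename Sum.inl p) = q p := fun p => by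
    rw [MvPolynomial.aeval_rename]
    exact (congrArg (fun φ : _ →ₐ[Λ] k => φ p) (MvPolynomial.algHom_ext (g := q) fun i => by simp)).trans rfl
  have hπ0 : Function.Surjective π0 := fun c => (hq c).elim fun p hp => ⟨_, (hqπ p).trans hp⟩
  have hgres : ∀ n, (A n).res.comp (MvPolynomial.aeval (g n)) = π0 := fun n => MvPolynomial.algHom_ext fun i => by
    rcases i with i | i
    · simp [g, π0, hur]
    · have : t n i ∈ 𝔪 (A n) := htg n ▸ Ideal.subset_span ⟨i, rfl⟩
      simp [g, π0, ((A n).mem_maximalIdeal_iff _).1 this]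
  let ψ : ∀ n, HomSet P0 π0 (A n) := fun n => ⟨MvPolynomial.aeval (g n), hgres n⟩
  have hψc : ∀ n, (f n).toAlgHom.comp (ψ (n + 1)).1 = (ψ n).1 := fun n => MvPolynomial.algHom_ext fun i => by
    rcases i with i | i
    · simpa [ψ, g] using huc n i
    · simpa [ψ, g] using htc n i
  have hψs : ∀ n, Function.Surjective (ψ n).1 := fun n => by
    refine range_eq_top (A n) (ψ n).1 (fun c => ?_) (t n) (htg n) (fun i => ⟨MvPolynomial.X (.inr i), (MvPolynomial.aeval_X (g n) (.inr i)).trans rfl⟩)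
    obtain ⟨p, rfl⟩ := hπ0 c
    exact ⟨p, congrArg (fun φ : P0 →ₐ[Λ] k => φ p) (hgres n)⟩
  obtain ⟨C, ι, hι, hC⟩ := exists_cring_completion π0 hπ0
  choose φ hφ hφu using fun n => hC (A n) (ψ n)
  have hφc : ∀ n, HomSet.map (f n) (φ (n + 1)) = φ n := fun n => by
    refine hφu n _ ?_
    change ((f n).toAlgHom.comp (φ (n + 1)).1).comp ι = (ψ n).1
    rw [AlgHom.comp_assoc, hφ, hψc]
  have hφs : ∀ n, Function.Surjective (φ n).1 := fun n a => by
    obtain ⟨p, hp⟩ := hψs n a
    exact ⟨ι p, (congrArg (fun h : P0 →ₐ[Λ] A n => h p) (hφ n)).trans hp⟩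
  haveI : IsAdicComplete (𝔪 C.carrier) C.carrier := C.isAdicComplete
  let J : ℕ → Ideal C.carrier := fun n => RingHom.ker (φ n).1
  have hJ : Antitone J := antitone_nat_of_succ_le fun n a ha => by
    change (φ n).1 a = 0
    rw [← hφc n]
    change f n ((φ (n + 1)).1 a) = 0
    rw [show (φ (n + 1)).1 a = 0 from ha]; exact map_zero (f n).toAlgHom
  let K : Ideal C.carrier := ⨅ n, J n
  have hKm : K ≤ 𝔪 C.carrier := (iInf_le J 0).trans (IsLocalRing.le_maximalIdeal (RingHom.ker_ne_top _))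
  haveI : Nontrivial (C.carrier ⧸ K) :=
    Ideal.Quotient.nontrivial_iff.2 fun h => (IsLocalRing.maximalIdeal.isMaximal C.carrier).ne_top (top_le_iff.1 (h ▸ hKm))
  haveI : IsLocalRing (C.carrier ⧸ K) := IsLocalRing.of_surjective' (Ideal.Quotient.mk K) Ideal.Quotient.mk_surjective
  have hφ0 : ∀ a ∈ K, C.res a = 0 := fun a ha => by
    rw [← homSet_res (φ 0), show (φ 0).1 a = 0 from (Ideal.mem_iInf.1 ha) 0, map_zero]
  let S : CRing Λ k :=
    { carrier := C.carrier ⧸ K
      res := Ideal.Quotient.liftₐ K C.res hφ0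
      res_surjective := fun c => (C.res_surjective c).elim fun a ha => ⟨Ideal.Quotient.mk K a, ha⟩
      isAdicComplete := isAdicComplete_of_surjective (Ideal.Quotient.mk K) Ideal.Quotient.mk_surjective }
  let πS : ∀ n, HomSet S.carrier S.res (A n) := fun n =>
    ⟨Ideal.Quotient.liftₐ K (φ n).1 (fun a ha => (Ideal.mem_iInf.1 ha) n), Ideal.Quotient.algHom_ext Λ (by
      apply AlgHom.ext
      intro a
      exact homSet_res (φ n) a)⟩
  haveI : IsAdicComplete (𝔪 S.carrier) S.carrier := S.isAdicComplete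
  have hmS : ∀ N, (𝔪 C.carrier ^ N).map (Ideal.Quotient.mk K) = 𝔪 S.carrier ^ N := fun N => by
    rw [Ideal.map_pow]
    congr 1
    refine le_antisymm (Ideal.map_le_iff_le_comap.2 fun a ha => ?_) fun b hb => ?_
    · change Ideal.Quotient.mk K a ∈ IsLocalRing.maximalIdeal S.carrier
      intro hu
      obtain ⟨c, hc⟩ := Ideal.Quotient.mk_surjective (↑hu.unit⁻¹ : C.carrier ⧸ K)
      have h1 : a * c - 1 ∈ 𝔪 C.carrier := hKm (Ideal.Quotient.eq.1 (by rw [map_mul, hc, map_one]; exact hu.mul_val_inv))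
      exact (IsLocalRing.maximalIdeal.isMaximal C.carrier).ne_top ((Ideal.eq_top_iff_one _).2 (by
        simpa using sub_mem (Ideal.mul_mem_right c _ ha) h1))
    · obtain ⟨a, rfl⟩ := Ideal.Quotient.mk_surjective b
      exact Ideal.mem_map_of_mem _ fun hu => hb (hu.map (Ideal.Quotient.mk K))
  have hkerle : ∀ N, ∃ q, ∀ q', q ≤ q' → RingHom.ker (πS q').1 ≤ 𝔪 S.carrier ^ N := fun N => by
    obtain ⟨q, hq⟩ := chevalley J hJ (fun M => by
      rcases M with _ | M
      · rw [pow_zero, Ideal.one_eq_top]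
        haveI : Subsingleton (C.carrier ⧸ (⊤ : Ideal C.carrier)) := Ideal.Quotient.subsingleton_iff.2 rfl
        infer_instance
      · exact CRing.isArtinianRing_quot_mpow C M) N
    refine ⟨q, fun q' hq' x hx => ?_⟩
    obtain ⟨a, rfl⟩ := Ideal.Quotient.mk_surjective x
    obtain ⟨b, hb, c, hc, rfl⟩ := Submodule.mem_sup.1 (hq (hJ hq' (show a ∈ J q' from hx)))
    rw [map_add, Ideal.Quotient.eq_zero_iff_mem.2 hb, zero_add, ← hmS]
    exact Ideal.mem_map_of_mem _ hc
  have hpowle : ∀ n, ∃ N, 𝔪 S.carrier ^ N ≤ RingHom.ker (πS n).1 := fun n => by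
    obtain ⟨N, hN⟩ := IsArtinianRing.isNilpotent_jacobson_bot (R := A n)
    rw [IsLocalRing.jacobson_eq_maximalIdeal ⊥ bot_ne_top] at hN
    refine ⟨N, fun x hx => ?_⟩
    have h1 : (𝔪 S.carrier).map (πS n).1.toRingHom ≤ 𝔪 (A n) := Ideal.map_le_iff_le_comap.2 fun y hy => by
      rw [Ideal.mem_comap, mem_maximalIdeal_iff]
      change (A n).res ((πS n).1 y) = 0
      rw [homSet_res (πS n)]
      exact (CRing.mem_maximalIdeal_iff S y).1 hy
    have h2 := Ideal.mem_map_of_mem (πS n).1.toRingHom hx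
    rw [Ideal.map_pow] at h2
    have h3 := Ideal.pow_right_mono h1 N h2
    rw [hN] at h3
    exact h3
  have hsurj : ∀ n, Function.Surjective (πS n).1 := fun n a => (hφs n a).elim fun p hp => ⟨Ideal.Quotient.mk K p, hp⟩
  refine ⟨S, πS, fun n => homSet_ext fun x => ?_, hsurj, ?_, fun n => (hkerle n).elim fun q hq => ⟨q, hq q le_rfl⟩, hpowle⟩
  · obtain ⟨a, rfl⟩ := Ideal.Quotient.mk_surjective x
    exact congrArg (fun h : HomSet C.carrier C.res (A n) => h.1 a) (hφc n)
  intro a ha
  have hdown : ∀ {m M}, m ≤ M → ∀ x, (πS M).1 x = a M → (πS m).1 x = a m := by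
    intro m M hmM
    induction M, hmM using Nat.le_induction with
    | base => exact fun x hx => hx
    | succ M _ ih =>
      intro x hx
      refine ih x ?_
      obtain ⟨b, rfl⟩ := Ideal.Quotient.mk_surjective x
      rw [← ha M, ← hx]
      exact (congrArg (fun h : HomSet C.carrier C.res (A M) => h.1 b) (hφc M)).symm
  choose Q hQ using hkerle
  let Q' : ℕ → ℕ := fun i => i + ∑ j ∈ Finset.range (i + 1), Q j
  have hQ' : ∀ i j, i ≤ j → Q i ≤ Q' j := fun i j hij =>
    (Finset.single_le_sum (f := Q) (fun _ _ => Nat.zero_le _) (Finset.mem_range.2 (Nat.lt_succ_of_le hij))).trans (Nat.le_add_left _ _)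
  choose s hs using fun i => hsurj (Q' i) (a (Q' i))
  have hmon : ∀ i j, i ≤ j → Q' i ≤ Q' j := fun i j hij =>
    Nat.add_le_add hij (Finset.sum_le_sum_of_subset (Finset.range_mono (Nat.succ_le_succ hij)))
  have hcauchy : ∀ {i j}, i ≤ j → s j - s i ∈ 𝔪 S.carrier ^ i := fun {i j} hij => by
    refine hQ i (Q' i) (hQ' i i le_rfl) ?_
    change (πS (Q' i)).1 (s j - s i) = 0
    rw [map_sub, hdown (hmon i j hij) _ (hs j), hs, sub_self]
  obtain ⟨L, hL⟩ := IsPrecomplete.prec' (I := 𝔪 S.carrier) (M := S.carrier) s (fun {i j} hij => by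
    rw [SModEq.sub_mem, smul_eq_mul, Ideal.mul_top, ← neg_sub, Ideal.neg_mem_iff]
    exact hcauchy hij)
  refine ⟨L, fun n => ?_, fun L' hL' => ?_⟩
  · obtain ⟨N, hN⟩ := hpowle n
    have h1 : s (max N n) - L ∈ 𝔪 S.carrier ^ N := by
      have := hL (max N n)
      rw [SModEq.sub_mem, smul_eq_mul, Ideal.mul_top] at this
      exact Ideal.pow_le_pow_right (le_max_left N n) this
    have h2 : (πS n).1 (s (max N n) - L) = 0 := hN h1
    rw [map_sub, hdown ((le_max_right N n).trans (Nat.le_add_right _ _)) _ (hs _), sub_eq_zero] at h2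
    exact h2.symm
  · refine (IsHausdorff.eq_iff_smodEq (I := 𝔪 S.carrier)).2 fun i => ?_
    rw [SModEq.sub_mem, smul_eq_mul, Ideal.mul_top]
    have h1 : L' - s i ∈ 𝔪 S.carrier ^ i := by
      refine hQ i (Q' i) (hQ' i i le_rfl) ?_
      change (πS (Q' i)).1 (L' - s i) = 0
      rw [map_sub, hL', hs, sub_self]
    have h2 := hL i
    rw [SModEq.sub_mem, smul_eq_mul, Ideal.mul_top] at h2
    simpa using add_mem h1 h2

end Groth.ArtfunDeform.LimitRing
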