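import Groth.Agent.ArtfunDeform.SmoothPS
import Groth.Agent.ArtfunDeform.Hulls
import Mathlib.LinearAlgebra.Projection
import Mathlib.RingTheory.Artinian.Module

/-!
Every versal family is the pushforward of a minimal versal family along a power series extension.

The Fitting projections of an endomorphism fixing a versal family assemble to an idempotent endomorphism
fixing it; a retraction with maximal kernel is minimal versal.
-/

set_option autoImplicit false
set_option linter.style.haveILetI false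
set_option linter.style.longLine false
set_option linter.unusedSectionVars false

universe u v

open CategoryTheory

namespace Groth.ArtfunDeform

open ArtFun ArtFun.Art

variable {Λ : Type u} {k : Type u} [CommRing Λ] [Field k] [Algebra Λ k]

local notation "𝔪" => IsLocalRing.maximalIdeal

section Fitting

variable [Module.Finite Λ k] {A : Art Λ k} (f : A ⟶ A)

lemma iterate_map_mul' (n : ℕ) (a b : A) : f^[n] (a * b) = f^[n] a * f^[n] b := by
  induction n with
  | zero => rfl
  | succ n ih => rw [Function.iterate_succ_apply', Function.iterate_succ_apply', Function.iterate_succ_apply', ih, map_mul]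

lemma iterate_algebraMap (n : ℕ) (r : Λ) : f^[n] (algebraMap Λ A r) = algebraMap Λ A r := by
  induction n with
  | zero => rfl
  | succ n ih => rw [Function.iterate_succ_apply', ih, AlgHom.commutes]

lemma res_iterate (n : ℕ) (a : A) : A.res (f^[n] a) = A.res a := by
  induction n with
  | zero => rfl
  | succ n ih => rw [Function.iterate_succ_apply', res_app, ih]

/-- elements killed by some iterate -/
noncomputable def fitK : Submodule Λ A := ⨆ n, LinearMap.ker (f.toAlgHom.toLinearMap ^ n)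

/-- elements in the range of every iterate -/
noncomputable def fitI : Submodule Λ A := ⨅ n, LinearMap.range (f.toAlgHom.toLinearMap ^ n)

lemma mem_fitK {x : A} : x ∈ fitK f ↔ ∃ n, f^[n] x = 0 := by
  have hd : Directed (· ≤ ·) fun n => LinearMap.ker (f.toAlgHom.toLinearMap ^ n) :=
    f.toAlgHom.toLinearMap.iterateKer.monotone.directed_le
  rw [fitK, Submodule.mem_iSup_of_directed _ hd]
  simp [Module.End.pow_apply]

lemma mem_fitI {x : A} : x ∈ fitI f ↔ ∀ n, ∃ y, f^[n] y = x := by
  simp [fitI, Module.End.pow_apply]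

lemma fit_isCompl : IsCompl (fitI f) (fitK f) := by
  haveI := (isFiniteLength_iff_isNoetherian_isArtinian.1 (isFiniteLength_art (Λ := Λ) A)).1
  haveI := (isFiniteLength_iff_isNoetherian_isArtinian.1 (isFiniteLength_art (Λ := Λ) A)).2
  exact (LinearMap.isCompl_iSup_ker_pow_iInf_range_pow f.toAlgHom.toLinearMap).symm

/-- the Fitting projection -/
noncomputable def fitFun : A →ₗ[Λ] A := (fitI f).projection (fitK f) (fit_isCompl f)

lemma fitFun_mem (x : A) : fitFun f x ∈ fitI f := Submodule.projection_apply_mem _ x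

lemma sub_fitFun_mem (x : A) : x - fitFun f x ∈ fitK f := Submodule.sub_projection_mem _ x

lemma fitFun_unique {x w : A} (h1 : w ∈ fitI f) (h2 : x - w ∈ fitK f) : fitFun f x = w := by
  have h3 : fitFun f x - w ∈ fitI f ⊓ fitK f := ⟨sub_mem (fitFun_mem f x) h1, by
    have h4 := sub_mem h2 (sub_fitFun_mem f x)
    simpa using h4⟩
  rw [(fit_isCompl f).disjoint.eq_bot, Submodule.mem_bot, sub_eq_zero] at h3
  exact h3

/-- the Fitting projection, as a morphism -/
noncomputable def fitHom : A ⟶ A :=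
  ⟨AlgHom.ofLinearMap (fitFun f)
    (fitFun_unique f ((mem_fitI f).2 fun n => ⟨1, by simpa using iterate_algebraMap f n 1⟩) (by simp))
    (fun x y => fitFun_unique f
      ((mem_fitI f).2 fun n => by
        obtain ⟨a, ha⟩ := (mem_fitI f).1 (fitFun_mem f x) n
        obtain ⟨b, hb⟩ := (mem_fitI f).1 (fitFun_mem f y) n
        exact ⟨a * b, by rw [iterate_map_mul', ha, hb]⟩)
      (by
        have e : x * y - fitFun f x * fitFun f y = (x - fitFun f x) * y + fitFun f x * (y - fitFun f y) := by ring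
        rw [e]
        refine add_mem ?_ ?_
        · obtain ⟨n, hn⟩ := (mem_fitK f).1 (sub_fitFun_mem f x)
          exact (mem_fitK f).2 ⟨n, by rw [iterate_map_mul', hn, zero_mul]⟩
        · obtain ⟨n, hn⟩ := (mem_fitK f).1 (sub_fitFun_mem f y)
          exact (mem_fitK f).2 ⟨n, by rw [iterate_map_mul', hn, mul_zero]⟩)),
    AlgHom.ext fun x => by
      obtain ⟨n, hn⟩ := (mem_fitK f).1 (sub_fitFun_mem f x)
      have h1 := res_iterate f n (x - fitFun f x)
      rw [hn, map_zero, map_sub, eq_comm, sub_eq_zero] at h1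
      exact h1.symm⟩

lemma fitHom_apply (x : A) : fitHom f x = fitFun f x := rfl

lemma fitHom_fix {F : Art Λ k ⥤ Type v} (x : F.obj A) (hx : F.map f x = x) : F.map (fitHom f) x = x := by
  haveI := (isFiniteLength_iff_isNoetherian_isArtinian.1 (isFiniteLength_art (Λ := Λ) A)).2
  obtain ⟨N, hN⟩ := Filter.eventually_atTop.1 (LinearMap.eventually_iInf_range_pow_eq f.toAlgHom.toLinearMap)
  let E : ℕ → (A ⟶ A) := fun n => Nat.rec (𝟙 A) (fun _ g => g ≫ f) n
  have hE : ∀ n a, E n a = f^[n] a := by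
    intro n
    induction n with
    | zero => intro a; rfl
    | succ n ih =>
      intro a
      rw [Function.iterate_succ_apply', ← ih a]
      rfl
  have hEx : ∀ n, F.map (E n) x = x := by
    intro n
    induction n with
    | zero => exact FunctorToTypes.map_id_apply F x
    | succ n ih => exact (FunctorToTypes.map_comp_apply F (E n) f x).trans (by rw [ih, hx])
  have h : E N ≫ fitHom f = E N := Art.hom_ext (AlgHom.ext fun a => by
    change fitFun f (E N a) = E N a
    refine fitFun_unique f ?_ (by simp)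
    change _ ∈ (⨅ m, LinearMap.range (f.toAlgHom.toLinearMap ^ m))
    rw [hN N le_rfl, hE]
    exact ⟨a, Module.End.pow_apply _ _ _⟩)
  conv_lhs => rw [← hEx N]
  rw [← FunctorToTypes.map_comp_apply, h, hEx]

end Fitting

section Retract

variable [IsNoetherianRing Λ] [Module.Finite Λ k] {F : Art Λ k ⥤ Type v}

/-- An endomorphism fixing a family yields an idempotent one fixing it, with image in the closure of the image. -/
theorem exists_idem (R : CRing Λ k) (ξ : Family R.carrier R.res F) (e : R.carrier →ₐ[Λ] R.carrier)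
    (he : R.res.comp e = R.res) (hξ : ξ.along e he = ξ) :
    ∃ (ε : R.carrier →ₐ[Λ] R.carrier) (hε : R.res.comp ε = R.res), ξ.along ε hε = ξ ∧ (∀ x, ε (ε x) = ε x) ∧
      (∀ x, e x = 0 → ε x = 0) ∧ ∀ n x, ∃ y, ε x - e y ∈ 𝔪 R.carrier ^ (n + 1) := by
  let en : ∀ n, R.trunc n ⟶ R.trunc n := fun n => CRing.truncMapOfHom e he n
  have hen : ∀ n x, en n ((R.truncHom n).1 x) = (R.truncHom n).1 (e x) := fun n x => rfl
  have henc : ∀ n (a : R.trunc (n + 1)), R.truncMap n (en (n + 1) a) = en n (R.truncMap n a) := fun n a => by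
    obtain ⟨x, rfl⟩ := truncHom_surjective R (n + 1) a
    rfl
  have hiter : ∀ n m (a : R.trunc (n + 1)), R.truncMap n ((en (n + 1))^[m] a) = (en n)^[m] (R.truncMap n a) := by
    intro n m
    induction m with
    | zero => intro a; rfl
    | succ m ih => intro a; rw [Function.iterate_succ_apply', Function.iterate_succ_apply', henc, ih]
  let φ : ∀ n, HomSet R.carrier R.res (R.trunc n) := fun n => HomSet.map (fitHom (en n)) (R.truncHom n)
  have hφ : ∀ n, HomSet.map (R.truncMap n) (φ (n + 1)) = φ n := fun n => homSet_ext fun x => by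
    change R.truncMap n (fitFun (en (n + 1)) ((R.truncHom (n + 1)).1 x)) = fitFun (en n) ((R.truncHom n).1 x)
    symm
    refine fitFun_unique _ ((mem_fitI _).2 fun m => ?_) ((mem_fitK _).2 ?_)
    · obtain ⟨y, hy⟩ := (mem_fitI _).1 (fitFun_mem (en (n + 1)) ((R.truncHom (n + 1)).1 x)) m
      exact ⟨R.truncMap n y, by rw [← hiter, hy]⟩
    · obtain ⟨m, hm⟩ := (mem_fitK _).1 (sub_fitFun_mem (en (n + 1)) ((R.truncHom (n + 1)).1 x))
      refine ⟨m, ?_⟩
      have h1 := congrArg (R.truncMap n).toAlgHom hm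
      rw [map_zero, hiter, map_sub] at h1
      rw [← h1]
      rfl
  obtain ⟨ε, hε, hεn⟩ := exists_hom_of_truncs φ hφ
  have hεx : ∀ n x, (R.truncHom n).1 (ε x) = fitFun (en n) ((R.truncHom n).1 x) := fun n x =>
    congrArg (fun t : HomSet R.carrier R.res (R.trunc n) => t.1 x) (hεn n)
  have hzero : ∀ x, (∀ n, (R.truncHom n).1 x = 0) → x = 0 := fun x hx => by
    haveI := R.isAdicComplete
    refine IsHausdorff.haus' (I := 𝔪 R.carrier) x fun n => ?_
    rw [SModEq.sub_mem, sub_zero, smul_eq_mul, Ideal.mul_top]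
    exact Ideal.pow_le_pow_right (Nat.le_succ n) ((truncHom_eq_zero_iff R n x).1 (hx n))
  refine ⟨ε, hε, ?_, fun x => ?_, fun x hx => ?_, fun n x => ?_⟩
  · refine toFormalElt_injective (FormalElt.ext' fun n => ?_)
    rw [along_toFormalElt, hεn]
    change ξ.app _ (HomSet.map (fitHom (en n)) (R.truncHom n)) = ξ.app _ (R.truncHom n)
    rw [ξ.natural]
    refine fitHom_fix _ _ ?_
    rw [← ξ.natural]
    exact congrArg (fun t : Family R.carrier R.res F => t.app _ (R.truncHom n)) hξ
  · rw [← sub_eq_zero]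
    refine hzero _ fun n => ?_
    rw [map_sub, hεx n (ε x), hεx n x, sub_eq_zero]
    exact fitFun_unique _ (fitFun_mem _ _) (by simp)
  · refine hzero _ fun n => ?_
    rw [hεx]
    refine fitFun_unique _ (zero_mem _) ((mem_fitK _).2 ⟨1, ?_⟩)
    rw [sub_zero, Function.iterate_one, hen, hx, map_zero]
  · obtain ⟨y, hy⟩ := (mem_fitI _).1 (fitFun_mem (en n) ((R.truncHom n).1 x)) 1
    obtain ⟨y, rfl⟩ := truncHom_surjective R n y
    rw [Function.iterate_one, hen, ← hεx] at hy
    exact ⟨y, (truncHom_eq_zero_iff R n _).1 (by rw [map_sub, ← hy, sub_self])⟩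

/-- A versal family is induced from a minimal versal one, split off by a retraction. -/
theorem exists_minimalVersal_retract (h0 : H0 F) (R : CRing Λ k) (ξ : Family R.carrier R.res F) (hξ : IsVersal ξ) :
    ∃ (R' : CRing Λ k) (ξ' : Family R'.carrier R'.res F) (q : R.carrier →ₐ[Λ] R'.carrier) (hq : R'.res.comp q = R.res)
      (g : R'.carrier →ₐ[Λ] R.carrier) (hg : R.res.comp g = R'.res),
      ξ'.IsMinimalVersal ∧ ξ.along q hq = ξ' ∧ ξ'.along g hg = ξ ∧ ∀ x, q (g x) = x := by
  classical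
  haveI := R.isAdicComplete
  let S : Set (Ideal R.carrier) := {J | ∃ (ε : R.carrier →ₐ[Λ] R.carrier) (hε : R.res.comp ε = R.res),
    ξ.along ε hε = ξ ∧ (∀ x, ε (ε x) = ε x) ∧ RingHom.ker ε = J}
  have hid : R.res.comp (AlgHom.id Λ R.carrier) = R.res := AlgHom.comp_id _
  obtain ⟨J, ⟨ε, hε, hεξ, hεε, hεJ⟩, hmax⟩ := (wellFounded_gt : WellFounded ((· > ·) : Ideal R.carrier → Ideal R.carrier → Prop)).has_min S
    ⟨_, AlgHom.id Λ R.carrier, hid, rfl, fun _ => rfl, rfl⟩
  have hJres : ∀ a ∈ J, R.res a = 0 := fun a ha => by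
    rw [← hε]
    change R.res (ε a) = 0
    rw [show ε a = 0 by rw [← hεJ] at ha; exact ha, map_zero]
  have hJm : J ≤ 𝔪 R.carrier := fun a ha => (CRing.mem_maximalIdeal_iff R a).2 (hJres a ha)
  haveI : Nontrivial (R.carrier ⧸ J) :=
    Ideal.Quotient.nontrivial_iff.2 fun h => (IsLocalRing.maximalIdeal.isMaximal R.carrier).ne_top (top_le_iff.1 (h ▸ hJm))
  haveI : IsLocalRing (R.carrier ⧸ J) := IsLocalRing.of_surjective' (Ideal.Quotient.mk J) Ideal.Quotient.mk_surjective
  let R' : CRing Λ k :=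
    { carrier := R.carrier ⧸ J
      res := Ideal.Quotient.liftₐ J R.res hJres
      res_surjective := fun c => (R.res_surjective c).elim fun a ha => ⟨Ideal.Quotient.mk J a, ha⟩
      isAdicComplete := isAdicComplete_of_surjective (Ideal.Quotient.mk J) Ideal.Quotient.mk_surjective }
  let q : R.carrier →ₐ[Λ] R'.carrier := Ideal.Quotient.mkₐ Λ J
  have hqs : Function.Surjective q := Ideal.Quotient.mk_surjective
  have hq : R'.res.comp q = R.res := AlgHom.ext fun _ => rfl
  let g : R'.carrier →ₐ[Λ] R.carrier := Ideal.Quotient.liftₐ J ε fun a ha => by rw [← hεJ] at ha; exact ha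
  have hgq : ∀ x, g (q x) = ε x := fun x => rfl
  have hg : R.res.comp g = R'.res := AlgHom.ext fun x => by
    obtain ⟨x, rfl⟩ := hqs x
    exact congrArg (fun t : R.carrier →ₐ[Λ] k => t x) hε
  have hqg : ∀ x, q (g x) = x := fun x => by
    obtain ⟨x, rfl⟩ := hqs x
    refine Ideal.Quotient.eq.2 (hεJ.le (show g (q x) - x ∈ RingHom.ker ε from ?_))
    rw [RingHom.mem_ker, map_sub]
    exact sub_eq_zero.2 (hεε x)
  let η := ξ.along q hq
  have hgη : η.along g hg = ξ := by
    refine Eq.trans ?_ hεξ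
    rfl
  have hηv : IsVersal η := fun B A μ hμ φ y hy => by
    obtain ⟨ψ, h1, h2⟩ := hξ μ hμ ⟨φ.1.comp q, by rw [← AlgHom.comp_assoc, φ.2, hq]⟩ y hy
    refine ⟨⟨ψ.1.comp g, by rw [← AlgHom.comp_assoc, ψ.2, hg]⟩, homSet_ext fun x => ?_, ?_⟩
    · exact (congrArg (fun t : HomSet R.carrier R.res A => t.1 (g x)) h1).trans (congrArg φ.1 (hqg x))
    · exact (congrArg (fun t : Family R.carrier R.res F => t.app B ψ) hgη).trans h2
  refine ⟨R', η, q, hq, g, hg, ⟨hηv, fun R'' u f hf e => ?_⟩, rfl, hgη, hqg⟩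
  obtain ⟨b, hb, hbu⟩ := exists_along_of_versal η hηv h0.2 u
  have hh : R'.res.comp (f.comp b) = R'.res := by rw [← AlgHom.comp_assoc, hf, hb]
  have hfix : η.along (f.comp b) hh = η := by
    refine toFormalElt_injective ?_
    rw [← hbu, push_toFormalElt] at e
    exact e
  suffices hs : Function.Surjective (f.comp b) from fun y => (hs y).elim fun x hx => ⟨b x, hx⟩
  let h := f.comp b
  let e' : R.carrier →ₐ[Λ] R.carrier := g.comp (h.comp q)
  have he' : R.res.comp e' = R.res := by rw [← AlgHom.comp_assoc, hg, ← AlgHom.comp_assoc, hh, hq]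
  have hξe : ξ.along e' he' = ξ := by
    refine Eq.trans (Eq.trans ?_ (congrArg (fun t : Family R'.carrier R'.res F => t.along g hg) hfix)) hgη
    rfl
  obtain ⟨ε', hε', hε'ξ, hε'ε', hker, happ⟩ := exists_idem R ξ e' he' hξe
  have hJle : J ≤ RingHom.ker ε' := fun a ha => hker a (by
    change g (h (q a)) = 0
    rw [show q a = 0 from Ideal.Quotient.eq_zero_iff_mem.2 ha, map_zero, map_zero])
  have hJeq : RingHom.ker ε' = J := by
    by_contra hne
    exact hmax _ ⟨ε', hε', hε'ξ, hε'ε', rfl⟩ (lt_of_le_of_ne hJle (Ne.symm hne))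
  haveI := R'.isAdicComplete
  refine surjective_of_map_maximalIdeal h.toRingHom (exists_sub_mem h hh) ?_
  refine le_antisymm (sup_le (cring_map_le h hh) (Ideal.pow_le_self (by decide))) fun x hx => ?_
  obtain ⟨x, rfl⟩ := hqs x
  obtain ⟨y, hy⟩ := happ 1 x
  have e1 : q x = q (ε' x) := (Ideal.Quotient.eq.2 (show x - ε' x ∈ J from hJeq ▸ by
    rw [RingHom.mem_ker, map_sub, hε'ε', sub_self]))
  have hy' : q (ε' x - e' y) ∈ 𝔪 R'.carrier ^ 2 :=
    Ideal.pow_right_mono (cring_map_le q hq) 2 (by rw [← Ideal.map_pow]; exact Ideal.mem_map_of_mem _ hy)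
  rw [map_sub, ← e1, show q (e' y) = h (q y) from hqg _] at hy'
  have hqy : q y ∈ 𝔪 R'.carrier := by
    rw [CRing.mem_maximalIdeal_iff, ← res_comp_apply' h hh, ← CRing.mem_maximalIdeal_iff]
    have := sub_mem hx (Ideal.pow_le_self (by decide) hy')
    rwa [sub_sub_cancel] at this
  have := add_mem (Ideal.mem_sup_right hy') (Ideal.mem_sup_left (Ideal.mem_map_of_mem h.toRingHom hqy))
  rwa [show (q x - h (q y)) + h.toRingHom (q y) = q x from sub_add_cancel _ _] at this

/-- A versal family is the pushforward of a minimal versal one along a power series extension. -/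
theorem exists_minimalVersal_ps (h0 : H0 F) (R : CRing Λ k) (ξ : Family R.carrier R.res F) (hξ : IsVersal ξ) :
    ∃ (R' : CRing Λ k) (ξ' : Family R'.carrier R'.res F), ξ'.IsMinimalVersal ∧
      ∃ (g : R'.carrier →ₐ[Λ] R.carrier) (hg : R.res.comp g = R'.res)
        (n : ℕ) (θ : (psRing R' n).carrier →ₐ[Λ] R.carrier),
        θ.comp (psC R' n) = g ∧ Function.Bijective θ ∧ ξ'.along g hg = ξ := by
  classical
  obtain ⟨R', η, q, hq, g, hg, hmin, hqη, hgη, hqg⟩ := exists_minimalVersal_retract h0 R ξ hξ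
  refine ⟨R', η, hmin, g, hg, ?_⟩
  haveI := R.isAdicComplete
  haveI := R'.isAdicComplete
  let J0 := Ideal.map g (𝔪 R'.carrier) ⊔ (𝔪 R.carrier) ^ 2
  have hkm : ∀ x, q x = 0 → x ∈ 𝔪 R.carrier := fun x hx => by
    rw [CRing.mem_maximalIdeal_iff, ← res_comp_apply' q hq, hx, map_zero]
  have hex : ∃ n, ∃ x : Fin n → R.carrier, (∀ i, q (x i) = 0) ∧ 𝔪 R.carrier ≤ Ideal.span (Set.range x) ⊔ J0 := by
    obtain ⟨m, hm⟩ := IsNoetherian.noetherian (RingHom.ker q)
    refine ⟨m.card, fun i => (m.equivFin.symm i).1,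
      fun i => hm.le (Submodule.subset_span (m.equivFin.symm i).2), fun p hp => ?_⟩
    have h1 : p - g (q p) ∈ Ideal.span (Set.range fun i => (m.equivFin.symm i).1) := by
      refine (hm.ge.trans (Submodule.span_mono (t := Set.range fun i => ((m.equivFin.symm i).1 : R.carrier)) fun a (ha : a ∈ m) => ⟨m.equivFin ⟨a, ha⟩, by simp⟩)) ?_
      rw [RingHom.mem_ker, map_sub, hqg, sub_self]
    have h2 : g (q p) ∈ J0 := Ideal.mem_sup_left (Ideal.mem_map_of_mem g (cring_map_mem q hq hp))
    have := add_mem (Ideal.mem_sup_left h1) (Ideal.mem_sup_right h2)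
    rwa [sub_add_cancel] at this
  obtain ⟨x, hxq, hx⟩ := Nat.find_spec hex
  let n := Nat.find hex
  have hxm : ∀ i, x i ∈ 𝔪 R.carrier := fun i => hkm _ (hxq i)
  have hmin' : ∀ c : Fin n → R.carrier, (∑ i, c i * x i) ∈ J0 → ∀ i, c i ∈ 𝔪 R.carrier := by
    intro c hc i
    by_contra hci
    have hn : 0 < n := i.pos
    obtain ⟨n', hn'⟩ : ∃ n', n = n' + 1 := ⟨n - 1, by omega⟩
    refine Nat.find_min hex (m := n') (show n' < n by omega) ?_
    let e : Fin n' → Fin n := fun j => Fin.cast hn'.symm ((Fin.cast hn' i).succAbove j)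
    refine ⟨x ∘ e, fun j => hxq _, hx.trans (sup_le (Ideal.span_le.2 ?_) le_sup_right)⟩
    rintro _ ⟨j, rfl⟩
    have hne : ∀ l, l ≠ i → ∃ l', x (e l') = x l := fun l hl => by
      obtain ⟨l', hl'⟩ := Fin.exists_succAbove_eq (x := Fin.cast hn' l) (y := Fin.cast hn' i)
        (fun h => hl (Fin.cast_injective hn' h))
      exact ⟨l', congrArg x (Fin.ext (congrArg Fin.val hl' :))⟩
    by_cases hji : j = i
    · subst hji
      obtain ⟨u, hu⟩ := IsLocalRing.notMem_maximalIdeal.1 hci
      have h1 : c j * x j ∈ Ideal.span (Set.range (x ∘ e)) ⊔ J0 := by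
        have h2 : (∑ l, c l * x l) - ∑ l ∈ Finset.univ.erase j, c l * x l ∈ Ideal.span (Set.range (x ∘ e)) ⊔ J0 :=
          sub_mem (Ideal.mem_sup_right hc) (Ideal.mem_sup_left (Ideal.sum_mem _ fun l hl =>
            Ideal.mul_mem_left _ _ (Ideal.subset_span (hne l (Finset.mem_erase.1 hl).1))))
        rwa [← Finset.add_sum_erase _ _ (Finset.mem_univ j), add_sub_cancel_right] at h2
      rw [← hu] at h1
      have h3 := Ideal.mul_mem_left _ (↑u⁻¹ : R.carrier) h1
      rwa [← mul_assoc, Units.inv_mul, one_mul] at h3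
    · exact Ideal.mem_sup_left (Ideal.subset_span (hne j hji))
  let P := psRing R' n
  haveI := P.isAdicComplete
  obtain ⟨θ, hθC, hθX⟩ := exists_eval R' (n := n) g x hxm
  have hθC' : ∀ a, θ (psC R' n a) = g a := fun a => congrArg (fun t : R'.carrier →ₐ[Λ] R.carrier => t a) hθC
  have hθres : R.res.comp θ = P.res := by
    refine AlgHom.ext fun p => ?_
    obtain ⟨h, hh⟩ := ps_decomp R' p
    rw [hh]
    simp only [map_add, map_sum, map_mul, AlgHom.comp_apply, hθC', hθX]
    rw [res_comp_apply' g hg, res_comp_apply' (psC R' n) (psC_res R' n)]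
    congr 1
    refine Finset.sum_congr rfl fun i _ => ?_
    rw [(CRing.mem_maximalIdeal_iff R _).1 (hxm i), (CRing.mem_maximalIdeal_iff P _).1 (psX_mem R' i),
      zero_mul, zero_mul]
  have hθs : Function.Surjective θ := by
    refine surjective_of_map_maximalIdeal θ.toRingHom (exists_sub_mem θ hθres) ?_
    refine le_antisymm (sup_le (cring_map_le θ hθres) (Ideal.pow_le_self (by decide))) ?_
    refine hx.trans (sup_le (Ideal.span_le.2 ?_) (sup_le_sup ?_ le_rfl))
    · rintro _ ⟨i, rfl⟩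
      refine Ideal.mem_sup_left ?_
      rw [← hθX i]
      exact Ideal.mem_map_of_mem _ (psX_mem R' i)
    · refine Ideal.map_le_iff_le_comap.2 fun a ha => ?_
      rw [Ideal.mem_comap, ← hθC']
      exact Ideal.mem_map_of_mem θ.toRingHom (cring_map_mem (psC R' n) (psC_res R' n) ha)
  -- injective on `P/m²`
  have hker : ∀ p, θ p ∈ 𝔪 R.carrier ^ 2 → p ∈ 𝔪 P.carrier ^ 2 := by
    intro p hp
    have hpm : p ∈ 𝔪 P.carrier := by
      rw [CRing.mem_maximalIdeal_iff, ← res_comp_apply' θ hθres, ← CRing.mem_maximalIdeal_iff]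
      exact Ideal.pow_le_self (by decide) hp
    obtain ⟨a, ha, h, rfl⟩ := ps_mem_decomp R' hpm
    have hqp : q (θ (psC R' n a + ∑ i, psX R' i * h i)) = a := by
      simp only [map_add, map_sum, map_mul, hθC', hθX, hqg, hxq, zero_mul, Finset.sum_const_zero, add_zero]
    have ha2 : a ∈ 𝔪 R'.carrier ^ 2 := by
      rw [← hqp]
      exact Ideal.pow_right_mono (cring_map_le q hq) 2 (by rw [← Ideal.map_pow]; exact Ideal.mem_map_of_mem _ hp)
    refine add_mem (Ideal.pow_right_mono (cring_map_le (psC R' n) (psC_res R' n)) 2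
      (by rw [← Ideal.map_pow]; exact Ideal.mem_map_of_mem _ ha2)) ?_
    have h1 : θ (psC R' n a) ∈ J0 := by
      rw [hθC']
      exact Ideal.mem_sup_left (Ideal.mem_map_of_mem g ha)
    have hp' : θ (psC R' n a + ∑ i, psX R' i * h i) ∈ J0 := Ideal.mem_sup_right hp
    rw [map_add, map_sum] at hp'
    have h2 := (Ideal.add_mem_iff_right _ h1).1 hp'
    have h3 : ∀ i, θ (h i) ∈ 𝔪 R.carrier := hmin' (fun i => θ (h i)) (by
      simpa only [map_mul, hθX, mul_comm] using h2)
    refine Ideal.sum_mem _ fun i _ => ?_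
    rw [pow_two]
    refine Ideal.mul_mem_mul (psX_mem R' i) ?_
    rw [CRing.mem_maximalIdeal_iff, ← res_comp_apply' θ hθres, ← CRing.mem_maximalIdeal_iff]
    exact h3 i
  let π := P.truncHom 1
  let eθ := Ideal.quotientKerAlgEquivOfSurjective hθs
  have hle : RingHom.ker θ ≤ RingHom.ker π.1 := fun p hp =>
    (truncHom_eq_zero_iff P 1 p).2 (hker p (by rw [show θ p = 0 from hp]; exact zero_mem _))
  let g1 : R.carrier →ₐ[Λ] P.trunc 1 :=
    (Ideal.Quotient.liftₐ (RingHom.ker θ) π.1 fun _ ha => hle ha).comp eθ.symm.toAlgHom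
  have hg1 : ∀ p, g1 (θ p) = π.1 p := fun p => by
    have he : eθ.symm (θ p) = Ideal.Quotient.mk (RingHom.ker θ) p := eθ.symm_apply_eq.2 rfl
    change Ideal.Quotient.liftₐ (RingHom.ker θ) π.1 (fun _ ha => hle ha) (eθ.symm (θ p)) = _
    rw [he]
    rfl
  let φ1 : HomSet R.carrier R.res (P.trunc 1) := ⟨g1, AlgHom.ext fun s => by
    obtain ⟨p, rfl⟩ := hθs s
    change Art.res _ (g1 (θ p)) = R.res (θ p)
    rw [hg1, homSet_res, res_comp_apply' θ hθres]⟩
  let ηP := η.along (psC R' n) (psC_res R' n)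
  have h1 : ξ.app _ φ1 = ηP.app _ π := by
    rw [← hgη, along_app, along_app]
    exact congrArg (η.app _) (homSet_ext fun a => (congrArg g1 (hθC' a).symm).trans (hg1 _))
  have step : ∀ m (ψ : {ψ : HomSet R.carrier R.res (P.trunc (m + 1)) // ξ.app _ ψ = ηP.app _ (P.truncHom (m + 1))}),
      ∃ ψ' : {ψ : HomSet R.carrier R.res (P.trunc (m + 1 + 1)) // ξ.app _ ψ = ηP.app _ (P.truncHom (m + 1 + 1))},
        HomSet.map (P.truncMap (m + 1)) ψ'.1 = ψ.1 := by
    intro m ψ
    obtain ⟨ψ', h1, h2⟩ := hξ (P.truncMap (m + 1)) (truncMap_surjective P (m + 1)) ψ.1 (ηP.app _ (P.truncHom (m + 1 + 1))) (by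
      rw [← ηP.natural, CRing.truncMap_truncHom, ψ.2])
    exact ⟨⟨ψ', h2⟩, h1⟩
  let seq : ∀ m, {ψ : HomSet R.carrier R.res (P.trunc (m + 1)) // ξ.app _ ψ = ηP.app _ (P.truncHom (m + 1))} := fun m =>
    Nat.rec ⟨φ1, h1⟩ (fun m ψ => (step m ψ).choose) m
  obtain ⟨G, hG, hGn⟩ := exists_hom_of_truncs (fun m => HomSet.map (P.truncMap m) (seq m).1) fun m =>
    congrArg (HomSet.map (P.truncMap m)) (step m (seq m)).choose_spec
  have hh : P.res.comp (G.comp θ) = P.res := by rw [← AlgHom.comp_assoc, hG, hθres]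
  have hb : Function.Bijective (G.comp θ) := by
    refine bijective_of_congr _ hh fun p _ => Ideal.mem_sup_right ?_
    refine (truncHom_eq_zero_iff P 1 _).1 ?_
    rw [map_sub, sub_eq_zero]
    have h2 : (P.truncHom 1).1 (G (θ p)) = P.truncMap 1 ((seq 1).1.1 (θ p)) :=
      congrArg (fun t : HomSet R.carrier R.res (P.trunc 1) => t.1 (θ p)) (hGn 1)
    refine ((hg1 p).symm.trans ?_).trans h2.symm
    exact (congrArg (fun t : HomSet R.carrier R.res (P.trunc 1) => t.1 (θ p)) (step 0 ⟨φ1, h1⟩).choose_spec).symm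
  exact ⟨n, θ, hθC, ⟨fun p p' e => hb.1 (congrArg G e), hθs⟩, hgη⟩

end Retract

end Groth.ArtfunDeform
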