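import Groth.Agent.ArtfunDeform.Smooth
import Groth.Prelude.Def_ArtFun3
import Groth.Prelude.Def_W4bk4hartshdef114Obs
import Mathlib.RingTheory.Filtration
import Mathlib.RingTheory.HopkinsLevitzki
import Mathlib.Algebra.Module.SpanRankOperations
import Mathlib.LinearAlgebra.Dual.Lemmas

/-!
Generators of the relations are at most the dimension of an obstruction space.
-/

set_option linter.style.haveILetI false
set_option linter.style.longLine false
set_option linter.unusedSectionVars false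

noncomputable section

universe u v

open CategoryTheory TensorProduct

namespace Groth.ArtfunDeform

open ArtFun ArtFun.Art

local notation "𝔪" => IsLocalRing.maximalIdeal

variable {k : Type u} [Field k]

/-- A tensor seen by every functional bounds the dimension. -/
theorem finrank_le_of_lTensor_ne_zero {V J : Type u} [AddCommGroup V] [Module k V] [Module.Finite k V]
    [AddCommGroup J] [Module k J] [Module.Finite k J] (ω : V ⊗[k] J)
    (h : ∀ l : J →ₗ[k] k, l ≠ 0 → LinearMap.lTensor V l ω ≠ 0) :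
    Module.finrank k J ≤ Module.finrank k V := by
  let Φ : (J →ₗ[k] k) →ₗ[k] V :=
    { toFun := fun l => TensorProduct.rid k V (LinearMap.lTensor V l ω)
      map_add' := fun a b => by rw [LinearMap.lTensor_add, LinearMap.add_apply, map_add]
      map_smul' := fun c a => by rw [LinearMap.lTensor_smul, LinearMap.smul_apply, map_smul, RingHom.id_apply] }
  have hinj : Function.Injective Φ := by
    rw [injective_iff_map_eq_zero]
    intro l hl
    by_contra hl0
    exact h l hl0 ((TensorProduct.rid k V).map_eq_zero_iff.1 hl)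
  have := LinearMap.finrank_le_finrank_of_injective hinj
  rwa [Subspace.dual_finrank_eq] at this

/-- A map killing the kernel of a functional kills what the functional kills. -/
theorem lTensor_eq_zero_of_ker_le {V J J' : Type u} [AddCommGroup V] [Module k V] [AddCommGroup J] [Module k J]
    [AddCommGroup J'] [Module k J'] {ω : V ⊗[k] J} (l : J →ₗ[k] k) (hl : l ≠ 0) (f : J →ₗ[k] J')
    (hf : ∀ x, l x = 0 → f x = 0) (h : LinearMap.lTensor V l ω = 0) : LinearMap.lTensor V f ω = 0 := by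
  obtain ⟨x₀, hx₀⟩ : ∃ x, l x = 1 := by
    obtain ⟨x, hx⟩ := DFunLike.ne_iff.1 hl
    exact ⟨(l x)⁻¹ • x, by rw [map_smul, smul_eq_mul, inv_mul_cancel₀ hx]⟩
  have hfac : f = (LinearMap.toSpanSingleton k J' (f x₀)).comp l := LinearMap.ext fun x => by
    rw [LinearMap.comp_apply, LinearMap.toSpanSingleton_apply, ← map_smul, ← sub_eq_zero, ← map_sub]
    exact hf _ (by rw [map_sub, map_smul, hx₀, smul_eq_mul, mul_one, sub_self])
  rw [hfac, LinearMap.lTensor_comp, LinearMap.comp_apply, h, map_zero]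

section Ideal

variable {C : Type u} [CommRing C] [Algebra k C] [IsLocalRing C]

/-- A subspace of an ideal killed by the maximal ideal is an ideal. -/
theorem exists_ideal_of_submodule (resC : C →ₐ[k] k) {J : Ideal C} (hkill : ∀ m ∈ 𝔪 C, ∀ x ∈ J, m * x = 0)
    (W : Submodule k ↥J) : ∃ K : Ideal C, K ≤ J ∧ ∀ x : J, (x : C) ∈ K ↔ x ∈ W := by
  refine ⟨{ carrier := {y | ∃ x : J, x ∈ W ∧ (x : C) = y}, zero_mem' := ⟨0, zero_mem _, rfl⟩,
            add_mem' := fun {a b} ⟨x, hx, hxa⟩ ⟨y, hy, hyb⟩ => ⟨x + y, add_mem hx hy, by rw [← hxa, ← hyb]; rfl⟩,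
            smul_mem' := fun c y ⟨x, hx, hxy⟩ => ⟨resC c • x, W.smul_mem _ hx, ?_⟩ }, ?_, fun x => ⟨?_, ?_⟩⟩
  · have hc : c - algebraMap k C (resC c) ∈ 𝔪 C := by
      rw [← IsLocalRing.eq_maximalIdeal (RingHom.ker_isMaximal_of_surjective (resC : C →+* k)
        (fun z => ⟨algebraMap k C z, resC.commutes z⟩)), RingHom.mem_ker]
      change resC (c - algebraMap k C (resC c)) = 0
      rw [map_sub, AlgHom.commutes]
      exact sub_self _
    have h := hkill _ hc x x.2
    rw [sub_mul, sub_eq_zero] at h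
    rw [← hxy, smul_eq_mul, h, Submodule.coe_smul_of_tower, Algebra.smul_def]
  · rintro y ⟨x, -, rfl⟩
    exact x.2
  · rintro ⟨y, hy, h⟩
    rwa [← Subtype.ext h]
  · exact fun hx => ⟨x, hx, rfl⟩

end Ideal

lemma mem_maximal_iff_res {S : Type u} [CommRing S] [Algebra k S] [IsLocalRing S] (resS : S →ₐ[k] k) (x : S) :
    x ∈ 𝔪 S ↔ resS x = 0 := by
  rw [← IsLocalRing.eq_maximalIdeal (RingHom.ker_isMaximal_of_surjective (resS : S →+* k)
    (fun z => ⟨algebraMap k S z, resS.commutes z⟩))]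
  rfl

section Ring

variable {S R : Type u} [CommRing S] [Algebra k S] [IsLocalRing S] [IsNoetherianRing S]
variable [CommRing R] [Algebra k R] (resS : S →ₐ[k] k) (θ : S →ₐ[k] R)

/-- The ideal of relations modulo `𝔪 J`, realised inside an Artinian quotient. -/
theorem exists_obs_test (hmin : RingHom.ker θ ≤ 𝔪 S ^ 2) :
    ∃ (C : Type u) (_ : CommRing C) (_ : Algebra k C) (q : S →ₐ[k] C) (resC : C →ₐ[k] k) (_ : IsLocalRing C)
      (_ : IsArtinianRing C),
      Function.Surjective q ∧ resC.comp q = resS ∧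
      (∀ m ∈ 𝔪 C, ∀ x ∈ (RingHom.ker θ).map q, m * x = 0) ∧ (RingHom.ker θ).map q ≤ 𝔪 C ∧
      Module.Finite k ↥((RingHom.ker θ).map q) ∧
      (RingHom.ker θ).spanFinrank ≤ Module.finrank k ↥((RingHom.ker θ).map q) := by
  classical
  let m := 𝔪 S
  let J := RingHom.ker θ
  obtain ⟨N₀, hN₀⟩ := Ideal.exists_pow_inf_eq_pow_smul m (M := S) J
  let K' : Ideal S := m * J ⊔ m ^ (N₀ + 2)
  have hJm : J ≤ m := hmin.trans (Ideal.pow_le_self two_ne_zero)
  have hK'm : K' ≤ m := sup_le (Ideal.mul_le_right.trans hJm) (Ideal.pow_le_self (by omega))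
  have hAR : ∀ x ∈ J, x ∈ K' → x ∈ m * J := by
    intro x hxJ hx
    obtain ⟨y, hy, z, hz, rfl⟩ := Submodule.mem_sup.1 hx
    have hzJ : z ∈ J := (Submodule.add_mem_iff_right _ (Ideal.mul_le_right hy)).1 hxJ
    have h1 : z ∈ (m ^ (N₀ + 2) • ⊤ ⊓ J : Submodule S S) :=
      ⟨by rw [smul_eq_mul, Ideal.mul_top]; exact hz, hzJ⟩
    rw [hN₀ _ (by omega), show N₀ + 2 - N₀ = 2 by omega, smul_eq_mul] at h1
    exact add_mem hy (Ideal.mul_mono (Ideal.pow_le_self two_ne_zero) inf_le_right h1)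
  haveI : Nontrivial (S ⧸ K') := Ideal.Quotient.nontrivial_iff.2
    fun h => (IsLocalRing.maximalIdeal.isMaximal S).ne_top (top_le_iff.1 (h ▸ hK'm))
  haveI : IsLocalRing (S ⧸ K') := IsLocalRing.of_surjective' (Ideal.Quotient.mk K') Ideal.Quotient.mk_surjective
  let q : S →ₐ[k] S ⧸ K' := Ideal.Quotient.mkₐ k K'
  have hq : Function.Surjective q := Ideal.Quotient.mk_surjective
  let resC : (S ⧸ K') →ₐ[k] k := Ideal.Quotient.liftₐ K' resS fun a ha => (mem_maximal_iff_res resS a).1 (hK'm ha)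
  have hmax : ∀ x, q x ∈ 𝔪 (S ⧸ K') → x ∈ m := fun x hx => by
    rw [mem_maximal_iff_res resC] at hx
    exact (mem_maximal_iff_res resS x).2 hx
  haveI : IsNoetherianRing (S ⧸ K') := isNoetherianRing_of_surjective S _ (Ideal.Quotient.mk K') Ideal.Quotient.mk_surjective
  haveI : IsArtinianRing (S ⧸ K') := by
    rw [isArtinianRing_iff_isNilpotent_maximalIdeal]
    refine ⟨N₀ + 2, ?_⟩
    rw [Ideal.zero_eq_bot, eq_bot_iff]
    have hle : 𝔪 (S ⧸ K') ≤ m.map q := fun y hy => by
      obtain ⟨x, rfl⟩ := hq y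
      exact Ideal.mem_map_of_mem _ (hmax x hy)
    refine (Ideal.pow_right_mono hle _).trans ?_
    rw [← Ideal.map_pow, Ideal.map_le_iff_le_comap]
    intro x hx
    rw [Ideal.mem_comap, Ideal.mem_bot]
    exact Ideal.Quotient.eq_zero_iff_mem.2 (Submodule.mem_sup_right hx)
  have hkill : ∀ a ∈ 𝔪 (S ⧸ K'), ∀ x ∈ J.map q, a * x = 0 := by
    intro a ha x hx
    obtain ⟨a, rfl⟩ := hq a
    obtain ⟨x, hxJ, rfl⟩ := (Ideal.mem_map_iff_of_surjective q hq).1 hx
    rw [← map_mul]
    exact Ideal.Quotient.eq_zero_iff_mem.2 (Submodule.mem_sup_left (Ideal.mul_mem_mul (hmax a ha) hxJ))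
  obtain ⟨s, hs⟩ := IsNoetherian.noetherian J
  have hsJ : ∀ x ∈ s, x ∈ J := fun x hx => hs ▸ Submodule.subset_span hx
  let w : s → ↥(J.map q) := fun x => ⟨q x, Ideal.mem_map_of_mem q (hsJ x x.2)⟩
  have hw : Submodule.span k (Set.range w) = ⊤ := by
    refine top_le_iff.1 fun y _ => ?_
    obtain ⟨x, hxJ, hxy⟩ := (Ideal.mem_map_iff_of_surjective q hq).1 y.2
    rw [← hs, show (↑s : Set S) = Set.range ((↑) : s → S) by simp, Submodule.mem_span_range_iff_exists_fun] at hxJ
    obtain ⟨c, rfl⟩ := hxJ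
    rw [Submodule.mem_span_range_iff_exists_fun]
    refine ⟨fun i => resS (c i), Subtype.ext ?_⟩
    rw [Submodule.coe_sum, ← hxy, map_sum]
    refine Finset.sum_congr rfl fun i _ => ?_
    rw [Submodule.coe_smul_of_tower, smul_eq_mul, map_mul, Algebra.smul_def, ← sub_eq_zero]
    change algebraMap k (S ⧸ K') (resS (c i)) * q i - q (c i) * q i = 0
    rw [← sub_mul, ← q.commutes, ← map_sub]
    refine hkill _ ?_ _ (w i).2
    rw [mem_maximal_iff_res resC]
    change resS (algebraMap k S (resS (c i)) - c i) = 0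
    rw [map_sub, AlgHom.commutes]
    exact sub_self _
  haveI hfin : Module.Finite k ↥(J.map q) := ⟨hw ▸ Submodule.fg_span (Set.finite_range w)⟩
  refine ⟨S ⧸ K', inferInstance, inferInstance, q, resC, inferInstance, inferInstance, hq, AlgHom.ext fun _ => rfl,
    hkill, Ideal.map_le_iff_le_comap.2 fun x hx => ?_, hfin, ?_⟩
  · rw [Ideal.mem_comap, mem_maximal_iff_res resC]
    exact (mem_maximal_iff_res resS x).1 (hJm hx)
  · let d := Module.finrank k ↥(J.map q)
    let b := Module.finBasis k ↥(J.map q)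
    choose z hzJ hzb using fun i : Fin d => (Ideal.mem_map_iff_of_surjective q hq).1 (b i).2
    have hle : J ≤ Ideal.span (Set.range z) ⊔ m • J := fun x hx => by
      let y : ↥(J.map q) := ⟨q x, Ideal.mem_map_of_mem q hx⟩
      let x₁ : S := ∑ i, algebraMap k S (b.repr y i) * z i
      refine Submodule.mem_sup.2 ⟨x₁, Ideal.sum_mem _ fun i _ => Ideal.mul_mem_left _ _ (Ideal.subset_span ⟨i, rfl⟩),
        x - x₁, ?_, add_sub_cancel _ _⟩
      rw [smul_eq_mul]
      refine hAR _ (sub_mem hx (Ideal.sum_mem _ fun i _ => Ideal.mul_mem_left _ _ (hzJ i))) ?_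
      refine (Ideal.Quotient.eq).1 ?_
      change q x = q x₁
      have h := congrArg (Subtype.val) (b.sum_repr y)
      rw [Submodule.coe_sum] at h
      refine h.symm.trans ?_
      rw [map_sum]
      refine Finset.sum_congr rfl fun i _ => ?_
      rw [Submodule.coe_smul_of_tower, map_mul, hzb, q.commutes, Algebra.smul_def]
    have hspan : Ideal.span (Set.range z) = J := by
      refine le_antisymm (Ideal.span_le.2 (Set.range_subset_iff.2 hzJ)) ?_
      exact Submodule.le_of_le_smul_of_le_jacobson_bot (IsNoetherian.noetherian J)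
        (IsLocalRing.maximalIdeal_le_jacobson ⊥) hle
    change J.spanFinrank ≤ _
    rw [← hspan]
    refine (Submodule.spanFinrank_span_le_ncard_of_finite (Set.finite_range z)).trans ?_
    rw [← Set.image_univ]
    exact (Set.ncard_image_le Set.finite_univ).trans (by simp [d, J])

/-- A lift modulo a smaller ideal forces the relations into that ideal. -/
theorem map_le_of_lift {C : Type u} [CommRing C] [Algebra k C] [IsLocalRing C] (q : S →ₐ[k] C)
    (resC : C →ₐ[k] k) (hres : resC.comp q = resS) (hmin : RingHom.ker θ ≤ 𝔪 S ^ 2)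
    (hkill : ∀ m ∈ 𝔪 C, ∀ x ∈ (RingHom.ker θ).map q, m * x = 0) (hJC : (RingHom.ker θ).map q ≤ 𝔪 C)
    {K : Ideal C} (hK : K ≤ (RingHom.ker θ).map q) (ψ : R →ₐ[k] C ⧸ K)
    (hψ : ∀ x, ψ (θ x) - Ideal.Quotient.mk K (q x) ∈ ((RingHom.ker θ).map q).map (Ideal.Quotient.mk K)) :
    (RingHom.ker θ).map q ≤ K := by
  let J := (RingHom.ker θ).map q
  have hkill' : ∀ m ∈ 𝔪 C, ∀ y ∈ J.map (Ideal.Quotient.mk K), Ideal.Quotient.mk K m * y = 0 := by
    intro m hm y hy
    obtain ⟨y, hy', rfl⟩ := (Ideal.mem_map_iff_of_surjective _ Ideal.Quotient.mk_surjective).1 hy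
    rw [← map_mul, hkill m hm y hy', map_zero]
  have hmax : ∀ x ∈ 𝔪 S, q x ∈ 𝔪 C := fun x hx => by
    rw [mem_maximal_iff_res resC, ← AlgHom.comp_apply, hres]
    exact (mem_maximal_iff_res resS x).1 hx
  have hagree : ∀ x ∈ 𝔪 S ^ 2, ψ (θ x) = Ideal.Quotient.mk K (q x) := by
    intro x hx
    rw [pow_two] at hx
    induction hx using Submodule.mul_induction_on' with
    | mem_mul_mem a ha b hb =>
      obtain ⟨d, hd, hda⟩ := (Ideal.mem_map_iff_of_surjective _ Ideal.Quotient.mk_surjective).1 (hψ a)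
      have h1 : ψ (θ a) = Ideal.Quotient.mk K (q a + d) := by rw [map_add, hda, add_sub_cancel]
      have h2 : ψ (θ b) = Ideal.Quotient.mk K (q b) + (ψ (θ b) - Ideal.Quotient.mk K (q b)) := (add_sub_cancel _ _).symm
      rw [map_mul, map_mul, map_mul, map_mul, h2, h1, mul_add,
        hkill' _ (add_mem (hmax a ha) (hJC hd)) _ (hψ b), add_zero, map_add, add_mul, ← map_mul,
        mul_comm (Ideal.Quotient.mk K d), hkill' _ (hmax b hb) _ (Ideal.mem_map_of_mem _ hd), add_zero, map_mul]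
    | add a _ b _ ha hb => simp only [map_add, ha, hb]
  refine Ideal.map_le_iff_le_comap.2 fun x hx => ?_
  rw [Ideal.mem_comap, ← Ideal.Quotient.eq_zero_iff_mem, ← hagree x (hmin hx), show θ x = 0 from hx, map_zero]

include resS in
/-- The bound for obstruction theories of algebras. -/
theorem spanFinrank_ker_le_obsAlg (hθ : Function.Surjective θ) (hmin : RingHom.ker θ ≤ 𝔪 S ^ 2)
    {V : Type u} [AddCommGroup V] [Module k V] [Module.Finite k V]
    (T : W4bk4hartshdef114.ObsTheory k R V) : (RingHom.ker θ).spanFinrank ≤ Module.finrank k V := by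
  obtain ⟨C, iC₁, iC₂, q, resC, iC₃, iC₄, hq, hres, hkill, hJC, hfin, hle⟩ := exists_obs_test resS θ hmin
  refine hle.trans ?_
  let J := (RingHom.ker θ).map q
  let u₀ : R →+* C ⧸ J := RingHom.liftOfSurjective θ.toRingHom hθ
    ⟨(Ideal.Quotient.mk J).comp q.toRingHom, fun x hx => Ideal.Quotient.eq_zero_iff_mem.2 (Ideal.mem_map_of_mem q hx)⟩
  have hu₀ : ∀ x, u₀ (θ x) = Ideal.Quotient.mk J (q x) :=
    fun x => RingHom.liftOfSurjective_comp_apply θ.toRingHom hθ _ x
  let u : R →ₐ[k] C ⧸ J :=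
    { toRingHom := u₀, commutes' := fun c => by
        change u₀ (algebraMap k R c) = _
        rw [← θ.commutes, hu₀, q.commutes]
        rfl }
  have hsmall : W4bk4hartshdef114.IsSmallExt k C J := ⟨iC₃, iC₄, fun x => ⟨resC x, by
      have h : x - algebraMap k C (resC x) ∈ 𝔪 C := by
        rw [mem_maximal_iff_res resC, map_sub, AlgHom.commutes]
        exact sub_self _
      exact (IsLocalRing.mem_maximalIdeal _).1 h⟩,
    fun x j hx hj => hkill x ((IsLocalRing.mem_maximalIdeal _).2 hx) j hj,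
    fun h => (IsLocalRing.maximalIdeal.isMaximal C).ne_top (top_le_iff.1 (h.ge.trans hJC))⟩
  refine finrank_le_of_lTensor_ne_zero (T.obs C J u) fun l hl hω => ?_
  obtain ⟨K, hK, hKl⟩ := exists_ideal_of_submodule resC hkill (LinearMap.ker l)
  have h0 := T.obs_quot C J K hsmall hK u
  rw [lTensor_eq_zero_of_ker_le l hl _ (fun x hx => ?_) hω] at h0
  swap
  · exact Subtype.ext (Ideal.Quotient.eq_zero_iff_mem.2 ((hKl x).2 hx))
  have hmap : J.map (Ideal.Quotient.mkₐ k K) = J.map (Ideal.Quotient.mk K) := rfl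
  have hKm : K ≤ 𝔪 C := hK.trans hJC
  haveI : Nontrivial (C ⧸ K) := Ideal.Quotient.nontrivial_iff.2
    fun h => (IsLocalRing.maximalIdeal.isMaximal C).ne_top (top_le_iff.1 (h ▸ hKm))
  haveI : IsLocalRing (C ⧸ K) := IsLocalRing.of_surjective' (Ideal.Quotient.mk K) Ideal.Quotient.mk_surjective
  have hmaxK : ∀ y, y ∈ nonunits (C ⧸ K) → ∃ x ∈ 𝔪 C, Ideal.Quotient.mk K x = y := fun y hy => by
    obtain ⟨x, rfl⟩ := Ideal.Quotient.mk_surjective y
    exact ⟨x, (IsLocalRing.mem_maximalIdeal _).2 fun hu => hy (hu.map _), rfl⟩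
  have hsmallK : W4bk4hartshdef114.IsSmallExt k (C ⧸ K) (J.map (Ideal.Quotient.mkₐ k K)) := by
    refine ⟨inferInstance, inferInstance, fun y => ?_, fun y j hy hj => ?_, ?_⟩
    · obtain ⟨x, rfl⟩ := Ideal.Quotient.mk_surjective y
      refine ⟨resC x, fun hu => ?_⟩
      have h : x - algebraMap k C (resC x) ∈ 𝔪 C := by
        rw [mem_maximal_iff_res resC, map_sub, AlgHom.commutes]
        exact sub_self _
      haveI := IsLocalHom.of_surjective (Ideal.Quotient.mk K) Ideal.Quotient.mk_surjective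
      refine (IsLocalRing.mem_maximalIdeal _).1 h (isUnit_of_map_unit (Ideal.Quotient.mk K) _ ?_)
      rw [map_sub]
      exact hu
    · obtain ⟨x, hx, rfl⟩ := hmaxK y hy
      obtain ⟨j, hj', rfl⟩ := (Ideal.mem_map_iff_of_surjective _ Ideal.Quotient.mk_surjective).1 hj
      rw [← map_mul, hkill x hx j hj', map_zero]
    · intro h
      have h1 : (1 : C ⧸ K) ∈ J.map (Ideal.Quotient.mk K) := hmap ▸ h.symm ▸ Submodule.mem_top
      obtain ⟨j, hj, hj1⟩ := (Ideal.mem_map_iff_of_surjective _ Ideal.Quotient.mk_surjective).1 h1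
      rw [← map_one (Ideal.Quotient.mk K), Ideal.Quotient.eq] at hj1
      have := sub_mem (hJC hj) (hKm hj1)
      rw [sub_sub_cancel] at this
      exact (IsLocalRing.maximalIdeal.isMaximal C).ne_top ((Ideal.eq_top_iff_one _).2 this)
  obtain ⟨ψ, hψ⟩ := (T.obs_eq_zero_iff _ _ hsmallK _).1 h0
  have hle' := map_le_of_lift resS θ q resC hres hmin hkill hJC hK ψ fun x => by
    rw [← hmap, ← Ideal.Quotient.eq_zero_iff_mem, map_sub, sub_eq_zero]
    refine (congrArg (fun f : R →ₐ[k] _ => f (θ x)) hψ).trans ?_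
    change (DoubleQuot.quotQuotEquivQuotOfLEₐ k hK).symm (u₀ (θ x)) = _
    rw [hu₀]
    exact (AlgEquiv.symm_apply_eq _).2 rfl
  exact hl (LinearMap.ext fun x => (hKl x).1 (hle' x.2))

/-- The bound for obstruction theories of functors with a versal family. -/
theorem spanFinrank_ker_le_obs {F : Art k k ⥤ Type v} {resR : R →ₐ[k] k} (ξ : Family R resR F) (hξ : IsVersal ξ)
    (hθ : Function.Surjective θ) (hθres : resR.comp θ = resS) (hmin : RingHom.ker θ ≤ 𝔪 S ^ 2)
    {V : Type u} [AddCommGroup V] [Module k V] [Module.Finite k V] (T : ObsTheory F V) :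
    (RingHom.ker θ).spanFinrank ≤ Module.finrank k V := by
  obtain ⟨C₀, iC₁, iC₂, q, resC, iC₃, iC₄, hq, hres, hkill, hJC, hfin, hle⟩ := exists_obs_test resS θ hmin
  refine hle.trans ?_
  let C : Art k k :=
    { carrier := C₀
      res := resC
      res_surjective := fun z => ⟨algebraMap k C₀ z, resC.commutes z⟩ }
  let J : Ideal C := (RingHom.ker θ).map q
  let p : C ⟶ Art.quot C J hJC := Art.quotMk C J hJC
  have hker : RingHom.ker p.toAlgHom = J := Ideal.ext fun x => Ideal.Quotient.eq_zero_iff_mem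
  have hp : IsSemismallExt p := ⟨Art.quotMk_surjective C J hJC, by
    rw [hker, eq_bot_iff, Ideal.mul_le]
    exact fun m hm x hx => Ideal.mem_bot.2 (hkill m hm x hx)⟩
  let u₀ : R →+* (Art.quot C J hJC) := RingHom.liftOfSurjective θ.toRingHom hθ
    ⟨(Ideal.Quotient.mk J).comp q.toRingHom, fun x hx => Ideal.Quotient.eq_zero_iff_mem.2 (Ideal.mem_map_of_mem q hx)⟩
  have hu₀ : ∀ x, u₀ (θ x) = Ideal.Quotient.mk J (q x) :=
    fun x => RingHom.liftOfSurjective_comp_apply θ.toRingHom hθ _ x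
  let φA : HomSet R resR (Art.quot C J hJC) :=
    ⟨{ toRingHom := u₀, commutes' := fun c => by
        change u₀ (algebraMap k R c) = _
        rw [← θ.commutes, hu₀, q.commutes]
        rfl }, AlgHom.ext fun y => by
      obtain ⟨x, rfl⟩ := hθ y
      change (Art.quot C J hJC).res (u₀ (θ x)) = _
      rw [hu₀]
      exact (congrArg (fun f : S →ₐ[k] k => f x) hres).trans (congrArg (fun f : S →ₐ[k] k => f x) hθres).symm⟩
  let e : ↥J ≃ₗ[k] ↥(RingHom.ker p.toAlgHom) :=
    { toFun := fun x => ⟨x.1, hker.ge x.2⟩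
      invFun := fun x => ⟨x.1, hker.le x.2⟩
      map_add' := fun _ _ => rfl
      map_smul' := fun _ _ => rfl }
  haveI : Module.Finite k ↥(RingHom.ker p.toAlgHom) := Module.Finite.equiv e
  rw [e.finrank_eq]
  have hkillp : ∀ m ∈ 𝔪 C, ∀ x ∈ RingHom.ker p.toAlgHom, m * x = 0 := fun m hm x hx => hkill m hm x (hker.le hx)
  refine finrank_le_of_lTensor_ne_zero (T.obs p hp (ξ.app _ φA)) fun l hl hω => ?_
  obtain ⟨K, hK, hKl⟩ := exists_ideal_of_submodule (C := C) resC hkillp (LinearMap.ker l)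
  have hKm : K ≤ 𝔪 C := (hK.trans hker.le).trans hJC
  have hq' : IsSemismallExt (quotFactor hKm p hK) := by
    refine ⟨fun a => ?_, ?_⟩
    · obtain ⟨c, rfl⟩ := Art.quotMk_surjective C J hJC a
      exact ⟨Ideal.Quotient.mk K c, rfl⟩
    · rw [eq_bot_iff, Ideal.mul_le]
      intro m hm x hx
      obtain ⟨m, rfl⟩ := Ideal.Quotient.mk_surjective m
      obtain ⟨x, rfl⟩ := Ideal.Quotient.mk_surjective x
      have hm' : m ∈ 𝔪 C := (IsLocalRing.mem_maximalIdeal _).2 fun hu =>
        (IsLocalRing.mem_maximalIdeal _).1 hm (hu.map (Ideal.Quotient.mk K))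
      rw [Ideal.mem_bot]
      exact (map_mul (Ideal.Quotient.mk K) m x).symm.trans
        ((congrArg (Ideal.Quotient.mk K) (hkillp m hm' x hx)).trans (map_zero _))
  have h0 := T.obs_quot p hp K hKm hK hq' (ξ.app _ φA)
  rw [lTensor_eq_zero_of_ker_le l hl _ (fun x hx => ?_) hω] at h0
  swap
  · exact Subtype.ext (Ideal.Quotient.eq_zero_iff_mem.2 ((hKl x).2 hx))
  obtain ⟨y, hy⟩ := (T.obs_eq_zero_iff _ hq' _).1 h0
  obtain ⟨ψ, hψ, -⟩ := hξ (quotFactor hKm p hK) hq'.1 φA y hy
  have hle' := map_le_of_lift resS θ q resC hres hmin hkill hJC (hK.trans hker.le) ψ.1 fun x => by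
    obtain ⟨w, hw⟩ := Ideal.Quotient.mk_surjective (show C.carrier ⧸ K from ψ.1 (θ x))
    have h : Ideal.Quotient.mk J w = Ideal.Quotient.mk J (q x) := by
      refine Eq.trans ?_ (hu₀ x)
      refine Eq.trans ?_ (congrArg (fun f : HomSet R resR (Art.quot C J hJC) => f.1 (θ x)) hψ)
      exact congrArg (quotFactor hKm p hK) hw
    change (show C.carrier ⧸ K from ψ.1 (θ x)) - Ideal.Quotient.mk K (q x) ∈ _
    rw [← hw, ← map_sub]
    exact Ideal.mem_map_of_mem _ (Ideal.Quotient.eq.1 h)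
  exact hl (LinearMap.ext fun x => (hKl x).1 (hle' (hker.le x.2)))

end Ring

end Groth.ArtfunDeform
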