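import Groth.Agent.ArtfunDeform.FunctorBasic
import Mathlib.CategoryTheory.Limits.Types.Pullbacks
import Mathlib.CategoryTheory.Limits.Types.Products
import Mathlib.CategoryTheory.Limits.Shapes.Pullback.IsPullback.Basic
import Mathlib.CategoryTheory.Limits.FunctorCategory.Basic
import Mathlib.CategoryTheory.Limits.FunctorCategory.Shapes.Pullbacks
import Mathlib.CategoryTheory.Limits.Preserves.Shapes.BinaryProducts

/-!
Smooth morphisms of functors of Artin rings, fibre products of functors.
-/

set_option linter.style.haveILetI false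
set_option linter.style.longLine false

universe u v

open CategoryTheory Limits

namespace Groth.ArtfunDeform

open ArtFun ArtFun.Art

variable {Λ : Type u} {k : Type u} [CommRing Λ] [Field k] [Algebra Λ k]
variable {F G H : Art Λ k ⥤ Type v}

lemma relCmp_surjective_iff (η : F ⟶ G) {B A : Art Λ k} (μ : B ⟶ A) :
    Function.Surjective (relCmp η μ) ↔ ∀ (x : F.obj A) (y : G.obj B), η.app A x = G.map μ y →
      ∃ z, F.map μ z = x ∧ η.app B z = y :=
  ⟨fun hs x y e => (hs ⟨(x, y), e⟩).imp fun z hz =>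
      ⟨congrArg (fun t => t.1.1) hz, congrArg (fun t => t.1.2) hz⟩,
    fun hs x => (hs x.1.1 x.1.2 x.2).imp fun z hz => Subtype.ext (Prod.ext hz.1 hz.2)⟩

/-- Smoothness can be tested on small extensions. -/
theorem isSmooth_of_smallExt (η : F ⟶ G)
    (h : ∀ ⦃B A : Art Λ k⦄ (μ : B ⟶ A), IsSmallExt μ → Function.Surjective (relCmp η μ)) :
    IsSmooth η := by
  intro B A μ hμ
  refine surj_induction (P := fun A B μ => Function.Surjective (relCmp η μ)) ?_ (fun _ _ p hp => h p hp) ?_ μ hμ
  · intro A B e he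
    refine (relCmp_surjective_iff η e).2 fun x y hxy => ?_
    obtain ⟨z, rfl⟩ := (bijective_map_of_isIso F e).2 x
    refine ⟨z, rfl, (bijective_map_of_isIso G e).1 ?_⟩
    rw [← NatTrans.naturality_apply η, hxy]
  · intro A B C p q hp hq
    refine (relCmp_surjective_iff η _).2 fun x y hxy => ?_
    obtain ⟨z₁, h1, h2⟩ := (relCmp_surjective_iff η q).1 hq x (G.map p y) (by rw [hxy, map_map])
    obtain ⟨z, h3, h4⟩ := (relCmp_surjective_iff η p).1 hp z₁ y h2
    exact ⟨z, by rw [← map_map, h3, h1], h4⟩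

lemma app_surjective_of_isSmooth (η : F ⟶ G) (hη : IsSmooth η)
    (h0 : Function.Surjective (η.app (base Λ k))) (A : Art Λ k) : Function.Surjective (η.app A) :=
  fun y => by
    obtain ⟨x, hx⟩ := h0 (G.map (toBase A) y)
    obtain ⟨z, -, hz⟩ := (relCmp_surjective_iff η _).1 (hη (toBase A) A.res_surjective) x y hx
    exact ⟨z, hz⟩

lemma isSmooth_comp (φ : F ⟶ G) (ψ : G ⟶ H) (hφ : IsSmooth φ) (hψ : IsSmooth ψ) : IsSmooth (φ ≫ ψ) :=
  fun B A μ hμ => by
    refine (relCmp_surjective_iff _ μ).2 fun x y e => ?_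
    obtain ⟨w, hw1, hw2⟩ := (relCmp_surjective_iff ψ μ).1 (hψ μ hμ) (φ.app A x) y e
    obtain ⟨z, hz1, hz2⟩ := (relCmp_surjective_iff φ μ).1 (hφ μ hμ) x w hw1.symm
    exact ⟨z, hz1, (congrArg (ψ.app B) hz2).trans hw2⟩

lemma isSmooth_of_comp (φ : F ⟶ G) (ψ : G ⟶ H) (hφ : ∀ A, Function.Surjective (φ.app A))
    (h : IsSmooth (φ ≫ ψ)) : IsSmooth ψ :=
  fun B A μ hμ => by
    refine (relCmp_surjective_iff _ μ).2 fun x y e => ?_
    obtain ⟨x', rfl⟩ := hφ A x
    obtain ⟨z, hz1, hz2⟩ := (relCmp_surjective_iff _ μ).1 (h μ hμ) x' y e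
    exact ⟨φ.app B z, by rw [← NatTrans.naturality_apply φ, hz1], hz2⟩

section Pullback

variable (f : H ⟶ F) (g : G ⟶ F)

lemma isPullback_app (A : Art Λ k) :
    IsPullback ((pullback.fst f g).app A) ((pullback.snd f g).app A) (f.app A) (g.app A) :=
  (IsPullback.of_hasPullback f g).app A

lemma pullback_obj_ext {A : Art Λ k} {x y : (pullback f g).obj A}
    (h₁ : (pullback.fst f g).app A x = (pullback.fst f g).app A y)
    (h₂ : (pullback.snd f g).app A x = (pullback.snd f g).app A y) : x = y :=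
  Types.ext_of_isPullback (isPullback_app f g A) h₁ h₂

lemma pullback_obj_exists {A : Art Λ k} (a : H.obj A) (b : G.obj A) (e : f.app A a = g.app A b) :
    ∃ x : (pullback f g).obj A, (pullback.fst f g).app A x = a ∧ (pullback.snd f g).app A x = b :=
  Types.exists_of_isPullback (isPullback_app f g A) a b e

lemma pullback_w {A : Art Λ k} (x : (pullback f g).obj A) :
    f.app A ((pullback.fst f g).app A x) = g.app A ((pullback.snd f g).app A x) := by
  change (pullback.fst f g ≫ f).app A x = (pullback.snd f g ≫ g).app A x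
  rw [pullback.condition]

lemma isSmooth_pullback_snd (hf : IsSmooth f) : IsSmooth (pullback.snd f g) :=
  fun B A μ hμ => by
    refine (relCmp_surjective_iff _ μ).2 fun x y e => ?_
    obtain ⟨h, h1, h2⟩ := (relCmp_surjective_iff f μ).1 (hf μ hμ) ((pullback.fst f g).app A x) (g.app B y)
      (by rw [pullback_w, e, NatTrans.naturality_apply g])
    obtain ⟨z, z1, z2⟩ := pullback_obj_exists f g h y h2
    refine ⟨z, pullback_obj_ext f g ?_ ?_, z2⟩
    · rw [NatTrans.naturality_apply (pullback.fst f g), z1, h1]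
    · rw [NatTrans.naturality_apply (pullback.snd f g), z2, e]

/-- Comparison maps of a fibre product of functors. -/
lemma cmp_bijective_pullback {B A A' A'' : Art Λ k} {p' : B ⟶ A'} {p'' : B ⟶ A''} {f' : A' ⟶ A}
    {f'' : A'' ⟶ A} (h : IsFibreProd p' p'' f' f'') (hH : Function.Bijective (cmp H h))
    (hG : Function.Bijective (cmp G h)) (hF : Function.Injective (cmp F h)) :
    Function.Bijective (cmp (pullback f g) h) := by
  have n1 := fun {X Y : Art Λ k} (u : X ⟶ Y) x => NatTrans.naturality_apply (pullback.fst f g) u x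
  have n2 := fun {X Y : Art Λ k} (u : X ⟶ Y) x => NatTrans.naturality_apply (pullback.snd f g) u x
  refine ⟨(cmp_injective_iff h).2 fun z₁ z₂ e₁ e₂ => pullback_obj_ext f g ?_ ?_,
    (cmp_surjective_iff h).2 fun x' x'' e => ?_⟩
  · exact (cmp_injective_iff h).1 hH.1 _ _ (by rw [← n1, ← n1, e₁]) (by rw [← n1, ← n1, e₂])
  · exact (cmp_injective_iff h).1 hG.1 _ _ (by rw [← n2, ← n2, e₁]) (by rw [← n2, ← n2, e₂])
  · obtain ⟨a, a1, a2⟩ := (cmp_surjective_iff h).1 hH.2 ((pullback.fst f g).app A' x')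
      ((pullback.fst f g).app A'' x'') (by rw [← n1, ← n1, e])
    obtain ⟨b, b1, b2⟩ := (cmp_surjective_iff h).1 hG.2 ((pullback.snd f g).app A' x')
      ((pullback.snd f g).app A'' x'') (by rw [← n2, ← n2, e])
    have hab : f.app B a = g.app B b := (cmp_injective_iff h).1 hF _ _
      (by rw [← NatTrans.naturality_apply f, ← NatTrans.naturality_apply g, a1, b1, pullback_w])
      (by rw [← NatTrans.naturality_apply f, ← NatTrans.naturality_apply g, a2, b2, pullback_w])
    obtain ⟨z, z1, z2⟩ := pullback_obj_exists f g a b hab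
    exact ⟨z, pullback_obj_ext f g (by rw [n1, z1, a1]) (by rw [n2, z2, b1]),
      pullback_obj_ext f g (by rw [n1, z1, a2]) (by rw [n2, z2, b2])⟩

end Pullback

section Prod

lemma prod_obj_exists (F G : Art Λ k ⥤ Type v) {A : Art Λ k} (a : F.obj A) (b : G.obj A) :
    ∃ x : (F ⨯ G).obj A, (prod.fst : F ⨯ G ⟶ F).app A x = a ∧ (prod.snd : F ⨯ G ⟶ G).app A x = b := by
  let E := (evaluation (Art Λ k) (Type v)).obj A
  refine ⟨((Types.binaryProductIso (F.obj A) (G.obj A)).inv ≫ inv (prodComparison E F G)) ((a, b) : F.obj A × G.obj A), ?_, ?_⟩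
  · have h : ((Types.binaryProductIso (F.obj A) (G.obj A)).inv ≫ inv (prodComparison E F G)) ≫
        E.map prod.fst = ↾Prod.fst := by
      rw [Category.assoc, inv_prodComparison_map_fst]
      exact Types.binaryProductIso_inv_comp_fst _ _
    exact ConcreteCategory.congr_hom h ((a, b) : F.obj A × G.obj A)
  · have h : ((Types.binaryProductIso (F.obj A) (G.obj A)).inv ≫ inv (prodComparison E F G)) ≫
        E.map prod.snd = ↾Prod.snd := by
      rw [Category.assoc, inv_prodComparison_map_snd]
      exact Types.binaryProductIso_inv_comp_snd _ _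
    exact ConcreteCategory.congr_hom h ((a, b) : F.obj A × G.obj A)

lemma prod_obj_ext (F G : Art Λ k ⥤ Type v) {A : Art Λ k} {x y : (F ⨯ G).obj A}
    (h₁ : (prod.fst : F ⨯ G ⟶ F).app A x = (prod.fst : F ⨯ G ⟶ F).app A y)
    (h₂ : (prod.snd : F ⨯ G ⟶ G).app A x = (prod.snd : F ⨯ G ⟶ G).app A y) : x = y := by
  let E := (evaluation (Art Λ k) (Type v)).obj A
  have e : ∀ z, (prodComparison E F G ≫ (Types.binaryProductIso (F.obj A) (G.obj A)).hom) z =
      ((prod.fst : F ⨯ G ⟶ F).app A z, (prod.snd : F ⨯ G ⟶ G).app A z) := fun z => by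
    refine Prod.ext ?_ ?_
    · have h : prodComparison E F G ≫ (Types.binaryProductIso (F.obj A) (G.obj A)).hom ≫ ↾Prod.fst =
          E.map prod.fst := by
        rw [Types.binaryProductIso_hom_comp_fst]
        exact prodComparison_fst E F G
      exact ConcreteCategory.congr_hom h z
    · have h : prodComparison E F G ≫ (Types.binaryProductIso (F.obj A) (G.obj A)).hom ≫ ↾Prod.snd =
          E.map prod.snd := by
        rw [Types.binaryProductIso_hom_comp_snd]
        exact prodComparison_snd E F G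
      exact ConcreteCategory.congr_hom h z
  refine (isIso_iff_bijective
    (prodComparison E F G ≫ (Types.binaryProductIso (F.obj A) (G.obj A)).hom)).1 inferInstance |>.1 ?_
  rw [e, e, h₁, h₂]

end Prod

end Groth.ArtfunDeform
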