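import Groth.Agent.ArtfunDeform.Smooth
import Groth.Agent.ArtfunDeform.Prorep

/-!
Smoothness criteria for morphisms of deformation functors.
-/

set_option linter.style.haveILetI false
set_option linter.style.longLine false
set_option linter.unusedSectionVars false

universe u v

open CategoryTheory

namespace Groth.ArtfunDeform

open ArtFun ArtFun.Art

variable {Λ : Type u} {k : Type u} [CommRing Λ] [Field k] [Algebra Λ k] [Module.Finite Λ k]
variable {F G : Art Λ k ⥤ Type v}

/-- Criterion for smoothness of a morphism of functors. -/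
theorem isSmooth_of_criterion (η : F ⟶ G) (hF0 : Subsingleton (F.obj (base Λ k))) (hF2 : Heps F)
    (hG1 : Hbar G) (hG2 : Heps G) (ht : Function.Surjective (η.app (dual Λ k)))
    (hl : ∀ ⦃B A : Art Λ k⦄ (μ : B ⟶ A), IsSmallExt μ → ∀ x : F.obj A,
      (∃ y : G.obj B, G.map μ y = η.app A x) → ∃ x' : F.obj B, F.map μ x' = x) : IsSmooth η := by
  refine isSmooth_of_smallExt η fun B A μ hμ => (relCmp_surjective_iff η μ).2 fun x y e => ?_
  obtain ⟨x', hx'⟩ := hl μ hμ x ⟨y, e.symm⟩
  obtain ⟨P, q₁, q₂, hP⟩ := exists_isFibreProd μ μ hμ.1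
  obtain ⟨t, hker⟩ := hμ.2.2.1.principal
  change RingHom.ker μ.toAlgHom = Ideal.span {t} at hker
  obtain ⟨g, hg⟩ := exists_isDiff hμ hker hP
  have hfp := isFibreProd_diff hμ hker hP hg
  obtain ⟨w, hw1, hw2⟩ := exists_action hG1 hμ hP (η.app B x') y
    (by rw [← NatTrans.naturality_apply η, hx', e])
  obtain ⟨δ, hδ⟩ := ht (G.map g w)
  obtain ⟨χ, hχ1, hχ2⟩ := (cmp_surjective_iff hfp).1 (hF2 _ _ hfp).2 x' δ (Subsingleton.elim _ _)
  refine ⟨F.map q₂ χ, ?_, ?_⟩
  · rw [map_map, ← hP.w, ← map_map, hχ1, hx']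
  · have hw : η.app P χ = w := by
      refine (cmp_injective_iff hfp).1 (hG2 _ _ hfp).1 _ _ ?_ ?_
      · rw [← NatTrans.naturality_apply η, hχ1, hw1]
      · rw [← NatTrans.naturality_apply η, hχ2, hδ]
    rw [NatTrans.naturality_apply η, hw, hw2]

end Groth.ArtfunDeform
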