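import Groth.Agent.ArtfunDeform.PowerSeries
import Groth.Agent.ArtfunDeform.FormallySmooth

/-!
Smooth morphisms of coefficient rings are power series extensions.
-/

set_option linter.style.haveILetI false
set_option linter.style.longLine false
set_option linter.unusedSectionVars false

universe u v

open CategoryTheory

namespace Groth.ArtfunDeform

open ArtFun ArtFun.Art MvPowerSeries

variable {Λ : Type u} {k : Type u} [CommRing Λ] [Field k] [Algebra Λ k]

local notation "𝔪" => IsLocalRing.maximalIdeal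

lemma cring_map_mem {R S : CRing Λ k} (f : R.carrier →ₐ[Λ] S.carrier) (hf : S.res.comp f = R.res)
    {x : R.carrier} (hx : x ∈ 𝔪 R.carrier) : f x ∈ 𝔪 S.carrier := by
  rw [CRing.mem_maximalIdeal_iff] at hx ⊢
  rwa [res_comp_apply' f hf]

lemma cring_map_le {R S : CRing Λ k} (f : R.carrier →ₐ[Λ] S.carrier) (hf : S.res.comp f = R.res) :
    Ideal.map f (𝔪 R.carrier) ≤ 𝔪 S.carrier :=
  Ideal.map_le_iff_le_comap.2 fun _ hx => cring_map_mem f hf hx

/-- An endomorphism congruent to the identity on the cotangent space is bijective. -/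
theorem bijective_of_congr {T : CRing Λ k} (h : T.carrier →ₐ[Λ] T.carrier) (hh : T.res.comp h = T.res)
    (hc : ∀ p ∈ 𝔪 T.carrier, p - h p ∈ Ideal.map h (𝔪 T.carrier) ⊔ (𝔪 T.carrier) ^ 2) :
    Function.Bijective h := by
  refine bijective_of_surjective_endo h.toRingHom
    (surjective_of_map_maximalIdeal h.toRingHom (exists_sub_mem h hh) ?_)
  refine le_antisymm (sup_le (cring_map_le h hh) (Ideal.pow_le_self (by decide))) fun p hp => ?_
  have h1 : h p ∈ Ideal.map h (𝔪 T.carrier) ⊔ (𝔪 T.carrier) ^ 2 :=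
    Ideal.mem_sup_left (Ideal.mem_map_of_mem h hp)
  have := add_mem (hc p hp) h1
  rwa [sub_add_cancel] at this

/-- Elements of the maximal ideal of power series. -/
lemma ps_mem_decomp (R : CRing Λ k) {n : ℕ} {p : (psRing R n).carrier} (hp : p ∈ 𝔪 (psRing R n).carrier) :
    ∃ a ∈ 𝔪 R.carrier, ∃ h : Fin n → (psRing R n).carrier, p = psC R n a + ∑ i, psX R i * h i := by
  obtain ⟨h, hh⟩ := ps_decomp R p
  exact ⟨_, (mem_maximalIdeal_ps _).1 hp, h, hh⟩

/-- Power series are smooth over the constants. -/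
theorem exists_lift_ps [Module.Finite Λ k] (R : CRing Λ k) {n : ℕ} {B A : Art Λ k} (μ : B ⟶ A)
    (hμ : Function.Surjective μ) (φ : HomSet (psRing R n).carrier (psRing R n).res A)
    (y : HomSet R.carrier R.res B) (e : ∀ a, μ (y.1 a) = φ.1 (psC R n a)) :
    ∃ ψ : HomSet (psRing R n).carrier (psRing R n).res B, HomSet.map μ ψ = φ ∧ ψ.1.comp (psC R n) = y.1 := by
  choose z hz using fun i : Fin n => hμ (φ.1 (psX R i))
  have hzm : ∀ i, z i ∈ 𝔪 B := fun i => by
    rw [Art.mem_maximalIdeal_iff, ← res_app μ, hz, homSet_res, ← CRing.mem_maximalIdeal_iff]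
    exact psX_mem R i
  haveI := isAdicComplete_artinian B
  obtain ⟨θ, hθC, hθX⟩ := exists_eval R y.1 z hzm
  have h1 : μ.toAlgHom.comp θ = φ.1 := by
    refine eval_ext R (AlgHom.ext fun a => ?_) (fun i => ?_) fun i => ?_
    · exact (congrArg μ.toAlgHom (congrArg (fun t : R.carrier →ₐ[Λ] B => t a) hθC)).trans (e a)
    · exact (congrArg μ.toAlgHom (hθX i)).trans (hz i)
    · rw [Art.mem_maximalIdeal_iff]
      change A.res (μ (θ (psX R i))) = 0
      rw [res_app, hθX, ← Art.mem_maximalIdeal_iff]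
      exact hzm i
  refine ⟨⟨θ, AlgHom.ext fun p => ?_⟩, Subtype.ext h1, hθC⟩
  change B.res (θ p) = _
  rw [← res_app μ]
  exact (congrArg (fun t : (psRing R n).carrier →ₐ[Λ] A => A.res (t p)) h1).trans (homSet_res φ p)

/-- A smooth extension is a power series ring. -/
theorem exists_ps_bijective (R S : CRing Λ k) (f : R.carrier →ₐ[Λ] S.carrier) (hf : S.res.comp f = R.res)
    (hlift : ∀ ⦃B A : Art Λ k⦄ (μ : B ⟶ A), Function.Surjective μ → ∀ (φ : HomSet S.carrier S.res A)
      (y : HomSet R.carrier R.res B), (∀ a, μ (y.1 a) = φ.1 (f a)) →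
        ∃ ψ : HomSet S.carrier S.res B, HomSet.map μ ψ = φ ∧ ψ.1.comp f = y.1) :
    ∃ (n : ℕ) (θ : (psRing R n).carrier →ₐ[Λ] S.carrier),
      θ.comp (psC R n) = f ∧ S.res.comp θ = (psRing R n).res ∧ Function.Bijective θ := by
  classical
  let J0 := Ideal.map f (𝔪 R.carrier) ⊔ (𝔪 S.carrier) ^ 2
  have hJ0 : J0 ≤ 𝔪 S.carrier := sup_le (cring_map_le f hf) (Ideal.pow_le_self (by decide))
  have hex : ∃ n, ∃ x : Fin n → S.carrier, (∀ i, x i ∈ 𝔪 S.carrier) ∧
      𝔪 S.carrier ≤ Ideal.span (Set.range x) ⊔ J0 := by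
    obtain ⟨m, hm⟩ := IsNoetherian.noetherian (𝔪 S.carrier)
    refine ⟨m.card, fun i => (m.equivFin.symm i).1, fun i => hm.le (Submodule.subset_span (m.equivFin.symm i).2),
      hm.ge.trans ((Submodule.span_mono fun a ha => ?_).trans le_sup_left)⟩
    exact ⟨m.equivFin ⟨a, ha⟩, by simp⟩
  obtain ⟨x, hxm, hx⟩ := Nat.find_spec hex
  let n := Nat.find hex
  have hmin : ∀ c : Fin n → S.carrier, (∑ i, c i * x i) ∈ J0 → ∀ i, c i ∈ 𝔪 S.carrier := by
    intro c hc i
    by_contra hci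
    have hn : 0 < n := i.pos
    obtain ⟨n', hn'⟩ : ∃ n', n = n' + 1 := ⟨n - 1, by omega⟩
    refine Nat.find_min hex (m := n') (show n' < n by omega) ?_
    let e : Fin n' → Fin n := fun j => Fin.cast hn'.symm ((Fin.cast hn' i).succAbove j)
    refine ⟨x ∘ e, fun j => hxm _, hx.trans (sup_le (Ideal.span_le.2 ?_) le_sup_right)⟩
    rintro _ ⟨j, rfl⟩
    by_cases hji : j = i
    · subst hji
      obtain ⟨u, hu⟩ := IsLocalRing.notMem_maximalIdeal.1 hci
      have h1 : c j * x j ∈ Ideal.span (Set.range (x ∘ e)) ⊔ J0 := by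
        have h2 : (∑ l, c l * x l) - ∑ l ∈ Finset.univ.erase j, c l * x l ∈
            Ideal.span (Set.range (x ∘ e)) ⊔ J0 := by
          refine sub_mem (Ideal.mem_sup_right hc) (Ideal.mem_sup_left (Ideal.sum_mem _ fun l hl => ?_))
          refine Ideal.mul_mem_left _ _ (Ideal.subset_span ?_)
          obtain ⟨l', hl'⟩ := Fin.exists_succAbove_eq (x := Fin.cast hn' l) (y := Fin.cast hn' j)
            (fun h => (Finset.mem_erase.1 hl).1 (Fin.cast_injective hn' h))
          exact ⟨l', congrArg x (Fin.ext (congrArg Fin.val hl' :))⟩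
        rwa [← Finset.add_sum_erase _ _ (Finset.mem_univ j), add_sub_cancel_right] at h2
      rw [← hu] at h1
      have h3 := Ideal.mul_mem_left _ (↑u⁻¹ : S.carrier) h1
      rwa [← mul_assoc, Units.inv_mul, one_mul] at h3
    · refine Ideal.mem_sup_left (Ideal.subset_span ?_)
      obtain ⟨l', hl'⟩ := Fin.exists_succAbove_eq (x := Fin.cast hn' j) (y := Fin.cast hn' i)
        (fun h => hji (Fin.cast_injective hn' h))
      exact ⟨l', congrArg x (Fin.ext (congrArg Fin.val hl' :))⟩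
  let P := psRing R n
  obtain ⟨θ, hθC, hθX⟩ := exists_eval R (n := n) f x hxm
  have hθC' : ∀ a, θ (psC R n a) = f a := fun a => congrArg (fun t : R.carrier →ₐ[Λ] S.carrier => t a) hθC
  have hθres : S.res.comp θ = P.res := by
    refine AlgHom.ext fun p => ?_
    obtain ⟨h, hh⟩ := ps_decomp R p
    rw [hh]
    simp only [map_add, map_sum, map_mul, AlgHom.comp_apply, hθC', hθX]
    rw [res_comp_apply' f hf, res_comp_apply' (psC R n) (psC_res R n)]
    congr 1
    refine Finset.sum_congr rfl fun i _ => ?_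
    rw [(CRing.mem_maximalIdeal_iff S _).1 (hxm i), (CRing.mem_maximalIdeal_iff P _).1 (psX_mem R i),
      zero_mul, zero_mul]
  have hθs : Function.Surjective θ := by
    refine surjective_of_map_maximalIdeal θ.toRingHom (exists_sub_mem θ hθres) ?_
    refine le_antisymm (sup_le (cring_map_le θ hθres) (Ideal.pow_le_self (by decide))) ?_
    refine hx.trans (sup_le (Ideal.span_le.2 ?_) (sup_le_sup ?_ le_rfl))
    · rintro _ ⟨i, rfl⟩
      refine Ideal.mem_sup_left ?_
      rw [← hθX i]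
      exact Ideal.mem_map_of_mem _ (psX_mem R i)
    · refine Ideal.map_le_iff_le_comap.2 fun a ha => ?_
      rw [Ideal.mem_comap, ← hθC']
      exact Ideal.mem_map_of_mem θ.toRingHom (cring_map_mem (psC R n) (psC_res R n) ha)
  let J1 := Ideal.map (psC R n) (𝔪 R.carrier) ⊔ (𝔪 P.carrier) ^ 2
  have hker : ∀ p, θ p ∈ J0 → p ∈ J1 := by
    intro p hp
    have hpm : p ∈ 𝔪 P.carrier := by
      rw [CRing.mem_maximalIdeal_iff, ← res_comp_apply' θ hθres, ← CRing.mem_maximalIdeal_iff]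
      exact hJ0 hp
    obtain ⟨a, ha, h, rfl⟩ := ps_mem_decomp R hpm
    have h1 : θ (psC R n a) ∈ J0 := by
      rw [hθC']
      exact Ideal.mem_sup_left (Ideal.mem_map_of_mem f ha)
    rw [map_add, map_sum] at hp
    have h2 := (Ideal.add_mem_iff_right _ h1).1 hp
    have h3 : ∀ i, θ (h i) ∈ 𝔪 S.carrier := hmin (fun i => θ (h i)) (by
      simpa only [map_mul, hθX, mul_comm] using h2)
    refine add_mem (Ideal.mem_sup_left (Ideal.mem_map_of_mem _ ha)) (Ideal.mem_sup_right ?_)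
    refine Ideal.sum_mem _ fun i _ => ?_
    rw [pow_two]
    refine Ideal.mul_mem_mul (psX_mem R i) ?_
    rw [CRing.mem_maximalIdeal_iff, ← res_comp_apply' θ hθres, ← CRing.mem_maximalIdeal_iff]
    exact h3 i
  let K : Ideal (P.trunc 1) := J1.map (P.truncHom 1).1
  have hJ1m : J1 ≤ 𝔪 P.carrier :=
    sup_le (cring_map_le (psC R n) (psC_res R n)) (Ideal.pow_le_self (by decide))
  have hK : K ≤ 𝔪 (P.trunc 1) := by
    refine Ideal.map_le_iff_le_comap.2 fun q hq => ?_
    rw [Ideal.mem_comap, Art.mem_maximalIdeal_iff, homSet_res, ← CRing.mem_maximalIdeal_iff]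
    exact hJ1m hq
  let q := Art.quotMk (P.trunc 1) K hK
  have hqJ : ∀ p : P.carrier, q ((P.truncHom 1).1 p) = 0 ↔ p ∈ J1 := by
    intro p
    refine (quotMk_eq_zero_iff hK _).trans ⟨fun h => ?_, fun h => Ideal.mem_map_of_mem _ h⟩
    obtain ⟨p', hp', e⟩ := (Ideal.mem_map_iff_of_surjective _ (truncHom_surjective P 1)).1 h
    have h1 : p - p' ∈ CRing.mpow P 1 :=
      (truncHom_eq_zero_iff P 1 _).1 (by rw [map_sub, sub_eq_zero]; exact e.symm)
    have h2 := add_mem (Ideal.mem_sup_right (h1 : p - p' ∈ (𝔪 P.carrier) ^ 2) : p - p' ∈ J1) hp'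
    rwa [sub_add_cancel] at h2
  let π := HomSet.map q (P.truncHom 1)
  let e := Ideal.quotientKerAlgEquivOfSurjective hθs
  have hle : RingHom.ker θ ≤ RingHom.ker π.1 := fun p hp =>
    (hqJ p).2 (hker p (by rw [show θ p = 0 from hp]; exact zero_mem _))
  let g1 : S.carrier →ₐ[Λ] Art.quot (P.trunc 1) K hK :=
    (Ideal.Quotient.liftₐ (RingHom.ker θ) π.1 fun _ ha => hle ha).comp e.symm.toAlgHom
  have hg1 : ∀ p, g1 (θ p) = π.1 p := fun p => by
    have he : e.symm (θ p) = Ideal.Quotient.mk (RingHom.ker θ) p := e.symm_apply_eq.2 rfl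
    change Ideal.Quotient.liftₐ (RingHom.ker θ) π.1 (fun _ ha => hle ha) (e.symm (θ p)) = _
    rw [he]
    rfl
  let φ1 : HomSet S.carrier S.res (Art.quot (P.trunc 1) K hK) := ⟨g1, AlgHom.ext fun s => by
    obtain ⟨p, rfl⟩ := hθs s
    change Art.res _ (g1 (θ p)) = S.res (θ p)
    rw [hg1, homSet_res, res_comp_apply' θ hθres]⟩
  let Cn : ∀ m, HomSet R.carrier R.res (P.trunc m) := fun m =>
    ⟨(P.truncHom m).1.comp (psC R n), by rw [← AlgHom.comp_assoc, (P.truncHom m).2, psC_res]⟩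
  obtain ⟨ψ1, hψ1, hψ1C⟩ := hlift q (Art.quotMk_surjective _ _ _) φ1 (Cn 1) fun a =>
    ((congrArg g1 (hθC' a).symm).trans (hg1 _)).symm
  have step : ∀ m (ψ : {ψ : HomSet S.carrier S.res (P.trunc (m + 1)) // ψ.1.comp f = (Cn (m + 1)).1}),
      ∃ ψ' : {ψ : HomSet S.carrier S.res (P.trunc (m + 1 + 1)) // ψ.1.comp f = (Cn (m + 1 + 1)).1},
        HomSet.map (P.truncMap (m + 1)) ψ'.1 = ψ.1 := by
    intro m ψ
    obtain ⟨ψ', h1, h2⟩ := hlift (P.truncMap (m + 1)) (truncMap_surjective P (m + 1)) ψ.1 (Cn (m + 1 + 1)) fun a => by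
      refine Eq.trans ?_ (congrArg (fun t : R.carrier →ₐ[Λ] P.trunc (m + 1) => t a) ψ.2).symm
      exact congrArg (fun t : HomSet P.carrier P.res (P.trunc (m + 1)) => t.1 (psC R n a)) (P.truncMap_truncHom (m + 1))
    exact ⟨⟨ψ', h2⟩, h1⟩
  let seq : ∀ m, {ψ : HomSet S.carrier S.res (P.trunc (m + 1)) // ψ.1.comp f = (Cn (m + 1)).1} := fun m =>
    Nat.rec ⟨ψ1, hψ1C⟩ (fun m ψ => (step m ψ).choose) m
  obtain ⟨g, hg, hgn⟩ := exists_hom_of_truncs (fun m => HomSet.map (P.truncMap m) (seq m).1) fun m =>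
    congrArg (HomSet.map (P.truncMap m)) (step m (seq m)).choose_spec
  have hgC : g.comp f = psC R n := hom_ext_trunc fun m => AlgHom.ext fun a => by
    have h1 := congrArg (fun t : HomSet S.carrier S.res (P.trunc m) => t.1 (f a)) (hgn m)
    refine h1.trans ?_
    change (P.truncMap m) ((seq m).1.1 (f a)) = _
    rw [show (seq m).1.1 (f a) = (Cn (m + 1)).1 a from
      congrArg (fun t : R.carrier →ₐ[Λ] P.trunc (m + 1) => t a) (seq m).2]
    exact congrArg (fun t : HomSet P.carrier P.res (P.trunc m) => t.1 (psC R n a)) (P.truncMap_truncHom m)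
  have hgJ : ∀ p, g (θ p) - p ∈ J1 := fun p => by
    rw [← hqJ, map_sub, map_sub, sub_eq_zero]
    have h1 : (P.truncHom 1).1 (g (θ p)) = P.truncMap 1 ((seq 1).1.1 (θ p)) :=
      congrArg (fun t : HomSet S.carrier S.res (P.trunc 1) => t.1 (θ p)) (hgn 1)
    rw [h1, show P.truncMap 1 ((seq 1).1.1 (θ p)) = ψ1.1 (θ p) from
      congrArg (fun t : HomSet S.carrier S.res (P.trunc 1) => t.1 (θ p)) (step 0 ⟨ψ1, hψ1C⟩).choose_spec]
    exact (congrArg (fun t : HomSet S.carrier S.res (Art.quot (P.trunc 1) K hK) => t.1 (θ p)) hψ1).trans (hg1 p)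
  have hh : P.res.comp (g.comp θ) = P.res := by rw [← AlgHom.comp_assoc, hg, hθres]
  have hb : Function.Bijective (g.comp θ) := by
    refine bijective_of_congr _ hh fun p _ => ?_
    have h1 : J1 ≤ Ideal.map (g.comp θ) (𝔪 P.carrier) ⊔ (𝔪 P.carrier) ^ 2 := by
      refine sup_le_sup (Ideal.map_le_iff_le_comap.2 fun a ha => ?_) le_rfl
      rw [Ideal.mem_comap]
      have h2 : (g.comp θ) (psC R n a) = psC R n a :=
        (congrArg g (hθC' a)).trans (congrArg (fun t : R.carrier →ₐ[Λ] P.carrier => t a) hgC)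
      rw [← h2]
      exact Ideal.mem_map_of_mem _ (cring_map_mem (psC R n) (psC_res R n) ha)
    refine h1 ?_
    rw [← neg_sub, neg_mem_iff]
    exact hgJ p
  exact ⟨n, θ, hθC, hθres, ⟨fun p p' e => hb.1 (congrArg g e), hθs⟩⟩

end Groth.ArtfunDeform
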