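import Mathlib.RingTheory.Smooth.Locus
import Mathlib.RingTheory.Smooth.Kaehler
import Mathlib.Algebra.TrivSqZeroExt.Basic
import Mathlib.LinearAlgebra.Dual.Lemmas

/-!
Square-zero extensions of algebras and extensions of modules of differentials.
-/

set_option autoImplicit false
set_option linter.style.haveILetI false
set_option linter.style.longLine false

universe u

open TensorProduct KaehlerDifferential

namespace Groth.ArtfunDeform.SqZeroExt

variable {A B : Type u} [CommRing A] [CommRing B] [Algebra A B]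

/-- At a submonoid with formally smooth localisation, the conormal map of a square-zero extension is injective. -/
theorem exists_smul_eq_zero (P : Algebra.Extension.{u} A B) (hsq : P.ker ^ 2 = ⊥) (M : Submonoid B)
    [Algebra.FormallySmooth A (Localization M)] (x : P.Cotangent) (hx : P.cotangentComplex x = 0) :
    ∃ m ∈ M, m • x = 0 := by
  obtain ⟨i, rfl⟩ := Algebra.Extension.Cotangent.mk_surjective x
  let P' : Algebra.Extension A (Localization M) := P.localization M
  have key : ∀ y : Localization (M.comap (algebraMap P.Ring B)), (y : P'.Ring) ∈ P'.ker →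
      ∃ (j : P.Ring) (s : M.comap (algebraMap P.Ring B)),
      j ∈ P.ker ∧ y = IsLocalization.mk' (Localization (M.comap (algebraMap P.Ring B))) j s := by
    intro y hy
    obtain ⟨e, s, rfl⟩ := IsLocalization.exists_mk'_eq (M.comap (algebraMap P.Ring B)) y
    have h0 : algebraMap B (Localization M) (algebraMap P.Ring B e) = 0 := by
      have h1 : IsLocalization.lift (M := M.comap (algebraMap P.Ring B))
          (g := (algebraMap B (Localization M)).comp (algebraMap P.Ring B))
          (fun y => IsLocalization.map_units (Localization M) (⟨_, y.2⟩ : M))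
          (IsLocalization.mk' (Localization (M.comap (algebraMap P.Ring B))) e s) = 0 := hy
      rwa [IsLocalization.lift_mk'_spec, mul_zero] at h1
    obtain ⟨⟨m, hm⟩, hme⟩ := (IsLocalization.map_eq_zero_iff M _ _).1 h0
    obtain ⟨n, hn⟩ := P.algebraMap_surjective m
    have hn' : n ∈ M.comap (algebraMap P.Ring B) := by simpa [hn] using hm
    refine ⟨n * e, ⟨n, hn'⟩ * s, ?_, ?_⟩
    · rw [RingHom.mem_ker, map_mul, hn]; exact hme
    · exact IsLocalization.mk'_eq_of_eq (by simp only [Submonoid.coe_mul]; ring)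
  have hsq' : (RingHom.ker (algebraMap P'.Ring (Localization M))) ^ 2 = ⊥ := by
    rw [eq_bot_iff, pow_two, Ideal.mul_le]
    intro y hy z hz
    obtain ⟨j, s, hj, rfl⟩ := key y hy
    obtain ⟨j', s', hj', rfl⟩ := key z hz
    have : j * j' = 0 := by
      rw [← Ideal.mem_bot, ← hsq, pow_two]
      exact Ideal.mul_mem_mul hj hj'
    rw [Ideal.mem_bot]
    show IsLocalization.mk' (Localization (M.comap (algebraMap P.Ring B))) j s * IsLocalization.mk' _ j' s' = 0
    rw [← IsLocalization.mk'_mul, this, IsLocalization.mk'_zero]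
  obtain ⟨g, hg⟩ : ∃ g : Localization M →ₐ[A] P'.Ring,
      (IsScalarTower.toAlgHom A P'.Ring (Localization M)).comp g = AlgHom.id A (Localization M) := by
    refine ⟨Algebra.FormallySmooth.liftOfSurjective (AlgHom.id A _)
      (IsScalarTower.toAlgHom A P'.Ring (Localization M)) P'.algebraMap_surjective ⟨2, hsq'⟩, ?_⟩
    exact Algebra.FormallySmooth.comp_liftOfSurjective _ _ _ _
  let ι : P.Ring →+* Localization (M.comap (algebraMap P.Ring B)) := algebraMap P.Ring _
  let f : P.Hom P' :=
    { toRingHom := (ι : P.Ring →+* Localization (M.comap (algebraMap P.Ring B)))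
      toRingHom_algebraMap := fun a =>
        (IsScalarTower.algebraMap_apply A P.Ring (Localization (M.comap (algebraMap P.Ring B))) a).symm
      algebraMap_toRingHom := fun e => by
        show IsLocalization.lift (M := M.comap (algebraMap P.Ring B))
          (g := (algebraMap B (Localization M)).comp (algebraMap P.Ring B))
          (fun y => IsLocalization.map_units (Localization M) (⟨_, y.2⟩ : M))
          (algebraMap P.Ring (Localization (M.comap (algebraMap P.Ring B))) e) = _
        rw [IsLocalization.lift_eq]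
        rfl }
  have hf := Algebra.Extension.CotangentSpace.map_cotangentComplex f (Algebra.Extension.Cotangent.mk i)
  rw [hx, map_zero, Algebra.Extension.Cotangent.map_mk, Algebra.Extension.cotangentComplex_mk] at hf
  have h2 := congrArg (fun t => ((retractionOfSectionOfKerSqZero g hsq' hg) t : P'.Ring)) hf.symm
  simp only [map_zero, ZeroMemClass.coe_zero] at h2
  rw [retractionOfSectionOfKerSqZero_tmul_D] at h2
  have hfi : algebraMap P'.Ring (Localization M) (f.toRingHom i.1) = 0 := by
    rw [f.algebraMap_toRingHom, show algebraMap P.Ring B i.1 = 0 from i.2, map_zero]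
  rw [map_one, one_mul, one_mul, Algebra.Extension.Hom.toAlgHom_apply, hfi, map_zero, sub_zero] at h2
  obtain ⟨⟨c, hc⟩, hci⟩ := (IsLocalization.map_eq_zero_iff (M.comap (algebraMap P.Ring B))
    (Localization (M.comap (algebraMap P.Ring B))) _).1 h2
  refine ⟨algebraMap P.Ring B c, hc, ?_⟩
  rw [algebraMap_smul, ← map_smul, show c • i = 0 from Subtype.ext hci, map_zero]

/-- Over a reduced ring, a square-zero extension by a projective module which is smooth at the minimal primes
has injective conormal map. -/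
theorem cotangentComplex_injective [IsReduced B]
    (hsm : ∀ p : PrimeSpectrum B, p.asIdeal ∈ minimalPrimes B → Algebra.IsSmoothAt A p.asIdeal)
    (P : Algebra.Extension.{u} A B) (hsq : P.ker ^ 2 = ⊥) [Module.Projective B P.Cotangent] :
    Function.Injective P.cotangentComplex := by
  rw [injective_iff_map_eq_zero]
  intro x hx
  refine (Module.forall_dual_apply_eq_zero_iff B x).1 ?_
  intro φ
  have : φ x ∈ nilradical B := by
    rw [show nilradical B = sInf (minimalPrimes B) from (Ideal.sInf_minimalPrimes (I := (⊥ : Ideal B))).symm,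
      Ideal.mem_sInf]
    intro p hp
    have hp' : p ∈ minimalPrimes B := hp
    haveI : p.IsPrime := hp.1.1
    haveI : Algebra.FormallySmooth A (Localization p.primeCompl) := hsm ⟨p, inferInstance⟩ hp'
    obtain ⟨m, hm, hmx⟩ := exists_smul_eq_zero P hsq p.primeCompl x hx
    refine (Ideal.IsPrime.mem_or_mem ‹p.IsPrime› (x := m) (y := φ x) ?_).resolve_left hm
    rw [← smul_eq_mul, ← map_smul, hmx, map_zero]
    exact zero_mem _
  rwa [nilradical_eq_zero, Ideal.zero_eq_bot, Ideal.mem_bot] at this

theorem one_tmul_D_mul (P : Algebra.Extension.{u} A B) (x y : P.Ring) :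
    ((1 : B) ⊗ₜ[P.Ring] D A P.Ring (x * y) : P.CotangentSpace) =
      algebraMap P.Ring B x • ((1 : B) ⊗ₜ[P.Ring] D A P.Ring y : P.CotangentSpace) +
        algebraMap P.Ring B y • ((1 : B) ⊗ₜ[P.Ring] D A P.Ring x : P.CotangentSpace) := by
  rw [Derivation.leibniz, tmul_add, tmul_smul, tmul_smul, algebraMap_smul, algebraMap_smul]

/-- Isomorphic conormal sequences come from isomorphic extensions. -/
theorem exists_hom_bijective (P P' : Algebra.Extension.{u} A B) (hsq : P.ker ^ 2 = ⊥) (hsq' : P'.ker ^ 2 = ⊥)
    (hinj : Function.Injective P.cotangentComplex)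
    (e₁ : P.Cotangent ≃ₗ[B] P'.Cotangent) (e₂ : P.CotangentSpace ≃ₗ[B] P'.CotangentSpace)
    (h₁ : ∀ x, e₂ (P.cotangentComplex x) = P'.cotangentComplex (e₁ x))
    (h₂ : ∀ y, P'.toKaehler (e₂ y) = P.toKaehler y) :
    ∃ f : P.Hom P', Function.Bijective f.toRingHom ∧
      Algebra.Extension.Cotangent.map f = e₁.toLinearMap := by
  have hinj' : Function.Injective P'.cotangentComplex := by
    intro x y hxy
    have hx := h₁ (e₁.symm x)
    have hy := h₁ (e₁.symm y)
    rw [LinearEquiv.apply_symm_apply] at hx hy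
    exact e₁.symm.injective (hinj (e₂.injective (by rw [hx, hy, hxy])))
  -- an element is determined by its image and its differential
  have huniq : ∀ (Q : Algebra.Extension.{u} A B), Q.ker ^ 2 = ⊥ → Function.Injective Q.cotangentComplex →
      ∀ e e' : Q.Ring, algebraMap Q.Ring B e = algebraMap Q.Ring B e' →
        ((1 : B) ⊗ₜ[Q.Ring] D A Q.Ring e : Q.CotangentSpace) = (1 : B) ⊗ₜ[Q.Ring] D A Q.Ring e' → e = e' := by
    intro Q hQ hQinj e e' he hd
    have hmem : e - e' ∈ Q.ker := by rw [RingHom.mem_ker, map_sub, he, sub_self]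
    have h0 : Algebra.Extension.Cotangent.mk (P := Q) ⟨e - e', hmem⟩ = 0 := hQinj (by
      rw [map_zero, Algebra.Extension.cotangentComplex_mk]
      show (1 : B) ⊗ₜ[Q.Ring] D A Q.Ring (e - e') = _
      rw [map_sub, tmul_sub, hd, sub_self])
    rw [Algebra.Extension.Cotangent.mk_eq_zero_iff, hQ, Ideal.mem_bot] at h0
    exact sub_eq_zero.1 h0
  have hlift : ∀ (b : B) (ν : P'.CotangentSpace), P'.toKaehler ν = D A B b →
      ∃ e' : P'.Ring, algebraMap P'.Ring B e' = b ∧ ((1 : B) ⊗ₜ[P'.Ring] D A P'.Ring e' : P'.CotangentSpace) = ν := by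
    intro b ν hν
    have h0 : P'.toKaehler (ν - (1 : B) ⊗ₜ[P'.Ring] D A P'.Ring (P'.σ b)) = 0 := by
      rw [map_sub, hν]
      simp [Algebra.Extension.toKaehler]
    obtain ⟨c, hc⟩ := (P'.exact_cotangentComplex_toKaehler _).1 h0
    obtain ⟨i, rfl⟩ := Algebra.Extension.Cotangent.mk_surjective c
    rw [Algebra.Extension.cotangentComplex_mk] at hc
    refine ⟨P'.σ b + i.1, by rw [map_add, P'.algebraMap_σ, show algebraMap P'.Ring B i.1 = 0 from i.2, add_zero], ?_⟩
    rw [map_add, tmul_add, hc, add_sub_cancel]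
  have hK : ∀ e : P.Ring, P'.toKaehler (e₂ ((1 : B) ⊗ₜ[P.Ring] D A P.Ring e)) = D A B (algebraMap P.Ring B e) := by
    intro e
    rw [h₂]
    simp [Algebra.Extension.toKaehler]
  choose F hF1 hF2 using fun e : P.Ring => hlift _ _ (hK e)
  have hu := huniq P' hsq' hinj'
  let f₀ : P.Ring →+* P'.Ring :=
    { toFun := F
      map_one' := hu _ _ (by rw [hF1, map_one, map_one]) (by rw [hF2]; simp)
      map_zero' := hu _ _ (by rw [hF1, map_zero, map_zero]) (by rw [hF2]; simp)
      map_add' := fun x y => hu _ _ (by rw [hF1, map_add, map_add, hF1, hF1])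
        (by rw [hF2, map_add, tmul_add, map_add, map_add, tmul_add, hF2, hF2])
      map_mul' := fun x y => hu _ _ (by rw [hF1, map_mul, map_mul, hF1, hF1])
        (by rw [hF2, one_tmul_D_mul, one_tmul_D_mul, map_add, map_smul, map_smul, hF1, hF1, hF2, hF2]) }
  let f : P.Hom P' :=
    { toRingHom := f₀
      toRingHom_algebraMap := fun a => hu _ _
        (by rw [show f₀ (algebraMap A P.Ring a) = F (algebraMap A P.Ring a) from rfl, hF1,
          ← IsScalarTower.algebraMap_apply, ← IsScalarTower.algebraMap_apply]; rfl)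
        (by rw [show f₀ (algebraMap A P.Ring a) = F (algebraMap A P.Ring a) from rfl, hF2]; simp)
      algebraMap_toRingHom := fun e => hF1 e }
  refine ⟨f, ⟨fun x y hxy => ?_, fun e' => ?_⟩, ?_⟩
  · have hxy' : F x = F y := hxy
    exact huniq P hsq hinj x y (by rw [← hF1 x, hxy', hF1])
      (e₂.injective (by rw [← hF2 x, hxy', hF2]))
  · have hk : P.toKaehler (e₂.symm ((1 : B) ⊗ₜ[P'.Ring] D A P'.Ring e')) = D A B (algebraMap P'.Ring B e') := by
      rw [← h₂, LinearEquiv.apply_symm_apply]
      simp [Algebra.Extension.toKaehler]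
    have h0 : P.toKaehler (e₂.symm ((1 : B) ⊗ₜ[P'.Ring] D A P'.Ring e') -
        (1 : B) ⊗ₜ[P.Ring] D A P.Ring (P.σ (algebraMap P'.Ring B e'))) = 0 := by
      rw [map_sub, hk]
      simp [Algebra.Extension.toKaehler]
    obtain ⟨c, hc⟩ := (P.exact_cotangentComplex_toKaehler _).1 h0
    obtain ⟨i, rfl⟩ := Algebra.Extension.Cotangent.mk_surjective c
    rw [Algebra.Extension.cotangentComplex_mk] at hc
    refine ⟨P.σ (algebraMap P'.Ring B e') + i.1, hu _ _ ?_ ?_⟩
    · show algebraMap P'.Ring B (F _) = _
      rw [hF1, map_add, P.algebraMap_σ, show algebraMap P.Ring B i.1 = 0 from i.2, add_zero]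
    · show ((1 : B) ⊗ₜ[P'.Ring] D A P'.Ring (F _) : P'.CotangentSpace) = _
      rw [hF2, map_add, tmul_add, hc, add_sub_cancel, LinearEquiv.apply_symm_apply]
  · refine LinearMap.ext fun x => ?_
    apply hinj'
    obtain ⟨i, rfl⟩ := Algebra.Extension.Cotangent.mk_surjective x
    rw [LinearEquiv.coe_coe, ← h₁, Algebra.Extension.Cotangent.map_mk, Algebra.Extension.cotangentComplex_mk,
      Algebra.Extension.cotangentComplex_mk]
    exact hF2 i.1

/-- Every extension of the module of differentials comes from a square-zero extension. -/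
theorem exists_extension (M N : Type u) [AddCommGroup M] [Module B M] [AddCommGroup N] [Module B N]
    (i : M →ₗ[B] N) (q : N →ₗ[B] Ω[B⁄A]) (hi : Function.Injective i) (hq : Function.Surjective q)
    (hex : Function.Exact i q) :
    ∃ P : Algebra.Extension.{u} A B, P.ker ^ 2 = ⊥ ∧
      ∃ (e₁ : P.Cotangent ≃ₗ[B] M) (e₂ : P.CotangentSpace ≃ₗ[B] N),
        (∀ x, e₂ (P.cotangentComplex x) = i (e₁ x)) ∧ (∀ y, q (e₂ y) = P.toKaehler y) := by
  letI : Module Bᵐᵒᵖ N := Module.compHom N ((RingHom.id B).fromOpposite mul_comm)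
  haveI : IsCentralScalar B N := ⟨fun r m => rfl⟩
  let E : Subring (TrivSqZeroExt B N) :=
    { carrier := {t | q t.snd = D A B t.fst}
      mul_mem' := fun {a b} ha hb => by
        simp only [Set.mem_setOf_eq, TrivSqZeroExt.snd_mul, TrivSqZeroExt.fst_mul, map_add, op_smul_eq_smul,
          map_smul, Derivation.leibniz] at *
        rw [ha, hb]
      one_mem' := by simp
      add_mem' := fun {a b} ha hb => by simp at *; rw [ha, hb]
      zero_mem' := by simp
      neg_mem' := fun {a} ha => by simp at *; rw [ha] }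
  letI algA : Algebra A E := (((TrivSqZeroExt.inlHom B N).comp (algebraMap A B)).codRestrict E
    (fun a => show q _ = D A B _ by simp)).toAlgebra
  let π : E →+* B := ((TrivSqZeroExt.fstHom B B N).toRingHom).comp E.subtype
  letI algB : Algebra E B := π.toAlgebra
  haveI : IsScalarTower A E B := .of_algebraMap_eq fun a => rfl
  have hmk : ∀ (b : B) (ν : N), q ν = D A B b → (TrivSqZeroExt.inl b + TrivSqZeroExt.inr ν) ∈ E := fun b ν h => by
    show q _ = D A B _
    simp [h]
  choose σN hσN using fun b : B => hq (D A B b)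
  let P : Algebra.Extension.{u} A B :=
    { Ring := E
      σ := fun b => ⟨_, hmk b (σN b) (hσN b)⟩
      algebraMap_σ := fun b => by
        show (TrivSqZeroExt.inl b + TrivSqZeroExt.inr (σN b) : TrivSqZeroExt B N).fst = b
        simp }
  have hker : ∀ x : P.Ring, x ∈ P.ker ↔ (x.1 : TrivSqZeroExt B N).fst = 0 := fun x => Iff.rfl
  have hsq : P.ker ^ 2 = ⊥ := by
    rw [eq_bot_iff, pow_two, Ideal.mul_le]
    intro x hx y hy
    rw [Ideal.mem_bot]
    refine Subtype.ext (TrivSqZeroExt.ext ?_ ?_)
    · show x.1.fst * y.1.fst = 0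
      rw [(hker x).1 hx, zero_mul]
    · show x.1.fst • y.1.snd + MulOpposite.op y.1.fst • x.1.snd = 0
      rw [op_smul_eq_smul, (hker x).1 hx, (hker y).1 hy, zero_smul, zero_smul, add_zero]
  refine ⟨P, hsq, ?_⟩
  -- the derivation given by the second coordinate
  letI : Module P.Ring N := Module.compHom N (algebraMap P.Ring B)
  haveI : IsScalarTower P.Ring B N := ⟨fun x b n => by rw [Algebra.smul_def, mul_smul]; rfl⟩
  letI : Module A N := Module.compHom N (algebraMap A B)
  haveI : IsScalarTower A P.Ring N := ⟨fun a x n => by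
    show algebraMap P.Ring B (a • x) • n = algebraMap A B a • (algebraMap P.Ring B x • n)
    rw [Algebra.smul_def, map_mul, ← IsScalarTower.algebraMap_apply, mul_smul]⟩
  let δ : Derivation A P.Ring N := Derivation.mk'
    { toFun := fun x => x.1.snd
      map_add' := fun x y => rfl
      map_smul' := fun a x => by
        show (a • x : P.Ring).1.snd = algebraMap A B a • x.1.snd
        rw [Algebra.smul_def]
        show (((TrivSqZeroExt.inl (algebraMap A B a)) : TrivSqZeroExt B N) * x.1).snd = _
        simp }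
    (fun x y => by
      show x.1.fst • y.1.snd + MulOpposite.op y.1.fst • x.1.snd = x.1.fst • y.1.snd + y.1.fst • x.1.snd
      rw [op_smul_eq_smul])
  let Φ : P.CotangentSpace →ₗ[B] N := δ.liftKaehlerDifferential.liftBaseChange B
  have hΦ : ∀ x : P.Ring, Φ ((1 : B) ⊗ₜ[P.Ring] D A P.Ring x) = x.1.snd := fun x => by
    simp only [Φ, LinearMap.liftBaseChange_tmul, one_smul]
    exact δ.liftKaehlerDifferential_comp_D x
  have hqΦ : ∀ y, q (Φ y) = P.toKaehler y := by
    have : q ∘ₗ Φ = P.toKaehler := by
      ext x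
      show q (Φ ((1 : B) ⊗ₜ[P.Ring] D A P.Ring x)) = P.toKaehler ((1 : B) ⊗ₜ[P.Ring] D A P.Ring x)
      rw [hΦ]
      refine Eq.trans (b := D A B (algebraMap P.Ring B x)) x.2 ?_
      simp [Algebra.Extension.toKaehler]
    exact fun y => LinearMap.congr_fun this y
  -- the kernel is `M`
  have hM : ∀ x : P.ker, ∃ m, i m = x.1.1.snd := fun x => (hex _).1 (by
    have : q x.1.1.snd = D A B x.1.1.fst := x.1.2
    rw [this, (hker x.1).1 x.2, map_zero])
  choose g hg using hM
  have hg' : ∀ x y : P.ker, Algebra.Extension.Cotangent.mk x = Algebra.Extension.Cotangent.mk y → g x = g y := by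
    intro x y hxy
    rw [Algebra.Extension.Cotangent.mk_eq_mk_iff_sub_mem, hsq, Ideal.mem_bot, sub_eq_zero] at hxy
    exact hi (by rw [hg, hg, hxy])
  choose r hr using Algebra.Extension.Cotangent.mk_surjective (P := P)
  have hgr : ∀ x : P.ker, g (r (Algebra.Extension.Cotangent.mk x)) = g x := fun x => hg' _ _ (hr _)
  let e₁' : P.Cotangent →ₗ[B] M :=
    { toFun := fun c => g (r c)
      map_add' := fun c d => by
        conv_lhs => rw [← hr c, ← hr d, ← map_add, hgr]
        apply hi
        rw [map_add, hg, hg, hg]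
        rfl
      map_smul' := fun b c => by
        conv_lhs => rw [← hr c, ← P.algebraMap_σ b, algebraMap_smul, ← map_smul, hgr]
        apply hi
        rw [RingHom.id_apply, map_smul, hg, hg]
        show ((P.σ b).1 * (r c).1.1).snd = _
        rw [TrivSqZeroExt.snd_mul, (hker _).1 (r c).2, MulOpposite.op_zero, zero_smul, add_zero]
        congr 1
        exact P.algebraMap_σ b }
  have hgi : ∀ x : P.ker, i (e₁' (Algebra.Extension.Cotangent.mk x)) = x.1.1.snd := fun x => by
    show i (g (r _)) = _
    rw [hgr, hg]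
  have he₁ : Function.Bijective e₁' := by
    refine ⟨fun c d hcd => ?_, fun m => ?_⟩
    · rw [← hr c, ← hr d] at hcd ⊢
      have := congrArg i hcd
      rw [hgi, hgi] at this
      congr 1
      refine Subtype.ext (Subtype.ext (TrivSqZeroExt.ext ?_ this))
      rw [(hker _).1 (r c).2, (hker _).1 (r d).2]
    · have hm : TrivSqZeroExt.inl (0 : B) + TrivSqZeroExt.inr (i m) ∈ E := hmk 0 (i m) (by
        rw [map_zero]; exact hex.apply_apply_eq_zero m)
      refine ⟨Algebra.Extension.Cotangent.mk ⟨⟨_, hm⟩, (hker _).2 (by simp)⟩, hi ?_⟩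
      rw [hgi]
      simp
  have hΦc : ∀ c, Φ (P.cotangentComplex c) = i (e₁' c) := by
    intro c
    rw [← hr c, Algebra.Extension.cotangentComplex_mk, hgi, hΦ]
  have he₂ : Function.Bijective Φ := by
    constructor
    · rw [injective_iff_map_eq_zero]
      intro z hz
      have h0 : P.toKaehler z = 0 := by rw [← hqΦ, hz, map_zero]
      obtain ⟨c, rfl⟩ := (P.exact_cotangentComplex_toKaehler z).1 h0
      rw [hΦc] at hz
      have : e₁' c = 0 := hi (hz.trans (map_zero i).symm)
      rw [he₁.1 (this.trans (map_zero e₁').symm), map_zero]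
    · intro ν
      obtain ⟨z, hz⟩ := P.toKaehler_surjective (q ν)
      obtain ⟨m, hm⟩ := (hex (ν - Φ z)).1 (by rw [map_sub, hqΦ, hz, sub_self])
      obtain ⟨c, rfl⟩ := he₁.2 m
      refine ⟨z + P.cotangentComplex c, ?_⟩
      rw [map_add, hΦc, hm, add_sub_cancel]
  exact ⟨LinearEquiv.ofBijective e₁' he₁, LinearEquiv.ofBijective Φ he₂, fun c => hΦc c, hqΦ⟩

end Groth.ArtfunDeform.SqZeroExt
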