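import Groth.Agent.ArtfunDeform.MinorsLift
import Mathlib.RingTheory.Smooth.Basic
import Mathlib.RingTheory.Flat.Stability

/-!
Flat deformations of formally smooth algebras over an Artinian base are trivial.
-/

set_option autoImplicit false

universe u

open TensorProduct IsLocalRing

namespace Groth.ArtfunDeform.TrivialDef

open MinorsLift

theorem exists_bijective_lift {k A B B' : Type u} [Field k] [CommRing A] [IsLocalRing A] [IsArtinianRing A]
    [Algebra k A] (e : A →ₐ[k] k) [CommRing B] [Algebra k B] [Algebra.FormallySmooth k B]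
    [CommRing B'] [Algebra A B'] [Algebra k B'] [IsScalarTower k A B'] [Module.Flat A B']
    (ρ : B' →ₐ[k] B) (hρ : Function.Surjective ρ)
    (hker : RingHom.ker ρ.toRingHom = (maximalIdeal A).map (algebraMap A B'))
    (hρA : ∀ a, ρ (algebraMap A B' a) = algebraMap k B (e a)) :
    ∃ φ : B →ₐ[k] B', (∀ b, ρ (φ b) = b) ∧
      Function.Bijective (Algebra.TensorProduct.lift (Algebra.ofId A B') φ (fun _ _ => Commute.all _ _)) := by
  obtain ⟨n, hn⟩ := isNilpotent_maximal (C := A) (B := B')
  have hnil : IsNilpotent (RingHom.ker ρ.toRingHom) := ⟨n, by rw [hker, hn]⟩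
  let φ : B →ₐ[k] B' := Algebra.FormallySmooth.liftOfSurjective (AlgHom.id k B) ρ hρ hnil
  have hφ : ∀ b, ρ (φ b) = b := fun b => Algebra.FormallySmooth.liftOfSurjective_apply _ _ _ _ b
  refine ⟨φ, hφ, ?_⟩
  set Φ := Algebra.TensorProduct.lift (Algebra.ofId A B') φ (fun _ _ => Commute.all _ _) with hΦ
  have hker' : ∀ x, ρ x = 0 → x ∈ (maximalIdeal A).map (algebraMap A B') := fun x hx => hker.le hx
  constructor
  · -- injective
    have hmod : ∀ t : A ⊗[k] B, ρ (Φ t) = 0 → t ∈ (maximalIdeal A).map (algebraMap A (A ⊗[k] B)) := by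
      have key : ∀ t : A ⊗[k] B, t - 1 ⊗ₜ ρ (Φ t) ∈ (maximalIdeal A).map (algebraMap A (A ⊗[k] B)) := by
        intro t
        induction t with
        | zero => simp
        | add x y hx hy =>
          have := add_mem hx hy
          rwa [sub_add_sub_comm, ← tmul_add, ← map_add, ← map_add] at this
        | tmul a b =>
          have h1 : ρ (Φ (a ⊗ₜ b)) = e a • b := by
            rw [hΦ, Algebra.TensorProduct.lift_tmul, map_mul, hφ, Algebra.smul_def]
            exact congrArg (· * b) (hρA a)
          rw [h1, tmul_smul, smul_tmul', ← sub_tmul]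
          have h2 : a - e a • (1 : A) ∈ maximalIdeal A := by
            refine le_maximalIdeal (RingHom.ker_ne_top e.toRingHom) ?_
            rw [RingHom.mem_ker]
            show e (a - e a • (1 : A)) = 0
            rw [map_sub, map_smul, map_one, smul_eq_mul, mul_one, sub_self]
          have h3 : (a - e a • (1 : A)) ⊗ₜ[k] b = algebraMap A (A ⊗[k] B) (a - e a • 1) * (1 ⊗ₜ b) := by
            rw [Algebra.TensorProduct.algebraMap_apply, Algebra.TensorProduct.tmul_mul_tmul, one_mul,
              Algebra.algebraMap_self, RingHom.id_apply, mul_one]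
          rw [h3]
          exact Ideal.mul_mem_right _ _ (Ideal.mem_map_of_mem _ h2)
      intro t ht
      have := key t
      rwa [ht, tmul_zero, sub_zero] at this
    have inj : ∀ J : Ideal A, ∀ z : A ⊗[k] B, z ∈ J.map (algebraMap A (A ⊗[k] B)) → Φ z = 0 → z = 0 := by
      intro J
      induction J using WellFoundedLT.induction with
      | _ J ih =>
        intro z hz h0
        rcases eq_or_ne J ⊥ with rfl | hJ
        · simpa using hz
        obtain ⟨J', c, hlt, -, -, hsup, hmem⟩ := exists_step J hJ
        obtain ⟨z', t, hz', rfl⟩ := decompose hsup hz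
        refine ih J' hlt _ (add_mem hz' (mul_mem_of_mem_max (fun d => (hmem d).1) (hmod t ?_))) h0
        have h1 : algebraMap A B' c * Φ t ∈ J'.map (algebraMap A B') := by
          rw [map_add, map_mul, AlgHom.commutes] at h0
          rw [eq_neg_of_add_eq_zero_right h0]
          refine neg_mem ?_
          have := Ideal.mem_map_of_mem Φ.toRingHom hz'
          rwa [Ideal.map_map, show Φ.toRingHom.comp (algebraMap A (A ⊗[k] B)) = algebraMap A B' from
            Φ.comp_algebraMap] at this
        exact hker.ge (mem_map_of_smul_mem J' _ c (fun d => (hmem d).2) _ h1)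
    rw [injective_iff_map_eq_zero]
    exact fun z hz => inj ⊤ z (by rw [Ideal.map_top]; trivial) hz
  · -- surjective
    suffices H : ∀ m, ∀ x, ∃ t y, y ∈ (maximalIdeal A).map (algebraMap A B') ^ m ∧ Φ t + y = x by
      intro x
      obtain ⟨t, y, hy, rfl⟩ := H n x
      rw [hn] at hy
      exact ⟨t, by rw [show y = 0 from hy, add_zero]⟩
    intro m
    induction m with
    | zero => intro x; exact ⟨0, x, by simp, by simp⟩
    | succ m ih =>
      intro x
      obtain ⟨t, y, hy, rfl⟩ := ih x
      have hy' : ∃ t' y', y' ∈ (maximalIdeal A).map (algebraMap A B') ^ (m + 1) ∧ Φ t' + y' = y := by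
        rw [← Ideal.map_pow] at hy
        induction hy using Submodule.span_induction with
        | mem z hz =>
          obtain ⟨a, ha, rfl⟩ := hz
          exact ⟨algebraMap A _ a, 0, zero_mem _, by rw [AlgHom.commutes, add_zero]⟩
        | zero => exact ⟨0, 0, zero_mem _, by simp⟩
        | add z w _ _ hz hw =>
          obtain ⟨t₁, y₁, h₁, rfl⟩ := hz
          obtain ⟨t₂, y₂, h₂, rfl⟩ := hw
          exact ⟨t₁ + t₂, y₁ + y₂, add_mem h₁ h₂, by rw [map_add]; ring⟩
        | smul r z hzmem hz =>
          obtain ⟨t₁, y₁, h₁, e₁⟩ := hz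
          refine ⟨(1 ⊗ₜ ρ r) * t₁, r * y₁ + (r - φ (ρ r)) * Φ t₁, add_mem (Ideal.mul_mem_left _ _ h₁) ?_, ?_⟩
          · have hz' : z ∈ (maximalIdeal A).map (algebraMap A B') ^ m := by
              rw [← Ideal.map_pow]; exact hzmem
            have : Φ t₁ ∈ (maximalIdeal A).map (algebraMap A B') ^ m := by
              rw [eq_sub_of_add_eq e₁]
              exact sub_mem hz' (Ideal.pow_le_pow_right (Nat.le_succ m) h₁)
            rw [pow_succ']
            exact Ideal.mul_mem_mul (hker' _ (by rw [map_sub, hφ, sub_self])) this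
          · rw [map_mul, hΦ, Algebra.TensorProduct.lift_tmul, map_one, one_mul, ← hΦ, smul_eq_mul, ← e₁]
            ring
      obtain ⟨t', y', hy'', rfl⟩ := hy'
      exact ⟨t + t', y', hy'', by rw [map_add, add_assoc]⟩

end Groth.ArtfunDeform.TrivialDef
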