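import Mathlib.RingTheory.Smooth.Basic
import Mathlib.RingTheory.Flat.EquationalCriterion
import Mathlib.RingTheory.Ideal.Quotient.Operations
import Mathlib.RingTheory.IsTensorProduct
import Mathlib.Algebra.DualNumber
import Mathlib.Algebra.Category.Ring.Constructions
import Groth.Agent.FlatMor2.AffineThickening
import Groth.Agent.FlatMor2.NilBaseChange

/-!
First order deformations of smooth affine schemes with marked rational points are trivial.
-/

set_option autoImplicit false
set_option backward.isDefEq.respectTransparency false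
set_option backward.isDefEq.respectTransparency.types false
set_option linter.style.haveILetI false

universe u v

open TensorProduct

namespace Groth.ArtfunDeform.TrivialMarked

variable {k : Type u} [Field k]

local notation "ε" => (DualNumber.eps : DualNumber k)

theorem dual_eq (d : DualNumber k) :
    d = algebraMap k (DualNumber k) (TrivSqZeroExt.fst d) +
      algebraMap k (DualNumber k) (TrivSqZeroExt.snd d) * ε := by
  ext <;> simp [TrivSqZeroExt.algebraMap_eq_inl]

/-- In a flat module over the dual numbers, the annihilator of `ε` is `ε` times the module. -/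
theorem exists_eq_eps_smul {N : Type u} [AddCommGroup N] [Module (DualNumber k) N]
    [Module.Flat (DualNumber k) N] {x : N} (h : ε • x = 0) : ∃ w : N, x = ε • w := by
  have h' : ∑ i : Fin 1, (fun _ => ε) i • (fun _ => x) i = 0 := by simpa using h
  obtain ⟨κ, a, y, hx, ha⟩ := Module.Flat.isTrivialRelation_of_sum_smul_eq_zero h'
  refine ⟨∑ j, algebraMap k (DualNumber k) (TrivSqZeroExt.snd (a 0 j)) • y j, (hx 0).trans ?_⟩
  rw [Finset.smul_sum]
  refine Finset.sum_congr rfl fun j _ => ?_
  have h0 : ε * a 0 j = 0 := by simpa using ha j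
  have hf : TrivSqZeroExt.fst (a 0 j) = 0 := by simpa using congrArg TrivSqZeroExt.snd h0
  rw [smul_smul]
  conv_lhs => rw [dual_eq (a 0 j), hf, map_zero, zero_add, mul_comm]

variable {B B' : Type u} [CommRing B] [Algebra k B] [CommRing B'] [Algebra (DualNumber k) B']
  [Algebra k B'] [IsScalarTower k (DualNumber k) B']

/-- Derivations with prescribed values at finitely many distinct rational points. -/
theorem exists_derivation [Algebra.FormallySmooth k B] {ι : Type v} [Finite ι] (π : ι → (B →ₐ[k] k))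
    (hinj : Function.Injective π) (δ : ι → (B →ₗ[k] k))
    (hδ : ∀ j a b, δ j (a * b) = π j a * δ j b + π j b * δ j a) :
    ∃ D : Derivation k B B, ∀ j b, π j (D b) = δ j b := by
  classical
  letI : Module B (ι → k) := Module.compHom (ι → k) (Pi.ringHom fun j => (π j).toRingHom)
  have hsmul : ∀ (b : B) (v : ι → k) j, (b • v) j = π j b * v j := fun _ _ _ => rfl
  haveI : IsScalarTower k B (ι → k) := ⟨fun c b v => funext fun j => by
    rw [Pi.smul_apply, hsmul, hsmul, map_smul, smul_eq_mul, smul_eq_mul, mul_assoc]⟩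
  let d : Derivation k B (ι → k) := Derivation.mk'
    (LinearMap.pi δ) fun a b => funext fun j => by
      simp only [LinearMap.pi_apply, Pi.add_apply, hsmul]
      exact hδ j a b
  let e : B →ₗ[B] (ι → k) := LinearMap.toSpanSingleton B (ι → k) (fun _ => 1)
  have he : ∀ b j, e b j = π j b := fun b j => by simp [e, hsmul]
  have hco : Pairwise (Function.onFun IsCoprime fun j => RingHom.ker (π j)) := by
    intro i j hij
    rw [Function.onFun, Ideal.isCoprime_iff_exists]
    obtain ⟨b, hb⟩ := Classical.not_forall.1 fun h => hij (hinj (AlgHom.ext h))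
    have hne : π j b - π i b ≠ 0 := sub_ne_zero.2 fun h => hb h.symm
    let c := algebraMap k B (π j b - π i b)⁻¹
    refine ⟨c * (b - algebraMap k B (π i b)), ?_, c * (algebraMap k B (π j b) - b), ?_, ?_⟩
    · simp [RingHom.mem_ker]
    · simp [RingHom.mem_ker]
    · rw [← mul_add, show b - algebraMap k B (π i b) + (algebraMap k B (π j b) - b) =
        algebraMap k B (π j b - π i b) by rw [map_sub]; ring, ← map_mul, inv_mul_cancel₀ hne, map_one]
  have hsurj : Function.Surjective e := fun v => by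
    obtain ⟨r, hr⟩ := Ideal.exists_forall_sub_mem_ideal hco (fun j => algebraMap k B (v j))
    refine ⟨r, funext fun j => ?_⟩
    have := hr j
    rw [RingHom.mem_ker, map_sub, sub_eq_zero] at this
    rw [he, this, AlgHom.commutes]; rfl
  obtain ⟨g, hg⟩ := Module.projective_lifting_property e d.liftKaehlerDifferential hsurj
  refine ⟨g.compDer (KaehlerDifferential.D k B), fun j b => ?_⟩
  rw [← he]
  exact (congrFun (LinearMap.congr_fun hg (KaehlerDifferential.D k B b)) j).trans
    (congrFun (d.liftKaehlerDifferential_comp_D b) j)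

/-- A flat lift to the dual numbers of a smooth algebra with marked rational points is trivial. -/
theorem exists_marked_splitting [Algebra.FormallySmooth k B] [Module.Flat (DualNumber k) B']
    (ψ : B' →ₐ[k] B) (hψ : Function.Surjective ψ)
    (hker : RingHom.ker ψ = Ideal.span {algebraMap (DualNumber k) B' ε})
    {ι : Type v} [Finite ι] (π : ι → (B →ₐ[k] k)) (hinj : Function.Injective π)
    (π' : ι → (B' →ₐ[DualNumber k] DualNumber k))
    (hπ : ∀ j z, TrivSqZeroExt.fst (π' j z) = π j (ψ z)) :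
    ∃ σ : B →ₐ[k] B', (∀ b, ψ (σ b) = b) ∧
      (∀ j b, π' j (σ b) = algebraMap k (DualNumber k) (π j b)) ∧
      IsBaseChange (DualNumber k) σ.toLinearMap := by
  set η : B' := algebraMap (DualNumber k) B' ε with hη
  have hη2 : η * η = 0 := by rw [hη, ← map_mul, DualNumber.eps_mul_eps, map_zero]
  have hψη : ψ η = 0 := by rw [← RingHom.mem_ker, hker]; exact Ideal.mem_span_singleton_self _
  have hnil : IsNilpotent (RingHom.ker (ψ : B' →+* B)) := ⟨2, by
    show RingHom.ker ψ ^ 2 = 0
    rw [hker, Ideal.span_singleton_pow, sq, hη2, Ideal.zero_eq_bot, Ideal.span_singleton_eq_bot]⟩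
  let σ₀ : B →ₐ[k] B' := Algebra.FormallySmooth.liftOfSurjective (AlgHom.id k B) ψ hψ hnil
  have hσ₀ : ∀ b, ψ (σ₀ b) = b := fun b => Algebra.FormallySmooth.liftOfSurjective_apply _ ψ hψ hnil b
  let δ : ι → (B →ₗ[k] k) := fun j =>
    (TrivSqZeroExt.sndHom k k).comp (((π' j).restrictScalars k).comp σ₀).toLinearMap
  have hδ' : ∀ j b, δ j b = TrivSqZeroExt.snd (π' j (σ₀ b)) := fun _ _ => rfl
  obtain ⟨D, hD⟩ := exists_derivation π hinj δ fun j a b => by
    simp only [hδ', map_mul, TrivSqZeroExt.snd_mul, hπ, hσ₀, smul_eq_mul, MulOpposite.smul_eq_mul_unop,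
      MulOpposite.unop_op]
    ring
  let σ : B →ₐ[k] B' := AlgHom.ofLinearMap
    (σ₀.toLinearMap - (LinearMap.mulLeft k η).comp (σ₀.toLinearMap.comp (D : B →ₗ[k] B)))
    (by simp)
    (fun a b => by
      simp only [LinearMap.sub_apply, LinearMap.comp_apply, AlgHom.toLinearMap_apply,
        LinearMap.mulLeft_apply, Derivation.coeFn_coe, Derivation.leibniz, map_mul, map_add, smul_eq_mul]
      linear_combination (-(σ₀ (D a) * σ₀ (D b))) * hη2)
  have hσ : ∀ b, σ b = σ₀ b - η * σ₀ (D b) := fun _ => rfl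
  have hψσ : ∀ b, ψ (σ b) = b := fun b => by rw [hσ, map_sub, map_mul, hψη, zero_mul, sub_zero, hσ₀]
  refine ⟨σ, hψσ, fun j b => ?_, ?_⟩
  · rw [hσ, map_sub, map_mul, hη, AlgHom.commutes]
    refine TrivSqZeroExt.ext ?_ ?_
    · simp [hπ, hσ₀, TrivSqZeroExt.algebraMap_eq_inl]
    · simp [hπ, hσ₀, hD, hδ', TrivSqZeroExt.algebraMap_eq_inl]
  · let Φ : (DualNumber k ⊗[k] B) →ₗ[DualNumber k] B' := LinearMap.liftBaseChange (DualNumber k) σ.toLinearMap
    have hΦ : ∀ d b, Φ (d ⊗ₜ b) = algebraMap (DualNumber k) B' d * σ b := fun d b => by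
      simp [Φ, Algebra.smul_def]
    have hdec : ∀ z : DualNumber k ⊗[k] B,
        ∃ x y, z = (1 : DualNumber k) ⊗ₜ x + ε ⊗ₜ y := by
      intro z
      induction z using TensorProduct.induction_on with
      | zero => exact ⟨0, 0, by simp⟩
      | add a b ha hb =>
        obtain ⟨x, y, rfl⟩ := ha
        obtain ⟨x', y', rfl⟩ := hb
        exact ⟨x + x', y + y', by rw [TensorProduct.tmul_add, TensorProduct.tmul_add]; abel⟩
      | tmul d b =>
        refine ⟨TrivSqZeroExt.fst d • b, TrivSqZeroExt.snd d • b, ?_⟩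
        rw [← TensorProduct.smul_tmul, ← TensorProduct.smul_tmul, ← TensorProduct.add_tmul,
          Algebra.smul_def, Algebra.smul_def, mul_one, ← dual_eq]
    have hkey : ∀ x y, Φ ((1 : DualNumber k) ⊗ₜ x + ε ⊗ₜ y) = σ x + η * σ y := fun x y => by
      rw [map_add, hΦ, hΦ, map_one, one_mul]
    have hbij : Function.Bijective Φ := by
      refine ⟨(injective_iff_map_eq_zero _).2 fun z hz => ?_, fun z => ?_⟩
      · obtain ⟨x, y, rfl⟩ := hdec z
        rw [hkey] at hz
        have hx : x = 0 := by simpa [hψσ, hψη] using congrArg ψ hz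
        rw [hx, map_zero, zero_add, hη, ← Algebra.smul_def] at hz
        obtain ⟨w, hw⟩ := exists_eq_eps_smul (k := k) (N := B') hz
        have hy : y = 0 := by
          rw [← hψσ y, hw, Algebra.smul_def, ← hη, map_mul, hψη, zero_mul]
        simp [hx, hy]
      · have hmem : ∀ z : B', ∃ w, z = σ (ψ z) + η * w := fun z => by
          have : z - σ (ψ z) ∈ RingHom.ker ψ := by rw [RingHom.mem_ker, map_sub, hψσ, sub_self]
          rw [hker, Ideal.mem_span_singleton'] at this
          obtain ⟨w, hw⟩ := this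
          exact ⟨w, by rw [mul_comm, hw, add_sub_cancel]⟩
        obtain ⟨w, hw⟩ := hmem z
        obtain ⟨w', hw'⟩ := hmem w
        refine ⟨(1 : DualNumber k) ⊗ₜ ψ z + ε ⊗ₜ ψ w, ?_⟩
        rw [hkey]
        conv_rhs => rw [hw, hw', mul_add, ← mul_assoc, hη2, zero_mul, add_zero]
    exact IsBaseChange.of_equiv (LinearEquiv.ofBijective Φ hbij) fun b => by
      show Φ ((1 : DualNumber k) ⊗ₜ b) = _
      rw [hΦ, map_one, one_mul]; rfl

end Groth.ArtfunDeform.TrivialMarked

open AlgebraicGeometry CategoryTheory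

namespace Groth.ArtfunDeform.TrivialMarked

theorem exists_iso (k : Type u) [Field k] (X : Scheme.{u}) (hX : X ⟶ Spec (CommRingCat.of k)) [IsAffine X] [Smooth hX]
    {ι : Type v} [Finite ι] (p : ι → (Spec (CommRingCat.of k) ⟶ X)) (hp : ∀ j, p j ≫ hX = 𝟙 _)
    (hinj : Function.Injective p)
    (X' : Scheme.{u}) (g : X' ⟶ Spec (CommRingCat.of (DualNumber k))) [Flat g] (i : X ⟶ X')
    (hsq : IsPullback i hX g
      (Spec.map (CommRingCat.ofHom (TrivSqZeroExt.fstHom k k k).toRingHom)))
    (p' : ι → (Spec (CommRingCat.of (DualNumber k)) ⟶ X')) (hp' : ∀ j, p' j ≫ g = 𝟙 _)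
    (hpp' : ∀ j, p j ≫ i = Spec.map (CommRingCat.ofHom (TrivSqZeroExt.fstHom k k k).toRingHom) ≫ p' j) :
    ∃ φ : X' ≅ Limits.pullback hX (Spec.map (CommRingCat.ofHom (algebraMap k (DualNumber k)))),
      φ.hom ≫ Limits.pullback.snd hX (Spec.map (CommRingCat.ofHom (algebraMap k (DualNumber k)))) = g ∧
        i ≫ φ.hom ≫ Limits.pullback.fst hX (Spec.map (CommRingCat.ofHom (algebraMap k (DualNumber k)))) = 𝟙 X ∧
          ∀ j, p' j ≫ φ.hom ≫
              Limits.pullback.fst hX (Spec.map (CommRingCat.ofHom (algebraMap k (DualNumber k)))) =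
            Spec.map (CommRingCat.ofHom (algebraMap k (DualNumber k))) ≫ p j := by
  have hfst : Function.Surjective (TrivSqZeroExt.fstHom k k k).toRingHom := fun c => ⟨TrivSqZeroExt.inl c, rfl⟩
  haveI : IsClosedImmersion (Spec.map (CommRingCat.ofHom (TrivSqZeroExt.fstHom k k k).toRingHom)) :=
    IsClosedImmersion.spec_of_surjective _ hfst
  haveI : Surjective (Spec.map (CommRingCat.ofHom (TrivSqZeroExt.fstHom k k k).toRingHom)) := by
    refine ⟨fun q => ?_⟩
    have hq : q ∈ Set.range (PrimeSpectrum.comap (TrivSqZeroExt.fstHom k k k).toRingHom) := by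
      rw [range_comap_of_surjective _ _ hfst, PrimeSpectrum.mem_zeroLocus]
      intro x hx
      refine q.2.mem_of_pow_mem 2 ?_
      have h2 : x ^ 2 = 0 := by
        have hf : TrivSqZeroExt.fst x = 0 := hx
        ext <;> simp [sq, hf]
      rw [h2]; exact zero_mem _
    exact hq
  haveI : IsClosedImmersion i := MorphismProperty.of_isPullback hsq.flip inferInstance
  haveI : Surjective i := MorphismProperty.of_isPullback hsq.flip inferInstance
  haveI : IsAffine X' := Groth.FlatMor2.isAffine_of_surjective_closedImmersion i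
  let eX := X.isoSpec
  let eX' := X'.isoSpec
  obtain ⟨a, ha⟩ : ∃ a : CommRingCat.of k ⟶ Γ(X, ⊤), Spec.map a = eX.inv ≫ hX := ⟨_, Spec.map_preimage _⟩
  obtain ⟨φ, hφ⟩ : ∃ φ : CommRingCat.of (DualNumber k) ⟶ Γ(X', ⊤), Spec.map φ = eX'.inv ≫ g :=
    ⟨_, Spec.map_preimage _⟩
  obtain ⟨ψ, hψ⟩ : ∃ ψ : Γ(X', ⊤) ⟶ Γ(X, ⊤), Spec.map ψ = eX.inv ≫ i ≫ eX'.hom := ⟨_, Spec.map_preimage _⟩
  choose π hπ using fun j => (⟨_, Spec.map_preimage (p j ≫ eX.hom)⟩ :
    ∃ π : Γ(X, ⊤) ⟶ CommRingCat.of k, Spec.map π = p j ≫ eX.hom)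
  choose π' hπ' using fun j => (⟨_, Spec.map_preimage (p' j ≫ eX'.hom)⟩ :
    ∃ π : Γ(X', ⊤) ⟶ CommRingCat.of (DualNumber k), Spec.map π = p' j ≫ eX'.hom)
  have hpb : IsPullback (Spec.map ψ) (Spec.map a) (Spec.map φ)
      (Spec.map (CommRingCat.ofHom (TrivSqZeroExt.fstHom k k k).toRingHom)) := by
    refine hsq.of_iso eX eX' (Iso.refl _) (Iso.refl _) ?_ ?_ ?_ ?_
    · simp [hψ]
    · simp [ha]
    · simp [hφ]
    · simp
  have hpo : IsPushout φ (CommRingCat.ofHom (TrivSqZeroExt.fstHom k k k).toRingHom) ψ a :=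
    (IsPullback.of_map_of_faithful Scheme.Spec (f := ψ.op) (g := a.op)
      (h := φ.op) (i := (CommRingCat.ofHom (TrivSqZeroExt.fstHom k k k).toRingHom).op) hpb).unop.flip
  have hflat : Flat (Spec.map φ) := by rw [hφ]; infer_instance
  have hsm : Smooth (Spec.map a) := by rw [ha]; infer_instance
  rw [HasRingHomProperty.Spec_iff (P := @Smooth)] at hsm
  letI : Algebra (DualNumber k) Γ(X', ⊤) := φ.hom.toAlgebra
  letI : Algebra k Γ(X', ⊤) := (φ.hom.comp (algebraMap k (DualNumber k))).toAlgebra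
  haveI : IsScalarTower k (DualNumber k) Γ(X', ⊤) := ⟨fun c d z => by
    rw [show c • d = algebraMap k (DualNumber k) c * d from by
      rw [TrivSqZeroExt.algebraMap_eq_inl, TrivSqZeroExt.inl_mul_eq_smul]]
    exact ((congrArg (· * z) (map_mul φ.hom _ _)).trans (mul_assoc _ _ _))⟩
  letI : Algebra k Γ(X, ⊤) := a.hom.toAlgebra
  haveI : Algebra.Smooth k Γ(X, ⊤) := hsm
  haveI : Module.Flat (DualNumber k) Γ(X', ⊤) := Flat.SpecMap_iff.1 hflat
  let ψA : Γ(X', ⊤) →ₐ[k] Γ(X, ⊤) :=
    { ψ.hom with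
      commutes' := fun c => by
        show ψ (φ (algebraMap k (DualNumber k) c)) = a c
        exact (congr($(hpo.w) (algebraMap k (DualNumber k) c))).trans (by
          simp [TrivSqZeroExt.algebraMap_eq_inl]) }
  let πA : ι → (Γ(X, ⊤) →ₐ[k] k) := fun j =>
    { (π j).hom with
      commutes' := fun c => by
        have : a ≫ π j = 𝟙 _ := Spec.map_injective (by
          rw [Spec.map_comp, hπ, ha, Spec.map_id, Category.assoc, eX.hom_inv_id_assoc, hp])
        exact congr($this c) }
  let πA' : ι → (Γ(X', ⊤) →ₐ[DualNumber k] DualNumber k) := fun j =>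
    { (π' j).hom with
      commutes' := fun c => by
        have : φ ≫ π' j = 𝟙 _ := Spec.map_injective (by
          rw [Spec.map_comp, hπ', hφ, Spec.map_id, Category.assoc, eX'.hom_inv_id_assoc, hp'])
        exact congr($this c) }
  obtain ⟨σ, hσψ, hσπ, hσbc⟩ := exists_marked_splitting ψA
    (Groth.FlatMor2.surjective_of_isPushout hpo hfst)
    (by
      show RingHom.ker ψ.hom = _
      rw [Groth.FlatMor2.ker_eq_map_of_isPushout hpo hfst]
      apply le_antisymm
      · refine Ideal.map_le_iff_le_comap.2 fun d hd => ?_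
        have hf : TrivSqZeroExt.fst d = 0 := hd
        rw [Ideal.mem_comap, dual_eq d, hf, map_zero, zero_add, map_mul]
        exact Ideal.mul_mem_left _ _ (Ideal.mem_span_singleton_self _)
      · rw [Ideal.span_singleton_le_iff_mem]
        exact Ideal.mem_map_of_mem _ (show TrivSqZeroExt.fst (DualNumber.eps : DualNumber k) = 0 from DualNumber.fst_eps))
    πA (fun j l h => hinj (by
      have : π j = π l := CommRingCat.hom_ext (RingHom.ext fun b => DFunLike.congr_fun h b)
      rw [← cancel_mono eX.hom, ← hπ, ← hπ, this]))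
    πA' (fun j z => by
      have : π' j ≫ CommRingCat.ofHom (TrivSqZeroExt.fstHom k k k).toRingHom = ψ ≫ π j := Spec.map_injective (by
        rw [Spec.map_comp, Spec.map_comp, hπ', hπ, hψ, Category.assoc, eX.hom_inv_id_assoc,
          reassoc_of% hpp' j])
      exact congr($this z))
  let s : Γ(X, ⊤) ⟶ Γ(X', ⊤) := CommRingCat.ofHom σ.toRingHom
  have hpo' : IsPushout (CommRingCat.ofHom (algebraMap k (DualNumber k))) a φ s := by
    letI := σ.toRingHom.toAlgebra
    haveI : IsScalarTower k Γ(X, ⊤) Γ(X', ⊤) := IsScalarTower.of_algebraMap_eq fun c => (σ.commutes c).symm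
    haveI : Algebra.IsPushout k (DualNumber k) Γ(X, ⊤) Γ(X', ⊤) := ⟨hσbc⟩
    exact CommRingCat.isPushout_of_isPushout k (DualNumber k) Γ(X, ⊤) Γ(X', ⊤)
  have hpb' : IsPullback (eX'.hom ≫ Spec.map s ≫ eX.inv) g hX
      (Spec.map (CommRingCat.ofHom (algebraMap k (DualNumber k)))) := by
    refine (isPullback_SpecMap_of_isPushout _ _ _ _ hpo'.flip).of_iso eX'.symm eX.symm (Iso.refl _) (Iso.refl _) ?_ ?_ ?_ ?_
    · simp
    · simp [hφ]
    · simp [ha]
    · simp
  refine ⟨hpb'.isoPullback, hpb'.isoPullback_hom_snd, ?_, fun j => ?_⟩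
  · rw [hpb'.isoPullback_hom_fst, ← cancel_epi eX.inv, Category.comp_id]
    have : s ≫ ψ = 𝟙 _ := CommRingCat.hom_ext (RingHom.ext hσψ)
    rw [← reassoc_of% hψ, ← Spec.map_comp_assoc, this, Spec.map_id, Category.id_comp]
  · rw [hpb'.isoPullback_hom_fst]
    have : s ≫ π' j = π j ≫ CommRingCat.ofHom (algebraMap k (DualNumber k)) :=
      CommRingCat.hom_ext (RingHom.ext (hσπ j))
    rw [← reassoc_of% hπ' j, ← Spec.map_comp_assoc, this, Spec.map_comp, Category.assoc, hπ,
      Category.assoc, eX.hom_inv_id, Category.comp_id]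

end Groth.ArtfunDeform.TrivialMarked
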