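import Groth.Agent.ArtfunDeform.FSNilpotent
import Mathlib.RingTheory.Kaehler.JacobiZariski
import Mathlib.RingTheory.Smooth.Basic
import Mathlib.Algebra.Polynomial.Derivation
import Mathlib.Algebra.Polynomial.AlgebraMap
import Mathlib.LinearAlgebra.TensorProduct.RightExactness

/-!
Flat algebras over `k[X]/(X^(n+1))` with smooth closed fibre: the structure of their differentials.
-/

set_option autoImplicit false
set_option linter.style.longLine false

universe u

open Polynomial TensorProduct KaehlerDifferential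

namespace Groth.ArtfunDeform.TruncatedFlat

variable {k : Type u} [Field k] {n : ℕ} {D : Type u} [CommRing D] [Algebra k D] {τ : D}

/-- every element is a polynomial in `τ` -/
theorem exists_aeval (e : (k[X] ⧸ Ideal.span {(X : k[X]) ^ (n + 1)}) ≃ₐ[k] D)
    (he : e (Ideal.Quotient.mk (Ideal.span {(X : k[X]) ^ (n + 1)}) X) = τ) :
    (∀ x : D, ∃ P : k[X], aeval τ P = x) ∧ (∀ P : k[X], aeval τ P = 0 ↔ (X : k[X]) ^ (n + 1) ∣ P) := by
  have h : aeval τ = e.toAlgHom.comp (Ideal.Quotient.mkₐ k _) := Polynomial.algHom_ext (by simp [he])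
  refine ⟨fun x => ?_, fun P => ?_⟩
  · obtain ⟨P, hP⟩ := Ideal.Quotient.mk_surjective (e.symm x)
    exact ⟨P, by rw [h]; simp [hP]⟩
  · rw [h, ← Ideal.mem_span_singleton]
    simp [Ideal.Quotient.eq_zero_iff_mem]

variable {B : Type u} [CommRing B] [Algebra k B] [Algebra D B] [IsScalarTower k D B] {t : B}

theorem algebraMap_aeval (ht : t = algebraMap D B τ) (P : k[X]) : algebraMap D B (aeval τ P) = aeval t P := by
  rw [ht, aeval_algebraMap_apply]

theorem pow_succ_eq_zero (e : (k[X] ⧸ Ideal.span {(X : k[X]) ^ (n + 1)}) ≃ₐ[k] D)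
    (he : e (Ideal.Quotient.mk (Ideal.span {(X : k[X]) ^ (n + 1)}) X) = τ) (ht : t = algebraMap D B τ) :
    t ^ (n + 1) = 0 := by
  have : aeval τ ((X : k[X]) ^ (n + 1)) = 0 := ((exists_aeval e he).2 _).2 dvd_rfl
  rw [map_pow, aeval_X] at this
  rw [ht, ← map_pow, this, map_zero]

theorem formallySmooth (e : (k[X] ⧸ Ideal.span {(X : k[X]) ^ (n + 1)}) ≃ₐ[k] D)
    (he : e (Ideal.Quotient.mk (Ideal.span {(X : k[X]) ^ (n + 1)}) X) = τ) [Module.Flat D B]
    (ht : t = algebraMap D B τ) (hsm : Algebra.Smooth k (B ⧸ Ideal.span {t})) :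
    Algebra.FormallySmooth D B := by
  obtain ⟨hsurj, hzero⟩ := exists_aeval e he
  choose rep hrep using hsurj
  have hwd : ∀ P Q : k[X], aeval τ P = aeval τ Q → P.eval 0 = Q.eval 0 := by
    intro P Q h
    obtain ⟨R, hR⟩ := (hzero (P - Q)).1 (by rw [map_sub, h, sub_self])
    have := congrArg (Polynomial.eval 0) hR
    rw [eval_sub, eval_mul, eval_pow, eval_X, zero_pow (Nat.succ_ne_zero n), zero_mul, sub_eq_zero] at this
    exact this
  let qR : D →+* k :=
    { toFun := fun x => (rep x).eval 0
      map_one' := by rw [hwd (rep 1) 1 (by rw [hrep, map_one]), eval_one]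
      map_zero' := by rw [hwd (rep 0) 0 (by rw [hrep, map_zero]), eval_zero]
      map_add' := fun x y => by rw [hwd (rep (x + y)) (rep x + rep y) (by rw [hrep, map_add, hrep, hrep]), eval_add]
      map_mul' := fun x y => by rw [hwd (rep (x * y)) (rep x * rep y) (by rw [hrep, map_mul, hrep, hrep]), eval_mul] }
  have hqR : ∀ P, qR (aeval τ P) = P.eval 0 := fun P => hwd _ _ (hrep _)
  have hker : RingHom.ker qR = Ideal.span {τ} := by
    refine le_antisymm (fun x hx => ?_) ((Ideal.span_singleton_le_iff_mem _).2 ?_)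
    · obtain ⟨R, hR⟩ := (X_dvd_iff (f := rep x)).2 (by rw [coeff_zero_eq_eval_zero]; exact hx)
      rw [← hrep x, hR, map_mul, aeval_X]
      exact Ideal.mul_mem_right _ _ (Ideal.mem_span_singleton_self τ)
    · have := hqR X
      rw [aeval_X, eval_X] at this
      exact this
  rw [← RingHom.formallySmooth_algebraMap]
  refine formallySmooth_of_flat_of_isNilpotent (algebraMap D B) (RingHom.flat_algebraMap_iff.2 inferInstance)
    qR (Ideal.Quotient.mk (Ideal.span {t})) (algebraMap k (B ⧸ Ideal.span {t})) (fun c => ⟨aeval τ (Polynomial.C c), by rw [hqR, eval_C]⟩)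
    Ideal.Quotient.mk_surjective (RingHom.ext fun x => ?_) ⟨n + 1, ?_⟩ ?_ ?_
  · obtain ⟨P, rfl⟩ := (exists_aeval e he).1 x
    rw [RingHom.comp_apply, RingHom.comp_apply, hqR, algebraMap_aeval ht]
    induction P using Polynomial.induction_on' with
    | add p q hp hq => rw [map_add, map_add, hp, hq, eval_add, map_add]
    | monomial i a =>
      rw [aeval_monomial, map_mul, map_pow, Ideal.Quotient.eq_zero_iff_mem.2 (Ideal.mem_span_singleton_self t),
        Ideal.Quotient.mk_algebraMap, eval_monomial, map_mul, map_pow, map_zero]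
  · rw [hker, Ideal.span_singleton_pow]
    simpa using ((exists_aeval e he).2 ((X : k[X]) ^ (n + 1))).2 dvd_rfl
  · rw [Ideal.mk_ker, hker, Ideal.map_span, Set.image_singleton, ht]
  · exact RingHom.formallySmooth_algebraMap.2 inferInstance

/-- `d` of a polynomial in `τ` -/
theorem D_aeval (P : k[X]) :
    KaehlerDifferential.D k D (aeval τ P) = aeval τ (derivative P) • KaehlerDifferential.D k D τ := by
  induction P using Polynomial.induction_on' with
  | add p q hp hq => simp only [map_add, hp, hq, add_smul]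
  | monomial i a =>
    rw [aeval_monomial, derivative_monomial, aeval_monomial, Derivation.leibniz, Derivation.map_algebraMap,
      smul_zero, add_zero, Derivation.leibniz_pow, map_mul, map_natCast]
    simp only [smul_eq_mul, ← Nat.cast_smul_eq_nsmul D, smul_smul]
    ring_nf

theorem range_mapBaseChange (e : (k[X] ⧸ Ideal.span {(X : k[X]) ^ (n + 1)}) ≃ₐ[k] D)
    (he : e (Ideal.Quotient.mk (Ideal.span {(X : k[X]) ^ (n + 1)}) X) = τ) (ht : t = algebraMap D B τ)
    (η : Ω[B⁄k]) : KaehlerDifferential.map k D B B η = 0 ↔ ∃ b : B, η = b • KaehlerDifferential.D k B t := by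
  refine ⟨fun h => ?_, ?_⟩
  · obtain ⟨z, rfl⟩ := (exact_mapBaseChange_map k D B η).1 h
    induction z with
    | zero => exact ⟨0, by simp⟩
    | add x y hx hy =>
      obtain ⟨b, hb⟩ := hx (exact_mapBaseChange_map k D B |>.apply_apply_eq_zero x)
      obtain ⟨c, hc⟩ := hy (exact_mapBaseChange_map k D B |>.apply_apply_eq_zero y)
      exact ⟨b + c, by rw [map_add, hb, hc, add_smul]⟩
    | tmul b ω =>
      have hω : ∃ c : B, mapBaseChange k D B ((1 : B) ⊗ₜ ω) = c • KaehlerDifferential.D k B t := by
        have hmem : ω ∈ Submodule.span D (Set.range (KaehlerDifferential.D k D)) := by rw [span_range_derivation]; trivial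
        clear h
        induction hmem using Submodule.span_induction with
        | mem x hx =>
          obtain ⟨y, rfl⟩ := hx
          obtain ⟨P, rfl⟩ := (exists_aeval e he).1 y
          exact ⟨algebraMap D B (aeval τ (derivative P)), by
            rw [D_aeval, tmul_smul, LinearMap.map_smul_of_tower, mapBaseChange_tmul, one_smul, map_D,
              algebraMap_smul, ht]⟩
        | zero => exact ⟨0, by simp⟩
        | add x y _ _ hx hy =>
          obtain ⟨a, ha⟩ := hx
          obtain ⟨c, hc⟩ := hy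
          exact ⟨a + c, by rw [tmul_add, map_add, ha, hc, add_smul]⟩
        | smul r x _ hx =>
          obtain ⟨a, ha⟩ := hx
          exact ⟨algebraMap D B r * a, by rw [tmul_smul, LinearMap.map_smul_of_tower, ha, mul_smul, algebraMap_smul]⟩
      obtain ⟨c, hc⟩ := hω
      refine ⟨b * c, ?_⟩
      rw [mul_smul, ← hc, ← map_smul, TensorProduct.smul_tmul', smul_eq_mul, mul_one]
  · rintro ⟨b, rfl⟩
    rw [map_smul, map_D, Algebra.algebraMap_self, RingHom.id_apply, ht, Derivation.map_algebraMap, smul_zero]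

theorem pow_smul_D [CharZero k] (e : (k[X] ⧸ Ideal.span {(X : k[X]) ^ (n + 1)}) ≃ₐ[k] D)
    (he : e (Ideal.Quotient.mk (Ideal.span {(X : k[X]) ^ (n + 1)}) X) = τ) (ht : t = algebraMap D B τ) :
    t ^ n • KaehlerDifferential.D k B t = 0 := by
  have h : KaehlerDifferential.D k B (t ^ (n + 1)) = 0 := by rw [pow_succ_eq_zero e he ht, map_zero]
  rw [Derivation.leibniz_pow, Nat.add_sub_cancel, ← Nat.cast_smul_eq_nsmul k] at h
  exact (smul_eq_zero.1 h).resolve_left (Nat.cast_ne_zero.2 (Nat.succ_ne_zero n))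

/-- A functional on `Ω_{B/k}` taking the value one at `dt`. -/
theorem exists_sigma (e : (k[X] ⧸ Ideal.span {(X : k[X]) ^ (n + 1)}) ≃ₐ[k] D)
    (he : e (Ideal.Quotient.mk (Ideal.span {(X : k[X]) ^ (n + 1)}) X) = τ) (ht : t = algebraMap D B τ)
    [Algebra.FormallySmooth D B] :
    ∃ σ : Ω[B⁄k] →ₗ[B] B ⧸ Ideal.span {t ^ n}, σ (KaehlerDifferential.D k B t) = 1 := by
  obtain ⟨hsurj, hzero⟩ := exists_aeval e he
  choose rep hrep using hsurj
  have hwd : ∀ P Q : k[X], aeval τ P = aeval τ Q →
      Ideal.Quotient.mk (Ideal.span {t ^ n}) (aeval t (derivative P)) = Ideal.Quotient.mk _ (aeval t (derivative Q)) := by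
    intro P Q h
    obtain ⟨R, hR⟩ := (hzero (P - Q)).1 (by rw [map_sub, h, sub_self])
    rw [Ideal.Quotient.eq, ← map_sub, ← derivative_sub, hR, derivative_mul, derivative_X_pow, map_add, map_mul,
      map_mul, map_mul, Nat.add_sub_cancel, map_pow, map_pow, aeval_X, pow_succ]
    refine add_mem (Ideal.mul_mem_right _ _ (Ideal.mul_mem_left _ _ (Ideal.mem_span_singleton_self _)))
      (Ideal.mul_mem_right _ _ (Ideal.mul_mem_right _ _ (Ideal.mem_span_singleton_self _)))
  let q := Ideal.Quotient.mk (Ideal.span {t ^ n})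
  let dl : Derivation k D (B ⧸ Ideal.span {t ^ n}) := Derivation.mk'
    { toFun := fun x => q (aeval t (derivative (rep x)))
      map_add' := fun x y => by
        rw [← map_add q, ← map_add, ← derivative_add]
        exact hwd _ _ (by rw [hrep, map_add, hrep, hrep])
      map_smul' := fun c x => by
        refine (hwd (rep (c • x)) (c • rep x) (by rw [hrep, map_smul, hrep])).trans ?_
        rw [derivative_smul, map_smul, RingHom.id_apply]
        exact (Ideal.Quotient.mkₐ k (Ideal.span {t ^ n})).toLinearMap.map_smul c _ }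
    (fun x y => by
      refine (hwd (rep (x * y)) (rep x * rep y) (by rw [hrep, map_mul, hrep, hrep])).trans ?_
      show _ = x • q _ + y • q _
      rw [Algebra.smul_def, Algebra.smul_def, derivative_mul, map_add, map_add, map_mul, map_mul, map_mul, map_mul,
        ← algebraMap_aeval ht (rep x), ← algebraMap_aeval ht (rep y), hrep, hrep,
        IsScalarTower.algebraMap_apply D B (B ⧸ Ideal.span {t ^ n}), IsScalarTower.algebraMap_apply D B (B ⧸ Ideal.span {t ^ n}),
        Ideal.Quotient.algebraMap_eq]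
      ring)
  let ε : B ⊗[D] Ω[D⁄k] →ₗ[B] B ⧸ Ideal.span {t ^ n} := dl.liftKaehlerDifferential.liftBaseChange B
  have hinj : Function.Injective (mapBaseChange k D B) := by
    rw [injective_iff_map_eq_zero]
    intro z hz
    obtain ⟨y, rfl⟩ := (Algebra.H1Cotangent.exact_δ_mapBaseChange k D B z).1 hz
    rw [Subsingleton.elim y 0, map_zero]
  obtain ⟨s, hs⟩ := Module.projective_lifting_property (KaehlerDifferential.map k D B B) LinearMap.id
    (KaehlerDifferential.map_surjective k D B)
  have hr : ∀ η, η - s (KaehlerDifferential.map k D B B η) ∈ LinearMap.range (mapBaseChange k D B) := fun η => by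
    refine (exact_mapBaseChange_map k D B _).1 ?_
    rw [map_sub, ← LinearMap.comp_apply (KaehlerDifferential.map k D B B) s, hs, LinearMap.id_apply, sub_self]
  let ρ : Ω[B⁄k] →ₗ[B] B ⊗[D] Ω[D⁄k] := (LinearEquiv.ofInjective _ hinj).symm.toLinearMap ∘ₗ
    LinearMap.codRestrict _ (LinearMap.id - s ∘ₗ KaehlerDifferential.map k D B B) hr
  have hρ : ρ (KaehlerDifferential.D k B t) = 1 ⊗ₜ KaehlerDifferential.D k D τ := by
    apply hinj
    have e1 : mapBaseChange k D B (ρ (KaehlerDifferential.D k B t)) =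
        KaehlerDifferential.D k B t - s (KaehlerDifferential.map k D B B (KaehlerDifferential.D k B t)) :=
      congrArg Subtype.val (LinearEquiv.apply_symm_apply (LinearEquiv.ofInjective _ hinj) _)
    rw [e1, mapBaseChange_tmul, one_smul, map_D, map_D, Algebra.algebraMap_self, RingHom.id_apply, ← ht]
    conv_lhs => arg 2; rw [ht, Derivation.map_algebraMap, map_zero]
    rw [sub_zero]
  refine ⟨ε ∘ₗ ρ, ?_⟩
  rw [LinearMap.comp_apply, hρ]
  simp only [ε, LinearMap.liftBaseChange_tmul, one_smul, Derivation.liftKaehlerDifferential_comp_D]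
  show q (aeval t (derivative (rep τ))) = 1
  exact (hwd (rep τ) X (by rw [hrep, aeval_X])).trans (by simp)

/-- the kernel of the base change of `Ω_{B/k} → Ω_{B/D}` is generated by `1 ⊗ dt` -/
theorem exact_baseChange (e : (k[X] ⧸ Ideal.span {(X : k[X]) ^ (n + 1)}) ≃ₐ[k] D)
    (he : e (Ideal.Quotient.mk (Ideal.span {(X : k[X]) ^ (n + 1)}) X) = τ) (ht : t = algebraMap D B τ)
    (B' : Type u) [CommRing B'] [Algebra B B'] :
    Function.Exact (LinearMap.toSpanSingleton B' (B' ⊗[B] Ω[B⁄k]) (1 ⊗ₜ[B] KaehlerDifferential.D k B t))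
      (LinearMap.baseChange B' (KaehlerDifferential.map k D B B)) := by
  have hex : Function.Exact (LinearMap.toSpanSingleton B _ (KaehlerDifferential.D k B t))
      (KaehlerDifferential.map k D B B) := fun η =>
    (range_mapBaseChange e he ht η).trans ⟨fun ⟨b, hb⟩ => ⟨b, hb.symm⟩, fun ⟨b, hb⟩ => ⟨b, hb.symm⟩⟩
  intro z
  refine ((lTensor_exact B' hex (KaehlerDifferential.map_surjective k D B)) z).trans ⟨?_, ?_⟩
  · rintro ⟨w, rfl⟩
    refine ⟨TensorProduct.rid B B' w, ?_⟩
    induction w with
    | zero => simp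
    | add x y hx hy => simp only [map_add, hx, hy]
    | tmul c b =>
      rw [TensorProduct.rid_tmul, LinearMap.lTensor_tmul, LinearMap.toSpanSingleton_apply,
        LinearMap.toSpanSingleton_apply, TensorProduct.smul_tmul', smul_eq_mul, mul_one, TensorProduct.smul_tmul]
  · rintro ⟨c, rfl⟩
    exact ⟨c ⊗ₜ 1, by simp [TensorProduct.smul_tmul']⟩

end Groth.ArtfunDeform.TruncatedFlat
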