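import Groth.Agent.ArtfunDeform.AlgDef.HullDim
import Groth.Agent.ArtfunDeform.Completion
import Groth.Agent.ArtfunDeform.PSIso
import Groth.Agent.ArtfunDeform.Prorep
import Groth.Agent.Calg1.CompletionLocal
import Mathlib.RingTheory.MvPowerSeries.NoZeroDivisors

/-!
A local Noetherian algebra with rational residue field carrying a universal family: cotangent space and
regularity from the functor.
-/

set_option linter.style.haveILetI false
set_option linter.style.longLine false

universe u v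

open CategoryTheory

namespace Groth.ArtfunDeform.UniversalLocal

open ArtFun ArtFun.Art

variable {Λ : Type u} {k : Type u} [CommRing Λ] [Field k] [Algebra Λ k]

local notation "𝔪" => IsLocalRing.maximalIdeal

/-- The completion at an augmentation is a coefficient ring with the expected universal property. -/
theorem exists_cring_completion' {S : Type u} [CommRing S] [Algebra Λ S] [IsNoetherianRing S]
    (π : S →ₐ[Λ] k) (hπ : Function.Surjective π) :
    ∃ (C : CRing Λ k) (ι : S →ₐ[Λ] C.carrier), C.res.comp ι = π ∧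
      Nonempty (AdicCompletion (RingHom.ker π) S ≃+* C.carrier) ∧ ∀ A : Art Λ k,
      ∀ ψ : HomSet S π A, ∃! φ : HomSet C.carrier C.res A, φ.1.comp ι = ψ.1 := by
  let P : Ideal S := RingHom.ker π
  haveI hmax : P.IsMaximal := RingHom.ker_isMaximal_of_surjective π.toRingHom hπ
  have hfg : P.FG := P.fg_of_isNoetherianRing
  let T := AdicCompletion P S
  let J : Ideal T := P.map (algebraMap S T)
  haveI : J.IsMaximal := AdicCompletion.isMaximal_map_of_le P P le_rfl hfg
  haveI : IsAdicComplete J T := AdicCompletion.isAdicComplete_self P hfg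
  haveI : IsLocalRing T := isLocalRing_of_isAdicComplete_maximal J
  haveI : IsNoetherianRing T := isNoetherianRing_completion P
  have hJm : 𝔪 T = J := (IsLocalRing.eq_maximalIdeal ‹J.IsMaximal›).symm
  let e₁ : T →ₐ[Λ] S ⧸ P := (AdicCompletion.evalOneₐ P).restrictScalars Λ
  let r : T →ₐ[Λ] k := (Ideal.kerLiftAlg π).comp e₁
  have hι : ∀ s : S, r (algebraMap S T s) = π s := fun s => by
    change Ideal.kerLiftAlg π (AdicCompletion.evalOneₐ P (algebraMap S T s)) = π s
    rw [AlgHom.commutes]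
    rfl
  let C : CRing Λ k :=
    { carrier := T
      res := r
      res_surjective := fun c => by
        obtain ⟨s, hs⟩ := hπ c
        exact ⟨algebraMap S T s, (hι s).trans hs⟩
      isAdicComplete := by rw [hJm]; infer_instance }
  let ι : S →ₐ[Λ] C.carrier := IsScalarTower.toAlgHom Λ S T
  refine ⟨C, ι, AlgHom.ext hι, ⟨RingEquiv.refl T⟩, fun A ψ => ?_⟩
  obtain ⟨N, hN⟩ := exists_pow_maximalIdeal_eq_bot A
  have hker : ∀ s ∈ P ^ (N + 1), ψ.1 s = 0 := fun s hs => by
    have h1 : P.map ψ.1 ≤ 𝔪 A := Ideal.map_le_iff_le_comap.2 fun x hx => by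
      rw [Ideal.mem_comap, A.mem_maximalIdeal_iff, homSet_res]
      exact hx
    have : ψ.1 s ∈ (𝔪 A) ^ (N + 1) :=
      Ideal.pow_right_mono h1 (N + 1) (by rw [← Ideal.map_pow]; exact Ideal.mem_map_of_mem _ hs)
    rwa [hN, Ideal.mem_bot] at this
  let φ₀ : T →ₐ[Λ] A :=
    (Ideal.Quotient.liftₐ (P ^ (N + 1)) ψ.1 hker).comp ((AdicCompletion.evalₐ P (N + 1)).restrictScalars Λ)
  have hφ₀ : φ₀.comp ι = ψ.1 := AlgHom.ext fun s => by
    change Ideal.Quotient.liftₐ _ ψ.1 hker (AdicCompletion.evalₐ P (N + 1) (algebraMap S T s)) = _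
    rw [AlgHom.commutes]
    rfl
  have dense : ∀ x : T, ∃ s : S, x - algebraMap S T s ∈ 𝔪 T ^ (N + 1) := by
    intro x
    obtain ⟨s, hs⟩ := Ideal.Quotient.mk_surjective (AdicCompletion.evalₐ P (N + 1) x)
    refine ⟨s, ?_⟩
    have h1 : AdicCompletion.evalₐ P (N + 1) (x - algebraMap S T s) = 0 := by
      rw [map_sub, AlgHom.commutes, ← hs]
      exact sub_self _
    have h3 : x - algebraMap S T s ∈ (AdicCompletion.eval P S (N + 1)).ker := by
      rw [LinearMap.mem_ker, ← AdicCompletion.factor_evalₐ_eq_eval P (x - algebraMap S T s)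
        (by rw [smul_eq_mul, Ideal.mul_top]), h1, map_zero]
    rw [← AdicCompletion.pow_smul_top_eq_ker_eval hfg, Ideal.smul_top_eq_map,
      Submodule.restrictScalars_mem, Ideal.map_pow] at h3
    rwa [hJm]
  have agree : ∀ (φ φ' : T →ₐ[Λ] A), (∀ x ∈ 𝔪 T, φ x ∈ 𝔪 A) → (∀ x ∈ 𝔪 T, φ' x ∈ 𝔪 A) →
      (∀ s, φ (algebraMap S T s) = φ' (algebraMap S T s)) → φ = φ' := by
    intro φ φ' h h' hs
    refine AlgHom.ext fun x => ?_
    obtain ⟨s, hx⟩ := dense x
    have z : ∀ (g : T →ₐ[Λ] A), (∀ x ∈ 𝔪 T, g x ∈ 𝔪 A) → g x = g (algebraMap S T s) := fun g hg => by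
      have h1 : (𝔪 T).map g ≤ 𝔪 A := Ideal.map_le_iff_le_comap.2 hg
      have : g (x - algebraMap S T s) ∈ (𝔪 A) ^ (N + 1) :=
        Ideal.pow_right_mono h1 (N + 1) (by rw [← Ideal.map_pow]; exact Ideal.mem_map_of_mem _ hx)
      rwa [hN, Ideal.mem_bot, map_sub, sub_eq_zero] at this
    rw [z φ h, z φ' h', hs]
  have hlocal : ∀ (φ : HomSet C.carrier C.res A), ∀ x ∈ 𝔪 T, φ.1 x ∈ 𝔪 A := fun φ x hx => by
    rw [A.mem_maximalIdeal_iff, homSet_res, ← CRing.mem_maximalIdeal_iff]
    exact hx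
  have hφ₀loc : ∀ x ∈ 𝔪 T, φ₀ x ∈ 𝔪 A := by
    rw [hJm]
    change J ≤ (𝔪 A).comap φ₀
    rw [show J = P.map (algebraMap S T) from rfl, Ideal.map_le_iff_le_comap]
    intro s hs
    rw [Ideal.mem_comap, Ideal.mem_comap, A.mem_maximalIdeal_iff,
      show φ₀ (algebraMap S T s) = ψ.1 s from congrArg (fun f : S →ₐ[Λ] A => f s) hφ₀, homSet_res]
    exact hs
  have hφres : A.res.comp φ₀ = C.res := by
    refine AlgHom.ext fun x => ?_
    obtain ⟨s, hx⟩ := dense x
    have hxm : x - algebraMap S T s ∈ 𝔪 T := Ideal.pow_le_self (Nat.succ_ne_zero N) hx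
    have e1 : A.res (φ₀ (x - algebraMap S T s)) = 0 :=
      (A.mem_maximalIdeal_iff _).1 (hφ₀loc _ hxm)
    have e2 : C.res (x - algebraMap S T s) = 0 :=
      (CRing.mem_maximalIdeal_iff C _).1 hxm
    rw [map_sub, map_sub, sub_eq_zero] at e1
    rw [map_sub, sub_eq_zero] at e2
    change A.res (φ₀ x) = C.res x
    rw [e1, e2, show φ₀ (algebraMap S T s) = ψ.1 s from congrArg (fun f : S →ₐ[Λ] A => f s) hφ₀,
      homSet_res]
    exact (hι s).symm
  refine ⟨⟨φ₀, hφres⟩, hφ₀, fun φ hφ => Subtype.ext ?_⟩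
  exact agree φ.1 φ₀ (hlocal φ) hφ₀loc fun s =>
    congrArg (fun f : S →ₐ[Λ] A => f s) (hφ.trans hφ₀.symm)


section Universal

variable {R : Type u} [CommRing R] [IsLocalRing R] [IsNoetherianRing R] [Algebra k R] {res : R →ₐ[k] k}
  {F : Art k k ⥤ Type v}

/-- The completion carries a universal family. -/
theorem exists_hull (hres : Function.Surjective res) (ξ : Family R res F) (hξ : IsUniversal ξ) :
    ∃ (H : Hull F), IsUniversal H.family ∧ (𝔪 H.ring.carrier).spanFinrank = (𝔪 R).spanFinrank ∧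
      ringKrullDim H.ring.carrier = ringKrullDim R ∧
      (IsRegularLocalRing H.ring.carrier → IsRegularLocalRing R) ∧
      Nonempty (AdicCompletion (𝔪 R) R ≃+* H.ring.carrier) := by
  obtain ⟨C, ι, hι, ⟨e⟩, hu⟩ := exists_cring_completion' res hres
  have hker : RingHom.ker res = 𝔪 R := IsLocalRing.eq_maximalIdeal (RingHom.ker_isMaximal_of_surjective res hres)
  have hres' : ∀ (A : Art k k) (φ : HomSet C.carrier C.res A), A.res.comp (φ.1.comp ι) = res := fun A φ => by
    rw [← AlgHom.comp_assoc, φ.2, hι]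
  let η : Family C.carrier C.res F :=
    { app := fun A φ => ξ.app A ⟨φ.1.comp ι, hres' A φ⟩
      natural := fun {A B} f φ => ξ.natural f ⟨φ.1.comp ι, hres' A φ⟩ }
  have hη : IsUniversal η := by
    intro A
    refine (hξ A).comp ⟨fun φ φ' h => ?_, fun ψ => ?_⟩
    · have h' : φ.1.comp ι = φ'.1.comp ι := congrArg Subtype.val h
      exact (hu A ⟨φ.1.comp ι, hres' A φ⟩).unique rfl h'.symm
    · obtain ⟨φ, hφ, -⟩ := hu A ψ
      exact ⟨φ, Subtype.ext hφ⟩
  let e' : AdicCompletion (𝔪 R) R ≃+* C.carrier := hker ▸ e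
  have : IsNoetherianRing (AdicCompletion (𝔪 R) R) := isNoetherianRing_of_ringEquiv _ e'.symm
  refine ⟨⟨C, η, isMiniversal_of_universal η hη⟩, hη, ?_, ?_, fun h => ?_, ⟨e'⟩⟩
  · rw [← AdicCompletion.spanFinrank_maximalIdeal_eq (R := R)]
    have hm : (𝔪 (AdicCompletion (𝔪 R) R)).map e' = 𝔪 C.carrier :=
      IsLocalRing.eq_maximalIdeal (Ideal.map_isMaximal_of_equiv e')
    rw [← hm]
    exact Ideal.spanFinrank_map_eq_of_ringEquiv e' _
  · rw [← ringKrullDim_eq_of_ringEquiv e', Groth.Calg1.ringKrullDim_adicCompletion]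
  · exact (Groth.Calg1.isRegularLocalRing_adicCompletion_iff R).2 (IsRegularLocalRing.of_ringEquiv e'.symm)

/-- The tangent space of the functor has the dimension of the cotangent space. -/
theorem finrank_cotangentSpace [TangentStr F] (hres : Function.Surjective res) (ξ : Family R res F) (hξ : IsUniversal ξ) :
    Module.finrank (IsLocalRing.ResidueField R) (IsLocalRing.CotangentSpace R) =
      Module.finrank k (TangentSpace F) := by
  obtain ⟨H, hH, hspan, -, -, -⟩ := exists_hull hres ξ hξ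
  rw [← IsLocalRing.spanFinrank_maximalIdeal_eq_finrank_cotangentSpace, ← hspan]
  obtain ⟨S, e, θ, C, -, -, -, hC, hCc, hCp⟩ := exists_minPres H.ring (n := (𝔪 H.ring.carrier).spanFinrank) rfl
  let Cinv := Equiv.ofBijective C hC
  have hCi : ∀ φ, Cinv.symm (C φ) = φ := Cinv.symm_apply_apply
  let L : (Fin (𝔪 H.ring.carrier).spanFinrank → k) →ₗ[k] TangentSpace F :=
    { toFun := fun v => H.family.app _ (Cinv.symm v)
      map_add' := fun v w => by
        obtain ⟨φ, rfl⟩ := hC.2 v
        obtain ⟨ψ, rfl⟩ := hC.2 w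
        obtain ⟨χ, h1, h2⟩ := homSet_lift isFibreProd_dual2 φ ψ
          (Subsingleton.elim (α := (hR H.ring.carrier H.ring.res).obj (base k k))
            (h := subsingleton_hR_base _ _) _ _)
        rw [← h1, ← h2, ← hCp, hCi, hCi, hCi, H.family.natural, H.family.natural, H.family.natural]
        exact (TangentStr.add_eq (F := F) (H.family.app _ χ)).symm
      map_smul' := fun c v => by
        obtain ⟨φ, rfl⟩ := hC.2 v
        rw [RingHom.id_apply, ← hCc, hCi, hCi, H.family.natural]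
        exact (TangentStr.smul_eq (F := F) c (H.family.app _ φ)).symm }
  have hL : Function.Bijective L := (hH _).comp Cinv.symm.bijective
  rw [← (LinearEquiv.ofBijective L hL).finrank_eq, Module.finrank_fin_fun]

/-- An unobstructed functor has a regular local ring. -/
theorem isRegularLocalRing_of_smooth (hres : Function.Surjective res) (ξ : Family R res F) (hξ : IsUniversal ξ)
    (hsm : IsSmoothFunctor F) : IsRegularLocalRing R := by
  obtain ⟨H, hH, -, -, hreg, -⟩ := exists_hull hres ξ hξ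
  have hk : Function.Surjective (algebraMap k k) := Function.surjective_id
  have hsmR : IsSmoothFunctor (hR H.ring.carrier H.ring.res) := by
    intro B A μ hμ φ
    obtain ⟨y, hy⟩ := hsm μ hμ (H.family.app A φ)
    obtain ⟨ψ, hψ⟩ := (hH B).2 y
    exact ⟨ψ, (hH A).1 (((H.family.natural μ ψ).trans (congrArg (F.map μ) hψ)).trans hy)⟩
  obtain ⟨m, ⟨e'⟩⟩ := (isSmoothFunctor_iff_ps hk H.ring).1 hsmR
  haveI := Groth.Calg6.isRegularLocalRing_mvPowerSeries k m
  exact hreg (IsRegularLocalRing.of_ringEquiv e'.toRingEquiv.symm)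

end Universal

end Groth.ArtfunDeform.UniversalLocal
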